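import Mathlib
import Cfsg.Prelude.Def_Solvable
import Cfsg.Agent.Lib.Invol.Basic
import Cfsg.Agent.Lib.Solvable.PCore

/-!
# Groups in which every centraliser of an involution is a 2-group

Elements of odd order act fixed point freely on 2-subgroups; the property passes to subgroups and to
quotients by normal 2-subgroups; a nontrivial normal subgroup of odd order forces commuting
involutions to be equal.
-/

set_option autoImplicit false

namespace CfsgLib.Invol.CIT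

open Subgroup

variable {G : Type*} [Group G]

/-- The centraliser of every involution is a 2-group. -/
def IsCIT (G : Type*) [Group G] : Prop :=
  ∀ t : G, orderOf t = 2 → IsPGroup 2 (Subgroup.centralizer ({t} : Set G))

theorem eq_one_of_two_pow_of_odd {x : G} (h : ∃ k, x ^ 2 ^ k = 1) (hx : Odd (orderOf x)) :
    x = 1 := by
  obtain ⟨k, hk⟩ := h
  rw [← orderOf_eq_one_iff]
  exact Nat.eq_one_of_dvd_coprimes ((Nat.coprime_two_right.2 hx).pow_right k) dvd_rfl
    (orderOf_dvd_of_pow_eq_one hk)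

theorem exists_two_pow_of_mem {Q : Subgroup G} (hQ : IsPGroup 2 Q) {x : G} (hx : x ∈ Q) :
    ∃ k, x ^ 2 ^ k = 1 := by
  obtain ⟨k, hk⟩ := hQ ⟨x, hx⟩
  exact ⟨k, congrArg Subtype.val hk⟩

theorem eq_one_of_mem_of_odd {Q : Subgroup G} (hQ : IsPGroup 2 Q) {x : G} (hx : x ∈ Q)
    (hodd : Odd (orderOf x)) : x = 1 :=
  eq_one_of_two_pow_of_odd (exists_two_pow_of_mem hQ hx) hodd

/-- A nontrivial 2-element has a power which is an involution. -/
theorem exists_invol_zpowers {y : G} (hy : ∃ k, y ^ 2 ^ k = 1) (hy1 : y ≠ 1) :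
    ∃ t ∈ zpowers y, orderOf t = 2 := by
  obtain ⟨k, hk⟩ := hy
  obtain ⟨i, -, hi⟩ := (Nat.dvd_prime_pow Nat.prime_two).1 (orderOf_dvd_of_pow_eq_one hk)
  rcases i with _ | i
  · exact absurd (orderOf_eq_one_iff.1 hi) hy1
  · refine ⟨y ^ 2 ^ i, npow_mem_zpowers y _, ?_⟩
    rw [orderOf_pow' _ (pow_ne_zero _ two_ne_zero), hi, Nat.gcd_eq_right (pow_dvd_pow 2 i.le_succ),
      pow_succ, Nat.mul_div_cancel_left _ (pow_pos two_pos i)]

/-- An element commuting with a nontrivial 2-element is a 2-element. -/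
theorem IsCIT.two_pow_of_commute (h : IsCIT G) {x y : G} (hy : ∃ k, y ^ 2 ^ k = 1) (hy1 : y ≠ 1)
    (hc : Commute x y) : ∃ k, x ^ 2 ^ k = 1 := by
  obtain ⟨t, ht, ht2⟩ := exists_invol_zpowers hy hy1
  obtain ⟨i, rfl⟩ := ht
  exact exists_two_pow_of_mem (h _ ht2)
    (mem_centralizer_singleton_iff.2 (hc.zpow_right i).eq)

/-- An element of odd order commuting with a nontrivial 2-element is trivial. -/
theorem IsCIT.eq_one_of_commute (h : IsCIT G) {x y : G} (hx : Odd (orderOf x))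
    (hy : ∃ k, y ^ 2 ^ k = 1) (hy1 : y ≠ 1) (hc : Commute x y) : x = 1 :=
  eq_one_of_two_pow_of_odd (h.two_pow_of_commute hy hy1 hc) hx

theorem IsCIT.eq_one_of_commute_invol (h : IsCIT G) {x t : G} (hx : Odd (orderOf x))
    (ht : orderOf t = 2) (hc : Commute x t) : x = 1 :=
  h.eq_one_of_commute hx ⟨1, by rw [pow_one, pow_two, invol_mul_self ht]⟩ (invol_ne_one ht) hc

theorem IsCIT.of_injective {H : Type*} [Group H] (h : IsCIT G) (f : H →* G)
    (hf : Function.Injective f) : IsCIT H := by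
  intro t ht x
  obtain ⟨k, hk⟩ := h.two_pow_of_commute (x := f x.1) (y := f t)
    ⟨1, by rw [pow_one, pow_two, ← map_mul, invol_mul_self ht, map_one]⟩
    (fun e => invol_ne_one ht (hf (by rw [e, map_one])))
    (Commute.map (mem_centralizer_singleton_iff.1 x.2) f)
  refine ⟨k, Subtype.ext (hf ?_)⟩
  rw [SubmonoidClass.coe_pow, map_pow, hk, OneMemClass.coe_one, map_one]

theorem IsCIT.subgroup (h : IsCIT G) (H : Subgroup G) : IsCIT H :=
  h.of_injective H.subtype H.subtype_injective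

/-- The centraliser of a nontrivial 2-subgroup is a 2-group. -/
theorem IsCIT.isPGroup_centralizer (h : IsCIT G) {Q : Subgroup G} (hQ : IsPGroup 2 Q)
    (hne : Q ≠ ⊥) : IsPGroup 2 (centralizer (Q : Set G)) := by
  obtain ⟨y, hyQ, hy1⟩ := Q.bot_or_exists_ne_one.resolve_left hne
  rintro ⟨x, hx⟩
  obtain ⟨k, hk⟩ := h.two_pow_of_commute (exists_two_pow_of_mem hQ hyQ) hy1
    ((mem_centralizer_iff.1 hx y hyQ).symm : Commute x y)
  exact ⟨k, Subtype.ext hk⟩

/-- An element of odd order normalising a 2-subgroup fixes only the identity there. -/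
theorem IsCIT.eq_one_of_fix (h : IsCIT G) {Q : Subgroup G} (hQ : IsPGroup 2 Q) {x q : G}
    (hx : Odd (orderOf x)) (hx1 : x ≠ 1) (hq : q ∈ Q) (hc : x * q * x⁻¹ = q) : q = 1 := by
  by_contra hq1
  exact hx1 (h.eq_one_of_commute hx (exists_two_pow_of_mem hQ hq) hq1 (mul_inv_eq_iff_eq_mul.1 hc))

/-- The property passes to quotients by normal 2-subgroups. -/
theorem IsCIT.quotient [Finite G] (h : IsCIT G) (N : Subgroup G) [N.Normal] (hN : IsPGroup 2 N) :
    IsCIT (G ⧸ N) := by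
  intro t ht
  haveI : Fact (Nat.Prime 2) := ⟨Nat.prime_two⟩
  obtain ⟨n, hn⟩ : ∃ n, Nat.card (centralizer ({t} : Set (G ⧸ N))) = n := ⟨_, rfl⟩
  refine IsPGroup.of_card (n := n.primeFactorsList.length) ?_
  rw [hn]
  have hpos : n ≠ 0 := hn ▸ Nat.card_pos.ne'
  refine Nat.eq_prime_pow_of_unique_prime_dvd hpos (fun {p} hp hpn => ?_)
  by_contra hp2
  haveI : Fact p.Prime := ⟨hp⟩
  obtain ⟨⟨c', hc'⟩, hcp⟩ := exists_prime_orderOf_dvd_card' (G := centralizer ({t} : Set (G ⧸ N))) p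
    (hn.symm ▸ hpn)
  rw [orderOf_mk] at hcp
  obtain ⟨c, rfl⟩ := QuotientGroup.mk_surjective c'
  obtain ⟨t0, rfl⟩ := QuotientGroup.mk_surjective t
  obtain ⟨a, m, hm, hord⟩ : ∃ a m, ¬ p ∣ m ∧ orderOf c = p ^ a * m :=
    Nat.exists_eq_pow_mul_and_not_dvd (orderOf_pos c).ne' p hp.one_lt.ne'
  set x := c ^ m with hx
  have hxo : orderOf x = p ^ a := by
    rw [hx, orderOf_pow, hord, Nat.gcd_eq_right (dvd_mul_left _ _),
      Nat.mul_div_cancel _ (Nat.pos_of_ne_zero (fun e : m = 0 => hm (by rw [e]; exact dvd_zero p)))]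
  have hx1 : x ≠ 1 := by
    intro e
    refine hm (hcp ▸ orderOf_dvd_of_pow_eq_one ?_)
    rw [← QuotientGroup.mk_pow, ← hx, e, QuotientGroup.mk_one]
  have hxc : Commute (x : G ⧸ N) (t0 : G ⧸ N) := by
    rw [hx, QuotientGroup.mk_pow]
    exact Commute.pow_left (mem_centralizer_singleton_iff.1 hc') m
  -- `⟨x⟩` acts on the coset `t0 N`, of 2-power cardinality
  set S := {y : G | (y : G ⧸ N) = (t0 : G ⧸ N)} with hS
  have hinv : ∀ g : ↥(zpowers x), ∀ y ∈ S, (g : G) * y * (g : G)⁻¹ ∈ S := by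
    rintro ⟨g, i, rfl⟩ y hy
    show ((x ^ i * y * (x ^ i)⁻¹ : G) : G ⧸ N) = _
    rw [QuotientGroup.mk_mul, QuotientGroup.mk_mul, QuotientGroup.mk_inv, QuotientGroup.mk_zpow,
      show ((y : G ⧸ N)) = _ from hy, (hxc.zpow_left i).eq, mul_inv_cancel_right]
  letI : MulAction ↥(zpowers x) ↥S :=
    { smul := fun g y => ⟨(g : G) * y.1 * (g : G)⁻¹, hinv g y.1 y.2⟩
      one_smul := fun y => Subtype.ext (by show (1 : G) * y.1 * (1 : G)⁻¹ = y.1; simp)
      mul_smul := fun g k y => Subtype.ext (by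
        show ((g : G) * k) * y.1 * ((g : G) * k)⁻¹ = (g : G) * ((k : G) * y.1 * (k : G)⁻¹) * (g : G)⁻¹
        simp [mul_assoc]) }
  have hpg : IsPGroup p ↥(zpowers x) := IsPGroup.of_card (n := a) (by rw [Nat.card_zpowers, hxo])
  have hSc : Nat.card ↥S = Nat.card N := by
    refine Nat.card_congr ⟨fun y => ⟨t0⁻¹ * y.1, QuotientGroup.eq.1 y.2.symm⟩,
      fun k => ⟨t0 * k.1, (QuotientGroup.eq.2 (by simpa using k.2)).symm⟩,
      fun y => Subtype.ext (mul_inv_cancel_left _ _), fun k => Subtype.ext (inv_mul_cancel_left _ _)⟩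
  obtain ⟨k, hk⟩ := hN.exists_card_eq
  have hnd : ¬ p ∣ Nat.card ↥S := by
    rw [hSc, hk]
    exact fun e => hp2 ((Nat.prime_dvd_prime_iff_eq hp Nat.prime_two).1 (hp.dvd_of_dvd_pow e))
  obtain ⟨⟨y, hy⟩, hfix⟩ := hpg.nonempty_fixed_point_of_prime_not_dvd_card ↥S hnd
  have hfy : x * y * x⁻¹ = y := congrArg Subtype.val (hfix ⟨x, mem_zpowers x⟩)
  have hy1 : y ≠ 1 := by
    intro e
    refine invol_ne_one ht ?_
    rw [← (hy : (y : G ⧸ N) = _), e, QuotientGroup.mk_one]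
  have hy2 : ∃ i, y ^ 2 ^ i = 1 := by
    have h2 : y ^ 2 ∈ N := by
      rw [← QuotientGroup.eq_one_iff, QuotientGroup.mk_pow, (hy : (y : G ⧸ N) = _), pow_two,
        invol_mul_self ht]
    obtain ⟨i, hi⟩ := exists_two_pow_of_mem hN h2
    exact ⟨i + 1, by rw [pow_succ', pow_mul, hi]⟩
  refine hx1 (h.eq_one_of_commute ?_ hy2 hy1 (mul_inv_eq_iff_eq_mul.1 hfy))
  rw [hxo]
  exact (hp.odd_of_ne_two hp2).pow

/-- An involution acting without fixed points on a finite normal subgroup inverts it. -/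
theorem inverts_of_fpf [Finite G] {N : Subgroup G} [hN : N.Normal] {a : G} (ha : orderOf a = 2)
    (hfix : ∀ n ∈ N, a * n * a⁻¹ = n → n = 1) : ∀ n ∈ N, a * n * a⁻¹ = n⁻¹ := by
  let f : N → N := fun n =>
    ⟨n.1⁻¹ * (a * n.1 * a⁻¹), mul_mem (inv_mem n.2) (hN.conj_mem _ n.2 a)⟩
  have hf : Function.Injective f := by
    intro m n e
    have e' : m.1⁻¹ * (a * m.1 * a⁻¹) = n.1⁻¹ * (a * n.1 * a⁻¹) := congrArg Subtype.val e
    refine Subtype.ext (mul_inv_eq_one.1 (hfix _ (mul_mem n.2 (inv_mem m.2)) ?_)).symm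
    calc a * (n.1 * m.1⁻¹) * a⁻¹ = (a * n.1 * a⁻¹) * (a * m.1 * a⁻¹)⁻¹ := by group
      _ = (n.1 * (n.1⁻¹ * (a * n.1 * a⁻¹))) * (m.1 * (m.1⁻¹ * (a * m.1 * a⁻¹)))⁻¹ := by group
      _ = n.1 * m.1⁻¹ := by rw [e']; group
  intro n hn
  obtain ⟨m, hm⟩ := (Finite.injective_iff_surjective.1 hf) ⟨n, hn⟩
  rw [show n = m.1⁻¹ * (a * m.1 * a⁻¹) from (congrArg Subtype.val hm).symm]
  calc a * (m.1⁻¹ * (a * m.1 * a⁻¹)) * a⁻¹
      = a * m.1⁻¹ * a⁻¹ * (a * a) * m.1 * (a * a)⁻¹ := by group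
    _ = a * m.1⁻¹ * a⁻¹ * m.1 := by rw [invol_mul_self ha, mul_one, inv_one, mul_one]
    _ = (m.1⁻¹ * (a * m.1 * a⁻¹))⁻¹ := by group

theorem odd_orderOf_of_mem [Finite G] {N : Subgroup G} (hN : Odd (Nat.card N)) {x : G}
    (hx : x ∈ N) : Odd (orderOf x) :=
  hN.of_dvd_nat (Subgroup.orderOf_dvd_natCard _ hx)

/-- With a nontrivial normal subgroup of odd order, commuting involutions are equal. -/
theorem IsCIT.invol_eq_of_odd_normal [Finite G] (h : IsCIT G) {N : Subgroup G} [N.Normal]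
    (hne : N ≠ ⊥) (hodd : Odd (Nat.card N)) {a b : G} (ha : orderOf a = 2) (hb : orderOf b = 2)
    (hc : Commute a b) : a = b := by
  have hinv : ∀ {c : G}, orderOf c = 2 → ∀ n ∈ N, c * n * c⁻¹ = n⁻¹ := fun {c} hc2 =>
    inverts_of_fpf hc2 fun n hn e => h.eq_one_of_commute_invol (odd_orderOf_of_mem hodd hn) hc2
      (mul_inv_eq_iff_eq_mul.1 e).symm
  by_contra hab
  obtain ⟨n, hn, hn1⟩ := N.bot_or_exists_ne_one.resolve_left hne
  have hab2 : orderOf (a * b) = 2 := by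
    refine invol_of_mul_self ?_ fun e => hab ?_
    · calc a * b * (a * b) = a * (b * a) * b := by group
        _ = (a * a) * (b * b) := by rw [← hc.eq]; group
        _ = 1 := by rw [invol_mul_self ha, invol_mul_self hb, one_mul]
    · rw [← invol_inv hb]
      exact eq_inv_of_mul_eq_one_left e
  refine hn1 (h.eq_one_of_commute_invol (odd_orderOf_of_mem hodd hn) hab2 ?_)
  have e : a * b * n * (a * b)⁻¹ = n := by
    calc a * b * n * (a * b)⁻¹ = a * (b * n * b⁻¹) * a⁻¹ := by group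
      _ = (a * n * a⁻¹)⁻¹ := by rw [hinv hb n hn]; group
      _ = n := by rw [hinv ha n hn, inv_inv]
  exact (mul_inv_eq_iff_eq_mul.1 e).symm

end CfsgLib.Invol.CIT
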