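import Cfsg.Agent.Lib.Invol.CIT.Basic
import Cfsg.Agent.Lib.Invol.BaerSuzuki

/-!
# A quadratic offender in a group with 2-group involution centralisers

`X` acts faithfully on an elementary abelian 2-group `V`, its nontrivial elements of odd order without
fixed points, and `A` is an elementary abelian subgroup acting quadratically with
`|V| ≤ |A| |C_V(A)|`.  Then `A` is the pointwise stabiliser of `U = C_V(A)`, `|A| = |U| = q` and
`|V| = q²`; two conjugates of `U` are equal or meet trivially.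
-/

set_option autoImplicit false

namespace CfsgLib.Invol.CIT

open Subgroup

/-- A subgroup without nontrivial elements of odd order is a 2-group. -/
theorem isPGroup_of_no_odd {G : Type*} [Group G] [Finite G] {H : Subgroup G}
    (h : ∀ x ∈ H, Odd (orderOf x) → x = 1) : IsPGroup 2 H := by
  intro x
  obtain ⟨k, m, hm, hn⟩ := Nat.exists_eq_two_pow_mul_odd (n := orderOf (x : G)) (orderOf_pos _).ne'
  refine ⟨k, Subtype.ext ?_⟩
  rw [SubmonoidClass.coe_pow, OneMemClass.coe_one]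
  refine h _ (pow_mem x.2 _) ?_
  rw [orderOf_pow, hn, Nat.gcd_eq_right (dvd_mul_right _ _), Nat.mul_div_cancel_left _ (pow_pos two_pos k)]
  exact hm

/-- An element generated with a conjugate involution outside the 2-core has nontrivial odd order
power in the generated dihedral group. -/
theorem exists_odd_of_notMem_pCore {G : Type*} [Group G] [Finite G] {a : G} (ha : orderOf a = 2)
    (hnot : a ∉ Cfsg.pCore 2 G) :
    ∃ g : G, ∃ y ∈ Subgroup.zpowers (a * (g * a * g⁻¹)), y ≠ 1 ∧ Odd (orderOf y) := by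
  haveI : Fact (Nat.Prime 2) := ⟨Nat.prime_two⟩
  by_contra hcon
  push Not at hcon
  refine hnot (CfsgLib.Invol.baer_suzuki_mem_pCore (p := 2) fun g => ?_)
  set b := g * a * g⁻¹ with hb
  have hb2 : orderOf b = 2 := by rw [hb, orderOf_conj_eq]; exact ha
  refine isPGroup_of_no_odd fun x hx hxo => ?_
  obtain ⟨k, hk⟩ := (mem_closure_pair ha hb2).1 hx
  rcases hk with hk | hk
  · by_contra hx1
    exact hcon g x ⟨k, hk.symm⟩ hx1 hxo
  · refine eq_one_of_sq_of_odd ?_ hxo
    rw [hk]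
    calc ((a * b) ^ k * a) * ((a * b) ^ k * a) = (a * b) ^ k * (a * (a * b) ^ k) * a := by
          simp only [mul_assoc]
      _ = (a * b) ^ k * ((a * b) ^ (-k) * a) * a := by rw [left_mul_zpow ha hb2 k]
      _ = (a * b) ^ k * (a * b) ^ (-k) * (a * a) := by simp only [mul_assoc]
      _ = 1 := by rw [invol_mul_self ha, mul_one, ← zpow_add, add_neg_cancel, zpow_zero]

variable {X : Type*} [Group X] {V : Type*} [CommGroup V]

theorem act_mul (ρ : X →* MulAut V) (x y : X) (v : V) : ρ (x * y) v = ρ x (ρ y v) := by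
  rw [map_mul, MulAut.mul_apply]

theorem act_one (ρ : X →* MulAut V) (v : V) : ρ 1 v = v := by
  rw [map_one, MulAut.one_apply]

theorem act_inv_self (ρ : X →* MulAut V) (x : X) (v : V) : ρ x⁻¹ (ρ x v) = v := by
  rw [← act_mul, inv_mul_cancel, act_one]

theorem act_self_inv (ρ : X →* MulAut V) (x : X) (v : V) : ρ x (ρ x⁻¹ v) = v := by
  rw [← act_mul, mul_inv_cancel, act_one]

/-- Fixed points of a set of operators. -/
def fixedIn (ρ : X →* MulAut V) (S : Set X) : Subgroup V where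
  carrier := {v | ∀ x ∈ S, ρ x v = v}
  one_mem' := fun x _ => map_one (ρ x)
  mul_mem' := fun {a b} ha hb x hx => by rw [map_mul, ha x hx, hb x hx]
  inv_mem' := fun {a} ha x hx => by rw [map_inv, ha x hx]

/-- Operators fixing a set pointwise. -/
def fixer (ρ : X →* MulAut V) (W : Set V) : Subgroup X where
  carrier := {x | ∀ w ∈ W, ρ x w = w}
  one_mem' := fun w _ => by rw [map_one]; rfl
  mul_mem' := fun {a b} ha hb w hw => by rw [map_mul, MulAut.mul_apply, hb w hw, ha w hw]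
  inv_mem' := fun {a} ha w hw => by
    conv_lhs => rw [← ha w hw, ← MulAut.mul_apply, ← map_mul, inv_mul_cancel, map_one]
    rfl

/-- The data of a quadratic offender. -/
structure Offender (ρ : X →* MulAut V) (A : Subgroup X) : Prop where
  cit : IsCIT X
  core : Cfsg.pCore 2 X = ⊥
  v2 : ∀ v : V, v * v = 1
  fpf : ∀ x : X, Odd (orderOf x) → x ≠ 1 → ∀ v, ρ x v = v → v = 1
  inj : Function.Injective ρ
  ne : A ≠ ⊥
  sq : ∀ a ∈ A, a * a = 1
  quad : ∀ a ∈ A, ∀ b ∈ A, ∀ v, ρ b (ρ a v * v) = ρ a v * v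
  size : Nat.card V ≤ Nat.card A * Nat.card (fixedIn ρ (A : Set X))

namespace Offender

variable [Finite X] [Finite V] {ρ : X →* MulAut V} {A : Subgroup X} (h : Offender ρ A)
include h

omit [Finite X] [Finite V] in
theorem inv_eq (v : V) : v⁻¹ = v := inv_eq_of_mul_eq_one_left (h.v2 v)

omit [Finite X] [Finite V] in
theorem eq_of_mul_eq_one {v w : V} (e : v * w = 1) : v = w := by
  rw [eq_inv_of_mul_eq_one_left e, h.inv_eq]

omit [Finite X] [Finite V] in
theorem invol {a : X} (ha : a ∈ A) (ha1 : a ≠ 1) : orderOf a = 2 :=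
  invol_of_mul_self (h.sq a ha) ha1

omit [Finite X] [Finite V] in
theorem comm {a b : X} (ha : a ∈ A) (hb : b ∈ A) : a * b = b * a := by
  rw [← inv_eq_of_mul_eq_one_left (h.sq _ (mul_mem ha hb)), mul_inv_rev,
    inv_eq_of_mul_eq_one_left (h.sq a ha), inv_eq_of_mul_eq_one_left (h.sq b hb)]

/-- An involution fixes exactly the square root of the module, which is its commutator. -/
theorem halves {a : X} (ha : orderOf a = 2) :
    Nat.card V = Nat.card (fixedIn ρ {a}) * Nat.card (fixedIn ρ {a}) ∧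
      ∀ u ∈ fixedIn ρ {a}, ∃ v, ρ a v * v = u := by
  have haa : a * a = 1 := invol_mul_self ha
  let φ : V →* V :=
    { toFun := fun v => ρ a v * v
      map_one' := by rw [map_one, one_mul]
      map_mul' := fun v w => by rw [map_mul]; exact mul_mul_mul_comm _ _ _ _ }
  have hker : φ.ker = fixedIn ρ {a} := by
    ext v
    refine ⟨fun e x hx => ?_, fun e => ?_⟩
    · rw [Set.mem_singleton_iff.1 hx]
      exact h.eq_of_mul_eq_one e
    · show ρ a v * v = 1
      rw [e a rfl, h.v2]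
  have hrange : φ.range ≤ fixedIn ρ {a} := by
    rintro _ ⟨v, rfl⟩ x hx
    rw [Set.mem_singleton_iff.1 hx]
    show ρ a (ρ a v * v) = ρ a v * v
    rw [map_mul, ← MulAut.mul_apply, ← map_mul, haa, map_one, MulAut.one_apply, mul_comm]
  have hnot : a ∉ Cfsg.pCore 2 X := by
    rw [h.core, mem_bot]
    exact invol_ne_one ha
  obtain ⟨g, y, hy, hy1, hyo⟩ := exists_odd_of_notMem_pCore ha hnot
  have hmeet : ∀ v : V, ρ a v = v → ρ (g * a * g⁻¹) v = v → v = 1 := by
    intro v h1 h2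
    refine h.fpf y hyo hy1 v ?_
    have : zpowers (a * (g * a * g⁻¹)) ≤ fixer ρ {v} := by
      rw [zpowers_le]
      intro w hw
      rw [Set.mem_singleton_iff.1 hw, map_mul, MulAut.mul_apply, h2, h1]
    exact this hy v rfl
  have hle : Nat.card (fixedIn ρ {a}) * Nat.card (fixedIn ρ {a}) ≤ Nat.card V := by
    rw [← Nat.card_prod]
    refine Nat.card_le_card_of_injective (fun p => p.1.1 * ρ g p.2.1) ?_
    rintro ⟨⟨u, hu⟩, ⟨w, hw⟩⟩ ⟨⟨u', hu'⟩, ⟨w', hw'⟩⟩ e
    simp only at e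
    have h1 : u * u'⁻¹ = ρ g (w' * w⁻¹) := by
      rw [map_mul, map_inv, mul_inv_eq_iff_eq_mul, mul_comm, ← mul_assoc, eq_mul_inv_iff_mul_eq]
      rw [e]
    have h2 : u * u'⁻¹ = 1 := by
      refine hmeet _ ((fixedIn ρ {a}).mul_mem hu ((fixedIn ρ {a}).inv_mem hu') a rfl) ?_
      rw [h1, ← act_mul, inv_mul_cancel_right, act_mul,
        (fixedIn ρ {a}).mul_mem hw' ((fixedIn ρ {a}).inv_mem hw) a rfl]
    obtain rfl : u = u' := mul_inv_eq_one.1 h2
    have h3 : w' * w⁻¹ = 1 := (ρ g).injective (by rw [← h1, h2, map_one])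
    obtain rfl : w' = w := mul_inv_eq_one.1 h3
    rfl
  have hcard : Nat.card V = Nat.card φ.ker * Nat.card φ.range := by
    rw [← Subgroup.index_ker, Subgroup.card_mul_index]
  rw [hker] at hcard
  have hr : Nat.card φ.range = Nat.card (fixedIn ρ {a}) := by
    refine le_antisymm (Subgroup.card_le_of_le hrange) ?_
    rw [hcard] at hle
    exact Nat.le_of_mul_le_mul_left hle Nat.card_pos
  refine ⟨by rw [hcard, hr], fun u hu => ?_⟩
  rw [← CfsgLib.Solvable.eq_of_le_of_card_le hrange hr.ge] at hu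
  exact hu

theorem fixed_eq {a : X} (ha : a ∈ A) (ha1 : a ≠ 1) :
    fixedIn ρ {a} = fixedIn ρ (A : Set X) := by
  refine le_antisymm (fun u hu b hb => ?_) fun u hu x hx => hu x (Set.mem_singleton_iff.1 hx ▸ ha)
  obtain ⟨v, rfl⟩ := (h.halves (h.invol ha ha1)).2 u hu
  exact h.quad a ha b hb v

theorem card_V : Nat.card V = Nat.card (fixedIn ρ (A : Set X)) * Nat.card (fixedIn ρ (A : Set X)) := by
  obtain ⟨a, ha, ha1⟩ := A.bot_or_exists_ne_one.resolve_left h.ne
  rw [← h.fixed_eq ha ha1]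
  exact (h.halves (h.invol ha ha1)).1

theorem one_lt_fixed : 1 < Nat.card (fixedIn ρ (A : Set X)) := by
  obtain ⟨a, ha, ha1⟩ := A.bot_or_exists_ne_one.resolve_left h.ne
  by_contra hle
  have h1 : Nat.card (fixedIn ρ (A : Set X)) = 1 :=
    le_antisymm (not_lt.1 hle) (Nat.card_pos)
  have hV := h.card_V
  rw [h1, mul_one] at hV
  haveI := (Nat.card_eq_one_iff_unique.1 hV).1
  exact ha1 (h.inj (MulEquiv.ext fun v => Subsingleton.elim _ _))

theorem isPGroup_fixer : IsPGroup 2 (fixer ρ (fixedIn ρ (A : Set X) : Set V)) := by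
  refine isPGroup_of_no_odd fun x hx hxo => ?_
  by_contra hx1
  obtain ⟨u, hu, hu1⟩ := (fixedIn ρ (A : Set X)).bot_or_exists_ne_one.resolve_left fun e => by
    have := h.one_lt_fixed
    rw [e, Subgroup.card_bot] at this
    exact lt_irrefl _ this
  exact hu1 (h.fpf x hxo hx1 u (hx u hu))

theorem fixed_invol_fixer {x : X} (hx : x ∈ fixer ρ (fixedIn ρ (A : Set X) : Set V))
    (hx2 : orderOf x = 2) : fixedIn ρ {x} = fixedIn ρ (A : Set X) := by
  refine (CfsgLib.Solvable.eq_of_le_of_card_le (fun u hu y hy => ?_) ?_).symm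
  · rw [Set.mem_singleton_iff.1 hy]
    exact hx u hu
  · refine le_of_not_gt fun hlt => ?_
    have h1 := (h.halves hx2).1
    rw [h.card_V] at h1
    exact absurd h1 (Nat.mul_self_lt_mul_self hlt).ne

theorem fixer_sq {x : X} (hx : x ∈ fixer ρ (fixedIn ρ (A : Set X) : Set V)) : x * x = 1 := by
  by_contra hx2
  obtain ⟨k, hk⟩ := exists_two_pow_of_mem h.isPGroup_fixer hx
  obtain ⟨i, -, hi⟩ := (Nat.dvd_prime_pow Nat.prime_two).1 (orderOf_dvd_of_pow_eq_one hk)
  obtain ⟨j, rfl⟩ : ∃ j, i = j + 2 := by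
    refine ⟨i - 2, ?_⟩
    rcases i with _ | _ | i
    · exact absurd (by rw [orderOf_eq_one_iff.1 hi, one_mul]) hx2
    · exact absurd (by rw [← pow_two]; exact orderOf_dvd_iff_pow_eq_one.1 hi.dvd) hx2
    · omega
  set w := x ^ 2 ^ j with hw
  have hwo : orderOf w = 4 := by
    rw [hw, orderOf_pow, hi, Nat.gcd_eq_right (pow_dvd_pow 2 (by omega)), pow_add,
      Nat.mul_div_cancel_left _ (pow_pos two_pos j)]
    rfl
  have hwF : w ∈ fixer ρ (fixedIn ρ (A : Set X) : Set V) := pow_mem hx _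
  have hy : orderOf (w * w) = 2 := by
    rw [← pow_two, orderOf_pow' _ two_ne_zero, hwo]
    rfl
  have hfix := h.fixed_invol_fixer (mul_mem hwF hwF) hy
  refine invol_ne_one hy (h.inj (MulEquiv.ext fun v => ?_))
  rw [map_one, MulAut.one_apply]
  set y := w * w with hydef
  -- `[v, y]` lies in the fixed space, so `[v, w]` does
  have h1 : ρ w (ρ y v * v) = ρ y v * v := by
    refine hwF _ ?_
    rw [SetLike.mem_coe, ← hfix]
    intro z hz
    rw [Set.mem_singleton_iff.1 hz, map_mul, ← MulAut.mul_apply, ← map_mul, invol_mul_self hy,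
      map_one, MulAut.one_apply, mul_comm]
  have h2 : ρ w v * v ∈ fixedIn ρ (A : Set X) := by
    rw [← hfix]
    intro z hz
    rw [Set.mem_singleton_iff.1 hz, map_mul (ρ y)]
    have e : ρ y (ρ w v) = ρ w (ρ y v) := by
      rw [← MulAut.mul_apply, ← MulAut.mul_apply, ← map_mul, ← map_mul, hydef, mul_assoc]
    rw [e]
    rw [map_mul (ρ w)] at h1
    calc ρ w (ρ y v) * ρ y v = ρ w (ρ y v) * ρ w v * (ρ y v * (ρ w v)) := by
          rw [mul_mul_mul_comm, h.v2 (ρ w v), mul_one]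
      _ = ρ y v * v * (ρ y v * ρ w v) := by rw [h1]
      _ = ρ w v * v := by rw [mul_mul_mul_comm, h.v2, one_mul, mul_comm]
  have h3 := hwF _ h2
  rw [map_mul (ρ w), hydef] at *
  rw [map_mul ρ, MulAut.mul_apply]
  calc ρ w (ρ w v) = ρ w (ρ w v) * ρ w v * ρ w v := by rw [mul_assoc, h.v2, mul_one]
    _ = ρ w v * v * ρ w v := by rw [h3]
    _ = v := by rw [mul_comm (ρ w v) v, mul_assoc, h.v2, mul_one]

theorem fixer_card_le :
    Nat.card (fixer ρ (fixedIn ρ (A : Set X) : Set V)) ≤ Nat.card (fixedIn ρ (A : Set X)) := by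
  set U := fixedIn ρ (A : Set X) with hU
  obtain ⟨v, -, hv⟩ : ∃ v, v ∈ (⊤ : Subgroup V) ∧ v ∉ U := by
    refine SetLike.exists_of_lt (lt_top_iff_ne_top.2 fun e => ?_)
    have h1 := h.card_V
    have h2 := h.one_lt_fixed
    rw [← hU, e, Subgroup.card_top] at h1 h2
    nlinarith
  refine Nat.card_le_card_of_injective (fun x => (⟨ρ x.1 v * v, ?_⟩ : U)) ?_
  · by_cases hx1 : (x : X) = 1
    · rw [hx1, map_one, MulAut.one_apply, h.v2]
      exact one_mem U
    · have hx2 : orderOf (x : X) = 2 := invol_of_mul_self (h.fixer_sq x.2) hx1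
      refine (h.fixed_invol_fixer (x := (x : X)) x.2 hx2).le fun z hz => ?_
      rw [Set.mem_singleton_iff.1 hz, map_mul (ρ (x : X)), ← MulAut.mul_apply, ← map_mul,
        invol_mul_self hx2, map_one, MulAut.one_apply, mul_comm]
  · intro x y e
    have e' : ρ x.1 v = ρ y.1 v := mul_right_cancel (congrArg Subtype.val e)
    by_contra hne
    have hmem : (y : X)⁻¹ * x ∈ fixer ρ (U : Set V) := mul_mem (inv_mem y.2) x.2
    have hne1 : (y : X)⁻¹ * x ≠ 1 := fun e1 => hne (Subtype.ext (inv_mul_eq_one.1 e1).symm)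
    have := h.fixed_invol_fixer hmem (invol_of_mul_self (h.fixer_sq hmem) hne1)
    refine hv ?_
    rw [hU, ← this]
    intro z hz
    rw [Set.mem_singleton_iff.1 hz, act_mul, e', act_inv_self]

/-- `A` is the pointwise stabiliser of `C_V(A)`, of the same order. -/
theorem card_A : Nat.card A = Nat.card (fixedIn ρ (A : Set X)) ∧
    fixer ρ (fixedIn ρ (A : Set X) : Set V) = A := by
  have hle : A ≤ fixer ρ (fixedIn ρ (A : Set X) : Set V) := fun a ha u hu => hu a ha
  have h1 := Subgroup.card_le_of_le hle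
  have h2 : Nat.card (fixedIn ρ (A : Set X)) ≤ Nat.card A := by
    have := h.size
    rw [h.card_V] at this
    exact Nat.le_of_mul_le_mul_right this Nat.card_pos
  exact ⟨le_antisymm (h1.trans h.fixer_card_le) h2,
    (CfsgLib.Solvable.eq_of_le_of_card_le hle (h.fixer_card_le.trans h2)).symm⟩

omit [Finite X] [Finite V] in
theorem mem_normalizer_of {g : X} (hg : ∀ a ∈ A, g * a * g⁻¹ ∈ A) {u : V}
    (hu : u ∈ fixedIn ρ (A : Set X)) : ρ g⁻¹ u ∈ fixedIn ρ (A : Set X) := by
  intro a ha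
  rw [← MulAut.mul_apply, ← map_mul, show a * g⁻¹ = g⁻¹ * (g * a * g⁻¹) by group, map_mul,
    MulAut.mul_apply, hu _ (hg a ha)]

/-- An element of `A` fixes the fixed space of each conjugate it normalises only if that is `A`. -/
theorem mem_of_fixed {g : X} {a : X} (ha : a ∈ A) (ha1 : a ≠ 1) {v : V}
    (hv : v ∈ fixedIn ρ (A : Set X)) (hfix : ρ a (ρ g v) = ρ g v) :
    ρ g v ∈ fixedIn ρ (A : Set X) := by
  rw [← h.fixed_eq ha ha1]
  intro z hz
  rw [Set.mem_singleton_iff.1 hz, hfix]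

/-- Two conjugates of the fixed space meet trivially or come from the same conjugate of `A`. -/
theorem meet {g : X} {v : V} (hv1 : v ≠ 1) (hv : v ∈ fixedIn ρ (A : Set X))
    (hgv : ρ g⁻¹ v ∈ fixedIn ρ (A : Set X)) : g ∈ normalizer (A : Set X) := by
  haveI : Fact (Nat.Prime 2) := ⟨Nat.prime_two⟩
  have hconj : ∀ g : X, ρ g⁻¹ v ∈ fixedIn ρ (A : Set X) → ∀ a ∈ A, g * a * g⁻¹ ∈ fixer ρ {v} := by
    intro g hg a ha w hw
    rw [Set.mem_singleton_iff.1 hw, map_mul, map_mul, MulAut.mul_apply, MulAut.mul_apply,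
      hg a ha, ← MulAut.mul_apply, ← map_mul, mul_inv_cancel, map_one, MulAut.one_apply]
  have hAS : A ≤ fixer ρ {v} := fun a ha w hw => by rw [Set.mem_singleton_iff.1 hw]; exact hv a ha
  by_contra hgN
  -- a distinct conjugate in the stabiliser of `v` normalising `A`
  obtain ⟨g', hg'N, hg'S, hg'n⟩ : ∃ g' : X, g' ∉ normalizer (A : Set X) ∧
      (∀ a ∈ A, g' * a * g'⁻¹ ∈ fixer ρ {v}) ∧
      ∀ a ∈ A, g' * a * g'⁻¹ ∈ normalizer (A : Set X) := by
    by_cases hnorm : fixer ρ {v} ≤ normalizer (A : Set X)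
    · exact ⟨g, hgN, hconj g hgv, fun a ha => hnorm (hconj g hgv a ha)⟩
    set S := fixer ρ {v} with hS
    have hSp : IsPGroup 2 S := isPGroup_of_no_odd fun x hx hxo => by
      by_contra hx1
      exact hv1 (h.fpf x hxo hx1 v (hx v rfl))
    haveI : Group.IsNilpotent S := hSp.isNilpotent
    set N1 := (normalizer (A : Set X)).subgroupOf S with hN1
    have hlt : N1 < ⊤ := lt_top_iff_ne_top.2 fun e => hnorm (subgroupOf_eq_top.1 e)
    obtain ⟨⟨g', hg'S⟩, hmem, hnot⟩ := SetLike.exists_of_lt (Group.normalizerCondition_of_isNilpotent N1 hlt)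
    refine ⟨g', fun e => hnot (mem_subgroupOf.2 e),
      fun a ha => mul_mem (mul_mem hg'S (hAS ha)) (inv_mem hg'S), fun a ha => ?_⟩
    have := (mem_normalizer_iff.1 hmem ⟨a, hAS ha⟩).1 (mem_subgroupOf.2 (le_normalizer ha))
    exact mem_subgroupOf.1 this
  set U := fixedIn ρ (A : Set X) with hU
  have hvU' : ρ g'⁻¹ v ∈ U := by
    intro a ha
    have := hg'S a ha v rfl
    rw [act_mul, act_mul] at this
    calc ρ a (ρ g'⁻¹ v) = ρ g'⁻¹ (ρ g' (ρ a (ρ g'⁻¹ v))) := by
          rw [act_inv_self]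
      _ = ρ g'⁻¹ v := by rw [this]
  -- some element of `U` is not fixed by the conjugate
  obtain ⟨u, hu, hu'⟩ : ∃ u ∈ U, ρ g'⁻¹ u ∉ U := by
    by_contra! hall
    refine hg'N (mem_normalizer_fintype fun a ha => ?_)
    rw [SetLike.mem_coe, ← h.card_A.2]
    intro u hu
    rw [map_mul, map_mul, MulAut.mul_apply, MulAut.mul_apply, hall u hu a ha, ← MulAut.mul_apply,
      ← map_mul, mul_inv_cancel, map_one, MulAut.one_apply]
  let W : Subgroup V := U ⊓ U.map (ρ g').toMonoidHom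
  have hWlt : Nat.card W < Nat.card U := by
    refine lt_of_le_of_ne (Subgroup.card_le_of_le inf_le_left) fun e => hu' ?_
    have hW : W = U := CfsgLib.Solvable.eq_of_le_of_card_le inf_le_left e.ge
    have hu2 : u ∈ W := by rw [hW]; exact hu
    have hmem : u ∈ U.map (ρ g').toMonoidHom := hu2.2
    obtain ⟨w, hw, rfl⟩ := hmem
    show ρ g'⁻¹ (ρ g' w) ∈ U
    rwa [act_inv_self]
  let f : A → W := fun a => ⟨ρ (g' * a.1 * g'⁻¹) u * u, by
    constructor
    · refine U.mul_mem ?_ hu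
      have := h.mem_normalizer_of (g := (g' * a.1 * g'⁻¹)⁻¹)
        (fun b hb => (mem_normalizer_iff.1 (inv_mem (hg'n a.1 a.2)) b).1 hb) hu
      rwa [inv_inv] at this
    · refine ⟨ρ a.1 (ρ g'⁻¹ u) * ρ g'⁻¹ u, fun b hb => h.quad a.1 a.2 b hb _, ?_⟩
      show ρ g' (ρ a.1 (ρ g'⁻¹ u) * ρ g'⁻¹ u) = ρ (g' * a.1 * g'⁻¹) u * u
      rw [map_mul (ρ g'), act_self_inv, act_mul, act_mul]⟩
  have hf : Function.Injective f := by
    intro a b e
    have e' : ρ (g' * a.1 * g'⁻¹) u = ρ (g' * b.1 * g'⁻¹) u := mul_right_cancel (congrArg Subtype.val e)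
    by_contra hne
    have hab1 : b.1⁻¹ * a.1 ≠ 1 := fun e1 => hne (Subtype.ext (inv_mul_eq_one.1 e1).symm)
    refine hu' ((h.fixed_eq (mul_mem (inv_mem b.2) a.2) hab1).le fun z hz => ?_)
    rw [Set.mem_singleton_iff.1 hz, ← act_mul,
      show b.1⁻¹ * a.1 * g'⁻¹ = g'⁻¹ * ((g' * b.1 * g'⁻¹)⁻¹ * (g' * a.1 * g'⁻¹)) by group,
      act_mul, act_mul, e', act_inv_self]
  have := Nat.card_le_card_of_injective f hf
  rw [h.card_A.1] at this
  exact absurd this (not_le.2 hWlt)

end Offender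

end CfsgLib.Invol.CIT
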