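import Cfsg.Agent.Lib.Invol.CIT.CaseFourSylow

/-!
# Simple groups in which involution centralisers are 2-groups

Suzuki's classification of the simple CIT groups.
-/

set_option autoImplicit false

namespace CfsgLib.Invol.CIT

open Subgroup CfsgLib.PLocal
open scoped MatrixGroups

universe u

variable {G : Type u} [Group G] [Finite G]

/-- **Suzuki**: the non-abelian simple CIT groups. -/
theorem classification [IsSimpleGroup G] (hG : ∃ a b : G, a * b ≠ b * a)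
    (hCIT : ∀ t : G, orderOf t = 2 → IsPGroup 2 (Subgroup.centralizer ({t} : Set G))) :
    (∃ (F : Type) (_ : Field F) (_ : Fintype F),
        (Fintype.card F = 9 ∨ (∃ n : ℕ, Fintype.card F = 2 ^ n) ∨
          ((Fintype.card F).Prime ∧ ∃ k : ℕ, Fintype.card F = 2 ^ k + 1 ∨ Fintype.card F + 1 = 2 ^ k)) ∧
        Nonempty (G ≃* Matrix.ProjectiveSpecialLinearGroup (Fin 2) F)) ∨
    (∃ (F : Type) (_ : Field F) (_ : Fintype F), Fintype.card F = 4 ∧
        Nonempty (G ≃* Matrix.ProjectiveSpecialLinearGroup (Fin 3) F)) ∨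
    (Cfsg.IsSuzuki G ∧ Cfsg.Lie.IsoSuzuki G) := by
  have hc : IsCIT G := hCIT
  have h2 : 2 ∣ Nat.card G := by
    by_contra hodd
    obtain ⟨a, b, hab⟩ := hG
    exact hab ((IsSimpleGroup.comm_iff_isSolvable.2 (CfsgLib.FT.odd_order_solvable
      (Nat.odd_iff.2 (Nat.two_dvd_ne_zero.1 hodd)))) a b)
  obtain ⟨S⟩ : Nonempty (Sylow 2 G) := inferInstance
  by_cases hall : ∀ Q : Subgroup G, Q ≤ (S : Subgroup G) → Q ≠ ⊥ → normalizer (Q : Set G) ≤ KJ S
  · rcases of_stronglyEmbedded hG hc (stronglyEmbedded_of_all hG S h2 hall) with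
      ⟨F, _, _, ⟨e⟩⟩ | hSz
    · exact Or.inl ⟨F, _, _, psl_list hG hc e, ⟨e⟩⟩
    · exact Or.inr (Or.inr hSz)
  obtain ⟨R, h⟩ := exists_bad S hall
  obtain ⟨A, hA, hAR, hquad⟩ := h.exists_offender hc
  obtain ⟨q, hAq, hZq, hZA, hfix, ⟨hq, hN6⟩ | ⟨hq4, K, _, _, hK, ⟨e⟩⟩⟩ :=
    h.structure_thm hc hA hAR hquad
  · subst hq
    obtain ⟨F⟩ := h.frame_of_six hc hG hA hAR hAq hZq hZA hN6
    obtain ⟨K, _, _, ⟨e⟩⟩ := CfsgLib.StructC.SCNC.exists_psl_two (isMulCommutative_false hG) F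
    exact Or.inl ⟨K, _, _, psl_list hG hc e, ⟨e⟩⟩
  · exact Or.inr (Or.inl
      ((h.exists_large hc hA hAR hquad hAq hZq hZA hfix hq4 hK e).psl_three hG hc hA))

end CfsgLib.Invol.CIT
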