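import Cfsg.Agent.Lib.Invol.CIT.LocalModule
import Cfsg.Agent.Lib.StructC.SelfCentBSW
import Cfsg.Agent.Lib.StructC.SelfCentPSL
import Cfsg.Agent.Lib.Amalgam.FpfThreeBasic
import Cfsg.Agent.Lib.Transfer.Thompson
import Cfsg.Agent.Lib.Char.Burnside

/-!
# The case `|Z| = 4`: dihedral Sylow 2-subgroups

Also: the fields `F` for which `PSL₂(F)` has 2-groups as involution centralisers.
-/

set_option autoImplicit false

namespace CfsgLib.Invol.CIT

open Subgroup CfsgLib.PLocal
open scoped commutatorElement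

universe u

variable {G : Type u} [Group G] [Finite G]

theorem isMulCommutative_false (hna : ∃ a b : G, a * b ≠ b * a) : ¬ IsMulCommutative G := fun h => by
  obtain ⟨a, b, hab⟩ := hna
  exact hab (h.is_comm.comm a b)

/-- The field of a simple `PSL₂(F)` with 2-group involution centralisers. -/
theorem psl_list [IsSimpleGroup G] (hna : ∃ a b : G, a * b ≠ b * a) (hc : IsCIT G) {F : Type}
    [Field F] [Fintype F] (e : G ≃* Matrix.ProjectiveSpecialLinearGroup (Fin 2) F) :
    Fintype.card F = 9 ∨ (∃ n : ℕ, Fintype.card F = 2 ^ n) ∨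
      ((Fintype.card F).Prime ∧ ∃ k : ℕ, Fintype.card F = 2 ^ k + 1 ∨ Fintype.card F + 1 = 2 ^ k) := by
  classical
  have h4 : 4 ≤ Fintype.card F := by
    have h1 : 1 < Fintype.card F := Fintype.one_lt_card
    by_contra hlt
    have hns : ¬ Group.IsSolvable G := fun h => by
      obtain ⟨a, b, hab⟩ := hna
      exact hab ((IsSimpleGroup.comm_iff_isSolvable.2 h) a b)
    apply hns
    rcases (show Fintype.card F = 2 ∨ Fintype.card F = 3 by omega) with h | h
    · exact CfsgLib.Char.burnside_pq 2 3 Nat.prime_two Nat.prime_three 1 1 G (by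
        rw [Nat.card_congr e.toEquiv, CfsgLib.Classical.card_psl_two_eq h 6 (by norm_num)]; rfl)
    · exact CfsgLib.Char.burnside_pq 2 3 Nat.prime_two Nat.prime_three 2 1 G (by
        rw [Nat.card_congr e.toEquiv, CfsgLib.Classical.card_psl_two_eq h 12 (by norm_num)]; rfl)
  rcases Nat.even_or_odd (Fintype.card F) with heven | hodd
  · right; left
    obtain ⟨p, hchar⟩ := CharP.exists F
    obtain ⟨n, hp, hn⟩ := FiniteField.card F p
    have : p = 2 := by
      have h2 : 2 ∣ p ^ (n : ℕ) := hn ▸ even_iff_two_dvd.1 heven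
      exact ((Nat.prime_dvd_prime_iff_eq Nat.prime_two hp).1 (Nat.prime_two.dvd_of_dvd_pow h2)).symm
    exact ⟨n, by rw [hn, this]⟩
  haveI : Fact (Nat.Prime 2) := ⟨Nat.prime_two⟩
  haveI := Finite.of_equiv G e.toEquiv
  obtain ⟨E, _, _, f, hE, hQC⟩ := CfsgLib.Geom.Moebius.exists_quadExt F
  obtain ⟨c, hc1⟩ : 2 ∣ Nat.card G := by
    by_contra hodd'
    obtain ⟨a, b, hab⟩ := hna
    exact hab ((IsSimpleGroup.comm_iff_isSolvable.2 (CfsgLib.FT.odd_order_solvable
      (Nat.odd_iff.2 (Nat.two_dvd_ne_zero.1 hodd')))) a b)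
  obtain ⟨t, ht⟩ := exists_prime_orderOf_dvd_card' (G := G) 2 ⟨c, hc1⟩
  set t' := e t with ht'
  have ht2 : orderOf t' = 2 := by
    rw [ht']
    exact (orderOf_injective e.toMonoidHom e.injective t).trans ht
  have hcit' := hc.of_injective e.symm.toMonoidHom e.symm.injective
  obtain ⟨n, hn⟩ := (hcit' t' ht2).exists_card_eq
  obtain ⟨p, hchar⟩ := CharP.exists F
  obtain ⟨f', hp, hq⟩ := FiniteField.card F p
  rcases CfsgLib.Geom.Moebius.card_centralizer_cases f hE hQC h4 t' (invol_ne_one ht2) with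
    h | ⟨k, hk, hdvd, h2k, -⟩
  · exfalso
    rw [hn] at h
    rcases n with _ | n
    · rw [pow_zero] at h; omega
    · rw [← h] at hodd
      exact Nat.not_odd_iff_even.2 ((Nat.even_pow' (by omega)).2 even_two) hodd
  rw [CfsgLib.Geom.Moebius.gcd_two_of_odd hodd] at hk
  rw [h2k (invol_mul_self ht2)] at hn
  rw [ht2] at hdvd
  have hn2 : 2 ≤ n := by
    obtain ⟨o, ho⟩ := hodd
    rcases n with _ | _ | n
    · simp at hn
    · simp at hn; omega
    · omega
  have hh : p ^ (f' : ℕ) + 1 = 2 ^ n ∨ p ^ (f' : ℕ) = 2 ^ n + 1 := by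
    rw [← hq]
    omega
  rcases CfsgLib.StructC.SCNC.pow_next_two (f := (f' : ℕ)) hp f'.2 hn2 hh with hf | h9
  · refine Or.inr (Or.inr ⟨by rw [hq, hf, pow_one]; exact hp, n, ?_⟩)
    omega
  · exact Or.inl (by rw [hq, h9])

namespace Bad

variable {S : Sylow 2 G} {R : Subgroup G} (h : Bad S R) (hc : IsCIT G)
include h hc

/-- If `|Z| = 4` the Sylow subgroup has an involution with centraliser of order 4. -/
theorem frame_of_six [IsSimpleGroup G] (hna : ∃ a b : G, a * b ≠ b * a) {A : Subgroup G}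
    (hA : A ∈ maxElemIn 2 ((S : Subgroup G) ⊓ normalizer (R : Set G))) (hAR : ¬ A ≤ R)
    (hA2 : Nat.card A = 2 * Nat.card ↥(A ⊓ R)) (hZ : Nat.card (zOne R) = 4)
    (hZA : Nat.card ↥(zOne R ⊓ centralizer (A : Set G)) = 2)
    (hN6 : Nat.card ↥(normalizer (R : Set G)) = 6 * Nat.card R) :
    Nonempty (CfsgLib.StructC.SCNC.Frame G) := by
  haveI : Fact (Nat.Prime 2) := ⟨Nat.prime_two⟩
  set N := normalizer (R : Set G) with hN
  set P := (S : Subgroup G) ⊓ N with hP
  set Z := zOne R with hZdef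
  have hRP : R ≤ P := le_inf h.le le_normalizer
  have hZR : Z ≤ R := zOne_le R
  obtain ⟨a, haA, haR⟩ := SetLike.not_le_iff_exists.1 hAR
  have haP : a ∈ P := hA.1 haA
  have hsq : ∀ b ∈ A, b * b = 1 := fun b hb => by rw [← pow_two]; exact hA.2.1.2 b hb
  have hAcomm : ∀ b ∈ A, ∀ b' ∈ A, b * b' = b' * b := fun b hb b' hb' =>
    congrArg Subtype.val (hA.2.1.1.is_comm.comm ⟨b, hb⟩ ⟨b', hb'⟩)
  have ha2 : orderOf a = 2 := invol_of_mul_self (hsq a haA) fun e => haR (e ▸ one_mem R)
  -- an element of order three inverted by `a`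
  have haN : a ∈ N := haP.2
  have hnot : (⟨a, haN⟩ : N) ∉ Cfsg.pCore 2 N := fun hmem => by
    haveI := CfsgLib.Solvable.pCore_normal 2 N
    have hle : (Cfsg.pCore 2 N).map N.subtype ≤ R :=
      h.core_le (map_subtype_le _) (fun y hy => mem_normalizer_fintype (by
        rintro _ ⟨c, hcC, rfl⟩
        exact ⟨⟨y, hy⟩ * c * ⟨y, hy⟩⁻¹,
          (inferInstance : (Cfsg.pCore 2 N).Normal).conj_mem c hcC _, rfl⟩))
        ((CfsgLib.Solvable.pCore_isPGroup 2).map _)
    exact haR (hle ⟨_, hmem, rfl⟩)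
  obtain ⟨g, x, hx, hx1, hxo⟩ := exists_odd_of_notMem_pCore
    (a := (⟨a, haN⟩ : N)) (by rw [Subgroup.orderOf_mk]; exact ha2) hnot
  have hax : a * (x : G) * a⁻¹ = (x : G)⁻¹ := by
    obtain ⟨i, rfl⟩ := hx
    have ha' : orderOf (⟨a, haN⟩ : N) = 2 := by rw [Subgroup.orderOf_mk]; exact ha2
    have := conj_zpow_inv (conj_left_mul ha' ((orderOf_conj_eq g _).trans ha')) i
    exact congrArg Subtype.val this
  set y : G := (x : G) with hydef
  have hyN : y ∈ N := x.2
  have hy1 : y ≠ 1 := fun e => hx1 (Subtype.ext e)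
  have hyodd : Odd (orderOf y) := by rw [hydef, Subgroup.orderOf_coe]; exact hxo
  have hfix : ∀ r ∈ R, y * r * y⁻¹ = r → r = 1 := fun r hr e =>
    hc.eq_one_of_fix h.isPGroup hyodd hy1 hr e
  have hy3 : y ^ 3 = 1 := by
    haveI : (R.subgroupOf N).Normal := normal_in_normalizer
    have h6 : y ^ 6 ∈ R := by
      have hi : (R.subgroupOf N).index = 6 := by
        have e1 := Subgroup.card_mul_index (R.subgroupOf N)
        rw [Nat.card_congr (subgroupOfEquivOfLe (le_normalizer : R ≤ N)).toEquiv, hN6, mul_comm 6] at e1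
        exact Nat.eq_of_mul_eq_mul_left Nat.card_pos e1
      have := Subgroup.pow_index_mem (R.subgroupOf N) (⟨y, hyN⟩ : N)
      rw [hi, mem_subgroupOf] at this
      exact this
    have h61 : y ^ 6 = 1 := eq_one_of_mem_of_odd h.isPGroup h6
      (hyodd.of_dvd_nat (orderOf_pow_dvd 6))
    refine eq_one_of_sq_of_odd ?_ (hyodd.of_dvd_nat (orderOf_pow_dvd 3))
    rw [← pow_add]
    exact h61
  have hyZ : ∀ z ∈ Z, y * z * y⁻¹ ∈ Z := fun z hz =>
    (mem_normalizer_iff.1 (normalizer_le_normalizer_zOne R hyN) z).1 hz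
  -- the automorphism of `R`
  let σ : MulAut R :=
    { toFun := fun r => ⟨y * r.1 * y⁻¹, (mem_normalizer_iff.1 hyN r.1).1 r.2⟩
      invFun := fun r => ⟨y⁻¹ * r.1 * y, by
        simpa using (mem_normalizer_iff.1 (inv_mem hyN) r.1).1 r.2⟩
      left_inv := fun r => Subtype.ext (by simp [mul_assoc])
      right_inv := fun r => Subtype.ext (by simp [mul_assoc])
      map_mul' := fun r s => Subtype.ext (by simp [mul_assoc]) }
  have hσf : ∀ r, σ r = r → r = 1 := fun r e => Subtype.ext (hfix r r.2 (congrArg Subtype.val e))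
  have hσ3 : ∀ r, σ (σ (σ r)) = r := fun r => Subtype.ext (by
    show y * (y * (y * r.1 * y⁻¹) * y⁻¹) * y⁻¹ = r.1
    calc _ = y ^ 3 * r.1 * (y ^ 3)⁻¹ := by rw [pow_succ, pow_two]; group
      _ = r.1 := by rw [hy3]; group)
  -- elements of `B = A ∩ R` commute with their images
  have hBcomm : ∀ b b' : R, (b : G) ∈ A → (b' : G) ∈ A → b * σ b' = σ b' * b := by
    have key : ∀ b b' : R, (b : G) ∈ A → (b' : G) ∈ A → σ ⁅b, σ b'⁆ = ⁅b', σ b⁆ := by
      intro b b' hb hb'
      have hbb : b * b' = b' * b := Subtype.ext (hAcomm _ hb _ hb')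
      have h2 : σ (σ b') = (σ b')⁻¹ * b'⁻¹ := by
        rw [← mul_inv_rev]
        exact eq_inv_of_mul_eq_one_right (CfsgLib.Amalgam.FpfThreeBasic.prod_orbit hσ3 hσf b')
      have h1 : σ ⁅b, b'⁻¹⁆ = 1 := by
        rw [(commutatorElement_eq_one_iff_mul_comm).2 (Commute.inv_right (hbb : Commute b b')).eq, map_one]
      rw [map_commutatorElement, h2]
      obtain ⟨-, hu⟩ := CfsgLib.Amalgam.FpfThreeBasic.commute_commutator_right hσ3 hσf (σ b) b'⁻¹
      obtain ⟨hv, -⟩ := CfsgLib.Amalgam.FpfThreeBasic.commute_commutator_right hσ3 hσf (σ b) b'⁻¹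
      rw [map_inv] at hu
      rw [map_commutatorElement, map_inv] at h1
      have e1 : ⁅σ b, (σ b')⁻¹ * b'⁻¹⁆ = ⁅σ b, (σ b')⁻¹⁆ * ((σ b')⁻¹ * ⁅σ b, b'⁻¹⁆ * σ b') := by
        simp only [commutatorElement_def]; group
      rw [e1, h1, one_mul, ← hu.eq, mul_assoc, inv_mul_cancel, mul_one]
      have e2 : ⁅σ b, b'⁻¹⁆ = b'⁻¹ * ⁅b', σ b⁆ * b' := by simp only [commutatorElement_def]; group
      have e3 : ⁅b', σ b⁆ = b' * ⁅σ b, b'⁻¹⁆ * b'⁻¹ := by rw [e2]; group
      rw [e3, mul_assoc, hv.eq, mul_inv_cancel_left]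
    intro b b' hb hb'
    have h1 := key b b' hb hb'
    have h2 := key b' b hb' hb
    rw [← h1] at h2
    refine commutatorElement_eq_one_iff_mul_comm.1 (hσf _ ?_)
    have h3 := congrArg σ h2
    rw [hσ3] at h3
    exact h3.symm
  -- `W = B Z` is invariant
  set B := A ⊓ R with hB
  set W := B ⊔ Z with hW
  have hWel : Cfsg.IsElementaryAbelian 2 W :=
    CfsgLib.PLocal.elemAb_sup (CfsgLib.PLocal.elemAb_mono hA.2.1 inf_le_left) (zOne_elemAb R)
      fun b hb => mem_centralizer_iff.2 fun z hz => (hz.2.2 b hb.2).symm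
  have hWR : W ≤ R := sup_le inf_le_right hZR
  have hWle : Nat.card W ≤ Nat.card A := hA.2.2 W (hWR.trans hRP) hWel
  have hBZ : Nat.card ↥(B ⊓ Z) ≤ 2 := by
    rw [← hZA]
    exact Subgroup.card_le_of_le (le_inf inf_le_right
      fun x hx => mem_centralizer_iff.2 fun b hb => hAcomm b hb x hx.1.1)
  have hWge : 2 * Nat.card B ≤ Nat.card W := by
    have h1 := CfsgLib.PLocal.card_mul_le_card_sup_mul_inf B Z
    rw [hZ] at h1
    have h2 : Nat.card ↥(B ⊔ Z) * Nat.card ↥(B ⊓ Z) ≤ Nat.card ↥(B ⊔ Z) * 2 := Nat.mul_le_mul_left _ hBZ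
    rw [hW]
    omega
  set W' := W.map (MulAut.conj y).toMonoidHom with hW'
  have hWconj : ∀ w ∈ W, y * w * y⁻¹ ∈ W := by
    have hW'R : W' ≤ R := by
      rintro _ ⟨w, hw, rfl⟩
      exact (mem_normalizer_iff.1 hyN w).1 (hWR hw)
    have hW'el : Cfsg.IsElementaryAbelian 2 W' := by
      refine ⟨⟨⟨?_⟩⟩, ?_⟩
      · rintro ⟨_, u, hu, rfl⟩ ⟨_, v, hv, rfl⟩
        refine Subtype.ext ?_
        show MulAut.conj y u * MulAut.conj y v = MulAut.conj y v * MulAut.conj y u
        rw [← map_mul, ← map_mul, show u * v = v * u from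
          congrArg Subtype.val (hWel.1.is_comm.comm ⟨u, hu⟩ ⟨v, hv⟩)]
      · rintro _ ⟨u, hu, rfl⟩
        show MulAut.conj y u ^ 2 = 1
        rw [← map_pow, hWel.2 u hu, map_one]
    have hcomm' : W ≤ centralizer (W' : Set G) := by
      refine sup_le (fun b hb => mem_centralizer_iff.2 ?_) (fun z hz => mem_centralizer_iff.2
        fun w hw => hz.2.2 w (hW'R hw))
      intro w hw
      have hle : W' ≤ centralizer ({b} : Set G) := by
        rw [hW', hW, Subgroup.map_sup]
        refine sup_le ?_ ?_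
        · rintro _ ⟨b', hb', rfl⟩
          rw [mem_centralizer_singleton_iff]
          exact (congrArg Subtype.val (hBcomm ⟨b, hb.2⟩ ⟨b', hb'.2⟩ hb.1 hb'.1)).symm
        · rintro _ ⟨z, hz, rfl⟩
          rw [mem_centralizer_singleton_iff]
          exact ((hyZ z hz).2.2 b hb.2).symm
      exact mem_centralizer_singleton_iff.1 (hle hw)
    have hsup := CfsgLib.PLocal.elemAb_sup hWel hW'el hcomm'
    have hle := hA.2.2 (W ⊔ W') ((sup_le hWR hW'R).trans hRP) hsup
    have heq : W = W ⊔ W' := CfsgLib.Solvable.eq_of_le_of_card_le le_sup_left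
      (hle.trans ((hA2.trans_le hWge)))
    intro w hw
    rw [heq]
    exact mem_sup_right ⟨w, hw, rfl⟩
  have haW : ∀ b ∈ B, a * b * a⁻¹ = b := fun b hb => by
    rw [hAcomm a haA b hb.1, mul_inv_cancel_right]
  have hBsmall : Nat.card B ≤ 2 := by
    have hinj : Nat.card (B × B) ≤ Nat.card W := by
      refine Nat.card_le_card_of_injective (fun p => ⟨p.1.1 * (y * p.2.1 * y⁻¹),
        mul_mem (mem_sup_left p.1.2) (hWconj _ (mem_sup_left p.2.2))⟩) ?_
      rintro ⟨⟨u, hu⟩, ⟨v, hv⟩⟩ ⟨⟨u', hu'⟩, ⟨v', hv'⟩⟩ e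
      have e' : u * (y * v * y⁻¹) = u' * (y * v' * y⁻¹) := congrArg Subtype.val e
      set w := v * v'⁻¹ with hw
      have hwB : w ∈ B := mul_mem hv (inv_mem hv')
      have e1 : u⁻¹ * u' = y * w * y⁻¹ := by
        calc u⁻¹ * u' = u⁻¹ * (u' * (y * v' * y⁻¹)) * (y * v'⁻¹ * y⁻¹) := by group
          _ = y * w * y⁻¹ := by rw [← e', hw]; group
      have e2 : a * (y * w * y⁻¹) * a⁻¹ = y * w * y⁻¹ := by
        rw [← e1]
        exact haW _ (mul_mem (inv_mem hu) hu')
      have e3 : a * (y * w * y⁻¹) * a⁻¹ = y⁻¹ * w * y := by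
        calc a * (y * w * y⁻¹) * a⁻¹ = (a * y * a⁻¹) * (a * w * a⁻¹) * (a * y * a⁻¹)⁻¹ := by group
          _ = y⁻¹ * w * y := by rw [hax, haW w hwB, inv_inv]
      have hw1 : w = 1 := by
        refine hfix w hwB.2 ?_
        have e4 : y * w * y⁻¹ = y⁻¹ * w * y := e2.symm.trans e3
        calc y * w * y⁻¹ = (y ^ 3) * (y⁻¹ * (y⁻¹ * w * y) * y) * (y ^ 3)⁻¹ := by
              rw [pow_succ, pow_two]; group
          _ = y⁻¹ * (y * w * y⁻¹) * y := by rw [hy3, e4]; group
          _ = w := by group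
      obtain rfl : v = v' := mul_inv_eq_one.1 hw1
      obtain rfl : u = u' := mul_right_cancel e'
      rfl
    rw [Nat.card_prod] at hinj
    have := hinj.trans (hWle.trans_eq hA2)
    exact Nat.le_of_mul_le_mul_right this Nat.card_pos
  -- no elementary abelian subgroup of order 8 in `P`
  have hrank : ∀ E : Subgroup G, E ≤ P → Cfsg.IsElementaryAbelian 2 E → Nat.card E ≤ 4 :=
    fun E hE hEe => (hA.2.2 E hE hEe).trans (by rw [hA2]; omega)
  have hinvR : ∀ c ∈ R, c * c = 1 → c ∈ Z := by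
    intro c hc' hc2
    have hel : Cfsg.IsElementaryAbelian 2 (zpowers c ⊔ Z) := by
      refine CfsgLib.PLocal.elemAb_sup ⟨inferInstance, ?_⟩ (zOne_elemAb R)
        (zpowers_le.2 (mem_centralizer_iff.2 fun z hz => (hz.2.2 c hc').symm))
      rintro _ ⟨i, rfl⟩
      rw [pow_two, ← (Commute.refl c).mul_zpow, hc2, one_zpow]
    have h1 := hrank _ (sup_le (zpowers_le.2 (hRP hc')) (hZR.trans hRP)) hel
    have heq : Z = zpowers c ⊔ Z :=
      CfsgLib.Solvable.eq_of_le_of_card_le le_sup_right (by rw [hZ]; exact h1)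
    rw [heq]
    exact mem_sup_left (mem_zpowers c)
  -- the central involution of `P`
  obtain ⟨z, ⟨hzZ, hzA⟩, hz1⟩ := (Z ⊓ centralizer (A : Set G)).bot_or_exists_ne_one.resolve_left
    fun e => by rw [e, Subgroup.card_bot] at hZA; omega
  have hz2 : orderOf z = 2 := invol_of_mul_self hzZ.2.1 hz1
  have hza : a * z = z * a := mem_centralizer_iff.1 hzA a haA
  -- fixed points of `a` on `Z`
  have hCZ : ∀ c ∈ Z, a * c = c * a → c = 1 ∨ c = z := by
    intro c hcZ hca
    by_contra! hne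
    -- otherwise `a` centralises `Z`
    refine haR (h.centralizer_zOne_le hc ⟨mem_centralizer_iff.2 ?_, haN⟩)
    set M := Z ⊓ centralizer ({a} : Set G) with hM
    have hsub : ({1, z, c} : Set G) ⊆ M := by
      intro w hw
      simp only [Set.mem_insert_iff, Set.mem_singleton_iff] at hw
      rcases hw with rfl | rfl | rfl
      · exact one_mem M
      · exact ⟨hzZ, mem_centralizer_singleton_iff.2 hza.symm⟩
      · exact ⟨hcZ, mem_centralizer_singleton_iff.2 hca.symm⟩
    have h3 := Set.ncard_le_ncard hsub (Set.toFinite _)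
    rw [Set.ncard_eq_three.2 ⟨1, z, c, Ne.symm hz1, Ne.symm hne.1, Ne.symm hne.2, rfl⟩,
      ← Nat.card_coe_set_eq] at h3
    have hMZ : M = Z := CfsgLib.Solvable.eq_of_le_of_card_le inf_le_left (by
      have hd := Subgroup.card_dvd_of_le (inf_le_left : M ≤ Z)
      rw [hZ] at hd ⊢
      rw [← hM] at hd
      have h3' : 3 ≤ Nat.card ↥M := h3
      have h5 : Nat.card ↥M ≤ 4 := Nat.le_of_dvd (by norm_num) hd
      rcases (show Nat.card M = 3 ∨ Nat.card M = 4 by omega) with e | e
      · rw [e] at hd; omega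
      · omega)
    intro w hw
    exact mem_centralizer_singleton_iff.1 ((hMZ ▸ hw : w ∈ M).2)
  -- `R ⟨a⟩ = P`
  have hP2 : ∀ w ∈ P, w ∈ R ∨ a * w ∈ R := by
    have hidx : (R.subgroupOf P).index = 2 := by
      have h1 := Subgroup.card_mul_index (R.subgroupOf P)
      rw [Nat.card_congr (subgroupOfEquivOfLe hRP).toEquiv] at h1
      obtain ⟨k, hk⟩ := (S.isPGroup'.to_le inf_le_left : IsPGroup 2 P).exists_card_eq
      have hd : Nat.card P ∣ Nat.card N := Subgroup.card_dvd_of_le inf_le_right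
      rw [hN6, ← h1, mul_comm 6] at hd
      have hd6 : (R.subgroupOf P).index ∣ 6 := Nat.dvd_of_mul_dvd_mul_left Nat.card_pos hd
      have hd2 : (R.subgroupOf P).index ∣ 2 ^ k := hk ▸ Subgroup.index_dvd_card (R.subgroupOf P)
      obtain ⟨i, -, hi⟩ := (Nat.dvd_prime_pow Nat.prime_two).1 hd2
      rcases i with _ | _ | i
      · exact absurd (mem_subgroupOf.1 ((Subgroup.index_eq_one.1 (by rw [hi, pow_zero])) ▸
          mem_top (⟨a, haP⟩ : P))) haR
      · rw [hi]; rfl
      · rw [hi] at hd6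
        have h4 : 2 ^ 2 ∣ 6 := (pow_dvd_pow 2 (show 2 ≤ i + 2 by omega)).trans hd6
        omega
    intro w hw
    refine or_iff_not_imp_left.2 fun hwR => ?_
    have := (Subgroup.mul_mem_iff_of_index_two hidx (a := ⟨a, haP⟩) (b := ⟨w, hw⟩))
    simp only [mem_subgroupOf] at this
    exact this.2 ⟨fun e => absurd e haR, fun e => absurd e hwR⟩
  have hzP : ∀ w ∈ P, w * z = z * w := by
    intro w hw
    rcases hP2 w hw with e | e
    · exact hzZ.2.2 w e
    · calc w * z = a⁻¹ * (a * w * z) := by group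
        _ = a⁻¹ * (z * (a * w)) := by rw [hzZ.2.2 _ e]
        _ = a⁻¹ * (z * a) * w := by group
        _ = z * w := by rw [← hza]; group
  -- conjugates of `z` by `y`
  have hzconj : ∀ c ∈ Z, c ≠ 1 → ∃ g : G, g * c * g⁻¹ = z := by
    intro c hcZ hc1
    have key : c = z ∨ y * c * y⁻¹ = z ∨ y * (y * c * y⁻¹) * y⁻¹ = z := by
      by_contra! hne
      set c1 := y * c * y⁻¹ with hc1'
      set c2 := y * c1 * y⁻¹ with hc2'
      have h1 : c1 ≠ c := fun e => hc1 (hfix c (hZR hcZ) e)
      have h11 : c1 ≠ 1 := fun e => hc1 (conj_eq_one_iff.1 e)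
      have h21 : c2 ≠ 1 := fun e => h11 (conj_eq_one_iff.1 e)
      have h2 : c2 ≠ c1 := fun e => h11 (hfix c1 (hZR (hyZ c hcZ)) e)
      have h3 : c2 ≠ c := fun e => hc1 (hfix c (hZR hcZ) (by
        calc y * c * y⁻¹ = y * c2 * y⁻¹ := by rw [e]
          _ = (y ^ 3) * c * (y ^ 3)⁻¹ := by rw [hc2', hc1', pow_succ, pow_two]; group
          _ = c := by rw [hy3]; group))
      have hsub : ({1, z, c, c1, c2} : Set G) ⊆ Z := by
        intro w hw
        simp only [Set.mem_insert_iff, Set.mem_singleton_iff] at hw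
        rcases hw with rfl | rfl | rfl | rfl | rfl
        exacts [one_mem Z, hzZ, hcZ, hyZ c hcZ, hyZ _ (hyZ c hcZ)]
      have h5 := Set.ncard_le_ncard hsub (Set.toFinite _)
      rw [Set.ncard_insert_of_notMem (by simp [Ne.symm hz1, Ne.symm hc1, Ne.symm h11, Ne.symm h21]),
        Set.ncard_insert_of_notMem (by simp [Ne.symm hne.1, Ne.symm hne.2.1, Ne.symm hne.2.2]),
        Set.ncard_insert_of_notMem (by simp [Ne.symm h1, Ne.symm h3]),
        Set.ncard_pair (Ne.symm h2), ← Nat.card_coe_set_eq] at h5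
      change _ ≤ Nat.card Z at h5
      omega
    rcases key with e | e | e
    · exact ⟨1, by rw [e]; group⟩
    · exact ⟨y, e⟩
    · exact ⟨y * y, by rw [← e]; group⟩
  by_cases hPS : P = (S : Subgroup G)
  · -- Sylow subgroup inside `N`
    have hSP : ∀ w ∈ (S : Subgroup G), w ∈ P := fun w hw => hPS.symm ▸ hw
    have hSC : centralizer ({z} : Set G) = (S : Subgroup G) := S.is_maximal' (hc z hz2) fun w hw =>
      mem_centralizer_singleton_iff.2 (hzP w (hSP w hw))
    have haS : a ∈ (S : Subgroup G) := haP.1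
    -- `a` is conjugate to `z`
    obtain ⟨k, hk⟩ : ∃ k : G, k * a * k⁻¹ = z := by
      rcases CfsgLib.Transfer.thompson_transfer_involution S (hRP.trans inf_le_left) (by
          rw [← hPS]
          have h1 := Subgroup.card_mul_index (R.subgroupOf P)
          have h2 : ∀ w : P, w ∈ R.subgroupOf P ∨ (⟨a, haP⟩ : P) * w ∈ R.subgroupOf P := fun w =>
            hP2 w w.2
          show (R.subgroupOf P).index = 2
          refine Subgroup.index_eq_two_iff.2 ⟨⟨a, haP⟩, fun w => ?_⟩
          rcases h2 w with e | e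
          · refine Or.inr ⟨e, fun e' => haR ?_⟩
            have := (R.subgroupOf P).mul_mem ((R.subgroupOf P).inv_mem e) e'
            rw [inv_mul_cancel_left] at this
            exact mem_subgroupOf.1 this
          · by_cases e' : w ∈ R.subgroupOf P
            · exfalso
              refine haR ?_
              have := (R.subgroupOf P).mul_mem e ((R.subgroupOf P).inv_mem e')
              rw [mul_inv_cancel_right] at this
              exact mem_subgroupOf.1 this
            · refine Or.inl ⟨?_, e'⟩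
              have hnR : ∀ r ∈ R.subgroupOf P, ∀ p : P, p * r * p⁻¹ ∈ R.subgroupOf P := fun r hr p =>
                mem_subgroupOf.2 ((mem_normalizer_iff.1 p.2.2 r.1).1 hr)
              have := hnR _ e (⟨a, haP⟩ : P)⁻¹
              simpa [mul_assoc] using this)
          (by rw [pow_two]; exact hsq a haA) haS with ⟨M, hM, hMi, -⟩ | ⟨k, hk⟩
      · exact absurd hMi fun e => CfsgLib.StructC.SCNC.no_index_two (isMulCommutative_false hna) M hM e
      · have hkZ := hinvR _ hk (by
          rw [conj_mul, hsq a haA, mul_one, mul_inv_cancel])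
        obtain ⟨k', hk'⟩ := hzconj _ hkZ (fun e => invol_ne_one ha2 (conj_eq_one_iff.1 e))
        exact ⟨k' * k, by rw [← hk']; group⟩
    -- the centraliser of `a` in `R` is of exponent two
    have hR2 : ∀ r ∈ R, r * a = a * r → r * r = 1 := by
      intro w hw hwa
      by_contra hw2
      -- a power of `w` of order four
      obtain ⟨u, ⟨i, rfl⟩, hu⟩ := exists_invol_zpowers
        (exists_two_pow_of_mem h.isPGroup (R.mul_mem hw hw)) hw2
      have hzsq : ∃ v ∈ R, v * a = a * v ∧ v * v = z := by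
        refine ⟨w ^ i, R.zpow_mem hw i, (Commute.zpow_left (hwa : Commute w a) i).eq, ?_⟩
        have hv : (w * w) ^ i ∈ Z := hinvR _ (R.zpow_mem (R.mul_mem hw hw) i) (invol_mul_self hu)
        have hva : a * (w * w) ^ i = (w * w) ^ i * a :=
          ((Commute.mul_right (hwa : Commute w a).symm (hwa : Commute w a).symm).zpow_right i).eq
        rw [← (Commute.refl w).mul_zpow]
        exact (hCZ _ hv hva).resolve_left (invol_ne_one hu)
      obtain ⟨v, hvR, hva, hvv⟩ := hzsq
      set C := (S : Subgroup G) ⊓ centralizer ({a} : Set G) with hC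
      obtain ⟨T, hT⟩ : ∃ T : Sylow 2 G, (T : Subgroup G) = centralizer ({a} : Set G) := by
        obtain ⟨T, hT⟩ := (hc a ha2).exists_le_sylow
        refine ⟨T, (CfsgLib.Solvable.eq_of_le_of_card_le hT ?_).symm⟩
        rw [Sylow.card_eq_multiplicity, ← Sylow.card_eq_multiplicity S, ← hSC]
        refine le_of_eq (Nat.card_congr ⟨fun c => ⟨k⁻¹ * c.1 * k, ?_⟩,
          fun c => ⟨k * c.1 * k⁻¹, ?_⟩, fun c => Subtype.ext (by simp [mul_assoc]),
          fun c => Subtype.ext (by simp [mul_assoc])⟩)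
        · rw [mem_centralizer_singleton_iff]
          have hc' := mem_centralizer_singleton_iff.1 c.2
          calc k⁻¹ * c.1 * k * a = k⁻¹ * (c.1 * (k * a * k⁻¹)) * k := by group
            _ = k⁻¹ * ((k * a * k⁻¹) * c.1) * k := by simp only [hk]; rw [hc']
            _ = a * (k⁻¹ * c.1 * k) := by group
        · rw [mem_centralizer_singleton_iff]
          have hc' := mem_centralizer_singleton_iff.1 c.2
          rw [← hk]
          calc k * c.1 * k⁻¹ * (k * a * k⁻¹) = k * (c.1 * a) * k⁻¹ := by group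
            _ = k * (a * c.1) * k⁻¹ := by rw [hc']
            _ = k * a * k⁻¹ * (k * c.1 * k⁻¹) := by group
      -- squares in `C` fix `z`
      have hnorm : (T : Subgroup G) ⊓ normalizer (C : Set G) ≤ C := by
        rintro n ⟨hnT, hnN⟩
        refine ⟨?_, hT ▸ hnT⟩
        show n ∈ (S : Subgroup G)
        rw [← hSC, mem_centralizer_singleton_iff]
        have hvC : n * v * n⁻¹ ∈ C := (mem_normalizer_iff.1 hnN v).1
          ⟨h.le hvR, mem_centralizer_singleton_iff.2 hva⟩
        have hsqR : n * v * n⁻¹ * (n * v * n⁻¹) ∈ R := by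
          rcases hP2 _ (hSP _ hvC.1) with e | e
          · exact R.mul_mem e e
          · have e2 : n * v * n⁻¹ * (n * v * n⁻¹) = a * (n * v * n⁻¹) * (a * (n * v * n⁻¹)) := by
              have hcom := mem_centralizer_singleton_iff.1 hvC.2
              calc n * v * n⁻¹ * (n * v * n⁻¹) = (a * a) * (n * v * n⁻¹) * (n * v * n⁻¹) := by
                    rw [hsq a haA, one_mul]
                _ = a * (a * (n * v * n⁻¹)) * (n * v * n⁻¹) := by rw [mul_assoc a a]
                _ = a * ((n * v * n⁻¹) * a) * (n * v * n⁻¹) := by rw [hcom]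
                _ = _ := by group
            rw [e2]
            exact R.mul_mem e e
        have e3 : n * z * n⁻¹ = n * v * n⁻¹ * (n * v * n⁻¹) := by rw [← hvv]; group
        rw [← e3] at hsqR
        have hnz : n * z * n⁻¹ ∈ Z := hinvR _ hsqR (by rw [conj_mul, invol_mul_self hz2, mul_one, mul_inv_cancel])
        have hna' : a * n = n * a := (mem_centralizer_singleton_iff.1 (hT ▸ hnT)).symm
        have hfx : a * (n * z * n⁻¹) = n * z * n⁻¹ * a := by
          calc a * (n * z * n⁻¹) = n * (a * z) * n⁻¹ := by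
                rw [← mul_assoc, ← mul_assoc, hna', mul_assoc n a z]
            _ = n * z * (a * n⁻¹) := by rw [hza]; group
            _ = n * z * n⁻¹ * a := by
              rw [show a * n⁻¹ = n⁻¹ * a from (Commute.inv_right (hna' : Commute a n)).eq]; group
        rcases hCZ _ hnz hfx with e | e
        · exact absurd (conj_eq_one_iff.1 e) hz1
        · exact mul_inv_eq_iff_eq_mul.1 e
      have hCT : C = (T : Subgroup G) := by
        by_contra hne
        have hCle : C ≤ (T : Subgroup G) := hT ▸ inf_le_right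
        have hlt := card_lt_nS (S := T) hCle hne
        exact absurd (Subgroup.card_le_of_le hnorm) (not_le.2 hlt)
      have hTS : (T : Subgroup G) = (S : Subgroup G) := by
        refine CfsgLib.Solvable.eq_of_le_of_card_le (hCT ▸ inf_le_left) ?_
        rw [Sylow.card_eq_multiplicity, Sylow.card_eq_multiplicity]
      refine haR (h.centralizer_zOne_le hc ⟨mem_centralizer_iff.2 fun w hw => ?_, haN⟩)
      have hwT : w ∈ (T : Subgroup G) := by
        rw [hTS]
        exact h.le (hZR hw)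
      rw [hT, mem_centralizer_singleton_iff] at hwT
      exact hwT
    refine CfsgLib.StructC.SCNC.frame_of_four (isMulCommutative_false hna) S hz2 ha2
      (h.le (hZR hzZ)) haS (fun e => haR (e ▸ hZR hzZ)) (fun w hw => hzP w (hSP w hw)) ?_ (fun _ => hSC)
    intro w hw hwa
    rcases hP2 w (hSP w hw) with e | e
    · rcases hCZ w (hinvR w e (hR2 w e hwa)) hwa.symm with rfl | rfl
      · exact Or.inl rfl
      · exact Or.inr (Or.inl rfl)
    · have hca : a * w * a = a * (a * w) := by rw [mul_assoc, hwa]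
      rcases hCZ _ (hinvR _ e (hR2 _ e hca)) hca.symm with e' | e'
      · refine Or.inr (Or.inr (Or.inl ?_))
        show w = a
        calc w = a⁻¹ * (a * w) := by group
          _ = a := by rw [e', mul_one, invol_inv ha2]
      · refine Or.inr (Or.inr (Or.inr ?_))
        show w = z * a
        calc w = a⁻¹ * (a * w) := by group
          _ = a * z := by rw [e', invol_inv ha2]
          _ = z * a := hza
  · -- `N_S(P) > P`
    obtain ⟨g, hgS, hgP, hgPN⟩ : ∃ g ∈ (S : Subgroup G), g ∉ P ∧ g ∈ normalizer (P : Set G) := by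
      have hlt := card_lt_nS (Q := P) inf_le_left hPS
      by_contra! hall
      refine absurd (Subgroup.card_le_of_le (fun g hg => ?_ : (S : Subgroup G) ⊓ normalizer (P : Set G) ≤ P))
        (not_le.2 hlt)
      by_contra hgP
      exact hall g hg.1 hgP hg.2
    have hgZ : g ∉ normalizer (Z : Set G) := by
      intro hgZ
      refine hgP ?_
      rw [hP, ← h.mem_of_normalizes (hZR.trans h.le) (zOne_ne_bot h.isPGroup h.ne)
        (normalizer_le_normalizer_zOne R)]
      exact ⟨hgS, hgZ⟩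
    have hPconj : ∀ w ∈ P, g * w * g⁻¹ ∈ P := fun w hw => (mem_normalizer_iff.1 hgPN w).1 hw
    have hPconj' : ∀ w ∈ P, g⁻¹ * w * g ∈ P := fun w hw => by
      simpa using (mem_normalizer_iff.1 (inv_mem hgPN) w).1 hw
    have hzP' : z ∈ P := hRP (hZR hzZ)
    have hgz : g * z * g⁻¹ = z := by
      set z' := g * z * g⁻¹ with hz'
      have hcent : ∀ w ∈ P, w * z' = z' * w := by
        intro w hw
        calc w * z' = g * (g⁻¹ * w * g * z) * g⁻¹ := by rw [hz']; group
          _ = g * (z * (g⁻¹ * w * g)) * g⁻¹ := by rw [hzP _ (hPconj' w hw)]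
          _ = z' * w := by rw [hz']; group
      have hz'R : z' ∈ R := h.centralizer_zOne_le hc ⟨mem_centralizer_iff.2 fun w hw =>
        hcent w (hRP (hZR hw)), (hPconj z hzP').2⟩
      have hz'Z := hinvR _ hz'R (by rw [hz', conj_mul, invol_mul_self hz2, mul_one, mul_inv_cancel])
      exact (hCZ _ hz'Z (hcent a haP)).resolve_left (fun e => hz1 (conj_eq_one_iff.1 e))
    -- an involution `s` of `P` outside `R` in the conjugate of `Z`
    obtain ⟨z₀, hz₀, hs⟩ : ∃ z₀ ∈ Z, g * z₀ * g⁻¹ ∉ R := by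
      by_contra! hall
      refine hgZ (mem_normalizer_fintype fun w hw => hinvR _ (hall w hw) ?_)
      rw [conj_mul, (hw : w ∈ Z).2.1, mul_one, mul_inv_cancel]
    set s := g * z₀ * g⁻¹ with hsdef
    have hsP : s ∈ P := hPconj _ (hRP (hZR hz₀))
    have hss : s * s = 1 := by rw [hsdef, conj_mul, hz₀.2.1, mul_one, mul_inv_cancel]
    have hsz : s * z = z * s := hzP s hsP
    -- centralised points of `s` on `Z`
    have hCs : ∀ c ∈ Z, s * c = c * s → c = 1 ∨ c = z := by
      intro c hcZ hcs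
      refine hCZ c hcZ ?_
      rcases hP2 s hsP with e | e
      · exact absurd e hs
      · calc a * c = a * c * (s * s⁻¹) := by group
          _ = a * (s * c) * s⁻¹ := by rw [hcs]; group
          _ = (a * s * c) * s⁻¹ := by group
          _ = c * (a * s) * s⁻¹ := by rw [hcZ.2.2 _ e]
          _ = c * a := by group
    -- commutators of `R` with `s`
    have hcs : ∀ r ∈ R, ⁅r, s⁆ = 1 ∨ ⁅r, s⁆ = z := by
      intro r hr
      have hm : r ∈ normalizer (R : Set G) := le_normalizer hr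
      have hsN : s ∈ normalizer (R : Set G) := hsP.2
      have h1 : ⁅r, s⁆ ∈ R := by
        rw [commutatorElement_def, show r * s * r⁻¹ * s⁻¹ = r * (s * r⁻¹ * s⁻¹) by group]
        exact R.mul_mem hr ((mem_normalizer_iff.1 hsN _).1 (R.inv_mem hr))
      set r' := g⁻¹ * r * g
      have hr'P : r' ∈ P := hPconj' r (hRP hr)
      have hr'Z : r' * z₀ * r'⁻¹ * z₀⁻¹ ∈ Z := Z.mul_mem
        ((mem_normalizer_iff.1 (normalizer_le_normalizer_zOne R hr'P.2) _).1 hz₀) (Z.inv_mem hz₀)
      have e : ⁅r, s⁆ = g * (r' * z₀ * r'⁻¹ * z₀⁻¹) * g⁻¹ := by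
        rw [commutatorElement_def, hsdef, show r' = g⁻¹ * r * g from rfl]; group
      have h2 : ⁅r, s⁆ * ⁅r, s⁆ = 1 := by
        rw [e, conj_mul, hr'Z.2.1, mul_one, mul_inv_cancel]
      have h3 := hinvR _ h1 h2
      refine hCs _ h3 ?_
      rw [e]
      have hzz : z₀ * (r' * z₀ * r'⁻¹ * z₀⁻¹) = r' * z₀ * r'⁻¹ * z₀⁻¹ * z₀ := zOne_comm hz₀ hr'Z
      calc s * (g * (r' * z₀ * r'⁻¹ * z₀⁻¹) * g⁻¹) = g * (z₀ * (r' * z₀ * r'⁻¹ * z₀⁻¹)) * g⁻¹ := by
            rw [hsdef]; group
        _ = g * (r' * z₀ * r'⁻¹ * z₀⁻¹ * z₀) * g⁻¹ := by rw [hzz]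
        _ = g * (r' * z₀ * r'⁻¹ * z₀⁻¹) * g⁻¹ * s := by rw [hsdef]; group
    -- a point of `Z` moved by `s`
    obtain ⟨z₂, hz₂, hz₂s⟩ : ∃ z₂ ∈ Z, ¬ s * z₂ = z₂ * s := by
      by_contra! hall
      exact hs (h.centralizer_zOne_le hc ⟨mem_centralizer_iff.2 fun w hw => (hall w hw).symm, hsP.2⟩)
    -- every element of `R` is a product of a point fixed by `s` and a point of `Z`
    have hdec : ∀ r ∈ R, ∃ c ∈ R, ∃ ζ ∈ Z, c * s = s * c ∧ r = c * ζ := by
      intro r hr
      rcases hcs r hr with e | e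
      · exact ⟨r, hr, 1, one_mem Z, commutatorElement_eq_one_iff_mul_comm.1 e, (mul_one r).symm⟩
      · refine ⟨r * z₂, R.mul_mem hr (hZR hz₂), z₂, hz₂, ?_, ?_⟩
        · refine commutatorElement_eq_one_iff_mul_comm.1 ?_
          have h2 : ⁅z₂, s⁆ = z := (hcs z₂ (hZR hz₂)).resolve_left fun e' =>
            hz₂s (commutatorElement_eq_one_iff_mul_comm.1 e').symm
          calc ⁅r * z₂, s⁆ = r * ⁅z₂, s⁆ * r⁻¹ * ⁅r, s⁆ := by simp only [commutatorElement_def]; group
            _ = r * z * r⁻¹ * z := by rw [h2, e]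
            _ = z * r * r⁻¹ * z := by rw [hzZ.2.2 r hr]
            _ = 1 := by rw [mul_inv_cancel_right, invol_mul_self hz2]
        · rw [mul_assoc, hz₂.2.1, mul_one]
    -- squares in the centraliser of `s`
    have hexp : ∀ c ∈ R, c * s = s * c → c * c = 1 := by
      intro w hw hws
      by_contra hw2
      obtain ⟨u, ⟨i, rfl⟩, hu⟩ := exists_invol_zpowers
        (exists_two_pow_of_mem h.isPGroup (R.mul_mem hw hw)) hw2
      have hv : w ^ i * w ^ i = z := by
        rw [← (Commute.refl w).mul_zpow]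
        exact (hCs _ (hinvR _ (R.zpow_mem (R.mul_mem hw hw) i) (invol_mul_self hu))
          ((Commute.mul_right (hws : Commute w s).symm (hws : Commute w s).symm).zpow_right i).eq).resolve_left
          (invol_ne_one hu)
      set v := w ^ i
      have hvR : v ∈ R := R.zpow_mem hw i
      obtain ⟨c, hcR, ζ, hζ, hcsc, hcζ⟩ := hdec (y * v * y⁻¹) ((mem_normalizer_iff.1 hyN v).1 hvR)
      have hzy : y * z * y⁻¹ = c * c := by
        calc y * z * y⁻¹ = y * v * y⁻¹ * (y * v * y⁻¹) := by rw [← hv]; group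
          _ = c * (ζ * c) * ζ := by rw [hcζ]; group
          _ = c * (c * ζ) * ζ := by rw [← hζ.2.2 c hcR]
          _ = c * c * (ζ * ζ) := by group
          _ = c * c := by rw [hζ.2.1, mul_one]
      have hfx : s * (y * z * y⁻¹) = y * z * y⁻¹ * s := by
        rw [hzy, ← mul_assoc, ← hcsc, mul_assoc, ← hcsc, ← mul_assoc]
      rcases hCs _ (hyZ z hzZ) hfx with e | e
      · exact hz1 (conj_eq_one_iff.1 e)
      · exact hz1 (hfix z (hZR hzZ) e)
    have hRZ : R = Z := by
      refine le_antisymm (fun r hr => ?_) hZR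
      obtain ⟨c, hcR, ζ, hζ, hcsc, rfl⟩ := hdec r hr
      exact Z.mul_mem (hinvR c hcR (hexp c hcR hcsc)) hζ
    -- the frame
    have hS1 : Nontrivial (S : Subgroup G) :=
      ⟨⟨⟨z, h.le (hZR hzZ)⟩, 1, fun e => hz1 (congrArg Subtype.val e)⟩⟩
    obtain ⟨k, hk0, hk⟩ := (S.isPGroup'.to_subgroup (center (S : Subgroup G))).nontrivial_iff_card.1
      (IsPGroup.center_nontrivial S.isPGroup')
    obtain ⟨t, ht⟩ := exists_prime_orderOf_dvd_card' (G := center (S : Subgroup G)) 2 (by
      rw [hk]; exact dvd_pow_self 2 hk0.ne')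
    have ht2 : orderOf (t.1 : G) = 2 := by rw [Subgroup.orderOf_coe, Subgroup.orderOf_coe, ht]
    have hcom : ∀ w ∈ (S : Subgroup G), w * (t.1 : G) = t.1 * w := fun w hw =>
      congrArg Subtype.val (mem_center_iff.1 t.2 ⟨w, hw⟩)
    have hCSZ : ∀ w ∈ (S : Subgroup G), (∀ c ∈ Z, w * c = c * w) → w ∈ Z := by
      intro w hw hwc
      have hwN : w ∈ normalizer (Z : Set G) := mem_normalizer_fintype fun c hcZ => by
        rw [hwc c hcZ, mul_inv_cancel_right]
        exact hcZ
      have hwP : w ∈ P := by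
        rw [hP, ← h.mem_of_normalizes (hZR.trans h.le) (zOne_ne_bot h.isPGroup h.ne)
          (normalizer_le_normalizer_zOne R)]
        exact ⟨hw, hwN⟩
      exact hRZ ▸ h.centralizer_zOne_le hc ⟨mem_centralizer_iff.2 fun c hcZ => (hwc c hcZ).symm, hwP.2⟩
    have htz : (t.1 : G) = z := by
      have htZ := hCSZ _ (t.1 : (S : Subgroup G)).2 fun c hcZ => (hcom c (h.le (hZR hcZ))).symm
      exact (hCZ _ htZ (hcom a haP.1)).resolve_left (invol_ne_one ht2)
    have hzS : ∀ w ∈ (S : Subgroup G), w * z = z * w := fun w hw => htz ▸ hcom w hw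
    have hz₂1 : z₂ ≠ 1 := fun e => hz₂s (by rw [e, mul_one, one_mul])
    have hz₂z : z₂ ≠ z := fun e => hz₂s (e ▸ hsz)
    refine CfsgLib.StructC.SCNC.frame_of_four (isMulCommutative_false hna) S hz2
      (invol_of_mul_self hz₂.2.1 hz₂1) (h.le (hZR hzZ)) (h.le (hZR hz₂)) hz₂z hzS ?_
      (fun _ => S.is_maximal' (hc z hz2) fun w hw => mem_centralizer_singleton_iff.2 (hzS w hw))
    intro w hw hwz₂
    have hsub : ({1, z, z₂, z * z₂} : Set G) ⊆ Z := by
      intro x hx
      simp only [Set.mem_insert_iff, Set.mem_singleton_iff] at hx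
      rcases hx with rfl | rfl | rfl | rfl
      exacts [one_mem Z, hzZ, hz₂, Z.mul_mem hzZ hz₂]
    have e1 : z * z₂ ≠ 1 := fun e => hz₂z (by
      rw [eq_inv_of_mul_eq_one_right e, invol_inv hz2])
    have e2 : z * z₂ ≠ z := fun e => hz₂1 (by simpa using e)
    have e3 : z * z₂ ≠ z₂ := fun e => hz1 (by simpa using e)
    have hset : ({1, z, z₂, z * z₂} : Set G) = (Z : Set G) := by
      refine Set.eq_of_subset_of_ncard_le hsub ?_ (Set.toFinite _)
      rw [Set.ncard_insert_of_notMem (by simp [Ne.symm hz1, Ne.symm hz₂1, e1.symm]),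
        Set.ncard_insert_of_notMem (by simp [Ne.symm hz₂z, e2.symm]), Set.ncard_pair e3.symm,
        ← Nat.card_coe_set_eq]
      change Nat.card Z ≤ _
      rw [hZ]
    rw [hset]
    refine hCSZ w hw fun c hcZ => ?_
    have hc' : c ∈ ({1, z, z₂, z * z₂} : Set G) := hset ▸ hcZ
    simp only [Set.mem_insert_iff, Set.mem_singleton_iff] at hc'
    rcases hc' with rfl | rfl | rfl | rfl
    · simp
    · exact hzS w hw
    · exact hwz₂
    · rw [← mul_assoc, hzS w hw, mul_assoc, hwz₂, mul_assoc]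

end Bad

end CfsgLib.Invol.CIT
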