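import Cfsg.Agent.Lib.Invol.CIT.CaseLargeFour
import Cfsg.Agent.Lib.Transfer.Thompson
import Cfsg.Agent.Lib.Recog.LThreeFourPlane.Cit
import Cfsg.Agent.Lib.ClassK.SmallSimple

/-!
# The case `q = 4`: `P` is a Sylow 2-subgroup and `G ≅ PSL₃(4)`
-/

set_option autoImplicit false

namespace CfsgLib.Invol.CIT

open Subgroup CfsgLib.PLocal
open scoped MatrixGroups

universe u

variable {G : Type u} [Group G] [Finite G]

theorem mul_left_invol {G : Type*} [Group G] {u : G} (h : u * u = 1) (x : G) : u * (u * x) = x := by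
  rw [← mul_assoc, h, one_mul]

namespace Large

variable {S : Sylow 2 G} {R A : Subgroup G} {q : ℕ} {K : Type} [Field K] [Fintype K]
  (h : Large S R A q K)
include h

theorem card_normalizer (hq : q = 4) : Nat.card ↥(normalizer (R : Set G)) = 960 := by
  obtain ⟨e⟩ := h.iso
  haveI : (R.subgroupOf (normalizer (R : Set G))).Normal := normal_in_normalizer
  rw [Subgroup.card_eq_card_quotient_mul_card_subgroup (R.subgroupOf (normalizer (R : Set G))),
    Nat.card_congr e.toEquiv, Nat.card_congr (subgroupOfEquivOfLe (le_normalizer : R ≤ normalizer (R : Set G))).toEquiv,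
    h.R_card, CfsgLib.Classical.card_sl_two_eq, h.card_K, hq]
  norm_num

/-- An element normalising `P` and not `R` interchanges `R` and `A`. -/
theorem swap {g : G}
    (hgP : g ∈ normalizer (((S : Subgroup G) ⊓ normalizer (R : Set G) : Subgroup G) : Set G))
    (hgR : g ∉ normalizer (R : Set G)) :
    (∀ r ∈ R, g * r * g⁻¹ ∈ A) ∧ ∀ a ∈ A, g * a * g⁻¹ ∈ R := by
  have hE : ∀ E : Subgroup G, E ≤ (S : Subgroup G) ⊓ normalizer (R : Set G) → (∀ x ∈ E, x * x = 1) →
      Nat.card E = q * q →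
      E.map (MulAut.conj g).toMonoidHom = R ∨ E.map (MulAut.conj g).toMonoidHom = A := by
    intro E hEP hsq hcard
    refine h.eq_or_eq ?_ ?_ ?_
    · rintro _ ⟨x, hx, rfl⟩
      exact (mem_normalizer_iff.1 hgP x).1 (hEP hx)
    · rintro _ ⟨x, hx, rfl⟩
      show g * x * g⁻¹ * (g * x * g⁻¹) = 1
      rw [conj_mul, hsq x hx, mul_one, mul_inv_cancel]
    · rw [Subgroup.card_map_of_injective (MulAut.conj g).injective, hcard]
  have hR : R.map (MulAut.conj g).toMonoidHom = A :=
    (hE R (le_inf h.bad.le le_normalizer) h.R_sq h.R_card).resolve_left fun e =>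
      hgR (mem_normalizer_fintype fun r hr => e.le (mem_map_of_mem _ hr))
  have hA : A.map (MulAut.conj g).toMonoidHom = R :=
    (hE A h.A_le h.A_sq h.A_card).resolve_right fun e => h.A_ne_R
      ((Subgroup.map_injective (MulAut.conj g).injective (hR.trans e.symm)).symm)
  exact ⟨fun r hr => hR.le (mem_map_of_mem _ hr), fun a ha => hA.le (mem_map_of_mem _ ha)⟩

/-- If `P < S` then `S ≤ N(P)` and `|S| = 2|P|`. -/
theorem sylow_normalizes (hq : q = 4)
    (hPS : (S : Subgroup G) ⊓ normalizer (R : Set G) ≠ (S : Subgroup G)) :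
    (S : Subgroup G) ≤ normalizer (((S : Subgroup G) ⊓ normalizer (R : Set G) : Subgroup G) : Set G) ∧
      Nat.card (S : Subgroup G) = 128 := by
  classical
  set P := (S : Subgroup G) ⊓ normalizer (R : Set G) with hP
  set T := (S : Subgroup G) ⊓ normalizer (P : Set G) with hT
  have hPT : P ≤ T := le_inf inf_le_left le_normalizer
  obtain ⟨g₀, hg₀T, hg₀P⟩ : ∃ g ∈ T, g ∉ P := SetLike.not_le_iff_exists.1 fun hle => by
    have := card_lt_nS (Q := P) inf_le_left hPS
    exact absurd (Subgroup.card_le_of_le hle) (not_le.2 this)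
  have hnR : ∀ g ∈ T, g ∉ P → g ∉ normalizer (R : Set G) := fun g hg hgP hgR => hgP ⟨hg.1, hgR⟩
  -- index two
  have hind : ∀ g ∈ T, g ∉ P → ∀ g' ∈ T, g' ∉ P → g⁻¹ * g' ∈ P := by
    intro g hg hgP g' hg' hgP'
    refine ⟨(S : Subgroup G).mul_mem ((S : Subgroup G).inv_mem hg.1) hg'.1, mem_normalizer_fintype fun r hr => ?_⟩
    obtain ⟨-, hA⟩ := h.swap ((normalizer (P : Set G)).inv_mem hg.2) fun e =>
      hnR g hg hgP (by simpa using (normalizer (R : Set G)).inv_mem e)
    have := hA _ ((h.swap hg'.2 (hnR g' hg' hgP')).1 r hr)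
    simpa [mul_assoc] using this
  have hTle : Nat.card T ≤ 2 * Nat.card P := by
    let f : T → Bool × P := fun x => if hx : (x : G) ∈ P then (true, ⟨x, hx⟩)
      else (false, ⟨g₀⁻¹ * x, hind g₀ hg₀T hg₀P x x.2 hx⟩)
    refine le_trans (Nat.card_le_card_of_injective f ?_) (by rw [Nat.card_prod]; simp)
    intro x y hxy
    simp only [f] at hxy
    split_ifs at hxy <;> simp only [Prod.mk.injEq, Bool.true_eq_false, Bool.false_eq_true, false_and,
      Subtype.mk.injEq, true_and, mul_right_inj] at hxy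
    all_goals exact Subtype.ext hxy
  -- elementary subgroups of order `q²` of `T`
  have hel : ∀ E : Subgroup G, E ≤ T → (∀ x ∈ E, x * x = 1) → Nat.card E = q * q → E ≤ P := by
    intro E hET hsq hcard
    by_contra hEP
    obtain ⟨u, huE, huP⟩ := SetLike.not_le_iff_exists.1 hEP
    have hEc : ∀ x ∈ E, u * x * u⁻¹ = x := by
      intro x hx
      have e : ∀ y ∈ E, y⁻¹ = y := fun y hy => inv_eq_of_mul_eq_one_left (hsq y hy)
      calc u * x * u⁻¹ = (u * x)⁻¹ * u⁻¹ := by rw [e _ (E.mul_mem huE hx)]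
        _ = x⁻¹ * (u⁻¹ * u⁻¹) := by group
        _ = x := by rw [e u huE, hsq u huE, mul_one, e x hx]
    obtain ⟨hRA, hAR⟩ := h.swap (hET huE).2 (hnR u (hET huE) huP)
    have hB : ∀ x ∈ E, x ∈ P → x ∈ A ⊓ R := by
      intro x hx hxP
      rcases h.invol x hxP (hsq x hx) with hR | hA
      · exact ⟨by rw [← hEc x hx]; exact hRA x hR, hR⟩
      · exact ⟨hA, by rw [← hEc x hx]; exact hAR x hA⟩
    let f : E → Bool × ↥(A ⊓ R) := fun x => if hx : (x : G) ∈ P then (true, ⟨x, hB x x.2 hx⟩)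
      else (false, ⟨u⁻¹ * x, hB _ (E.mul_mem (E.inv_mem huE) x.2) (hind u (hET huE) huP x (hET x.2) hx)⟩)
    have hle : Nat.card E ≤ Nat.card (Bool × ↥(A ⊓ R)) := by
      refine Nat.card_le_card_of_injective f ?_
      intro x y hxy
      simp only [f] at hxy
      split_ifs at hxy <;> simp only [Prod.mk.injEq, Bool.true_eq_false, Bool.false_eq_true, false_and,
        Subtype.mk.injEq, true_and, mul_right_inj] at hxy
      all_goals exact Subtype.ext hxy
    rw [Nat.card_prod, h.B_card, hcard, Nat.card_eq_fintype_card (α := Bool), Fintype.card_bool, hq] at hle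
    omega
  have hTS : T = (S : Subgroup G) := by
    by_contra hne
    refine absurd (Subgroup.card_le_of_le (fun g hg => ?_ : (S : Subgroup G) ⊓ normalizer (T : Set G) ≤ T))
      (not_le.2 (card_lt_nS (Q := T) inf_le_left hne))
    set E := R.map (MulAut.conj g).toMonoidHom with hE
    have hEsq : ∀ x ∈ E, x * x = 1 := by
      rintro _ ⟨r, hr, rfl⟩
      show g * r * g⁻¹ * (g * r * g⁻¹) = 1
      rw [conj_mul, h.R_sq r hr, mul_one, mul_inv_cancel]
    have hEc : Nat.card E = q * q := by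
      rw [hE, Subgroup.card_map_of_injective (MulAut.conj g).injective, h.R_card]
    have hET : E ≤ T := by
      rintro _ ⟨r, hr, rfl⟩
      exact (mem_normalizer_iff.1 hg.2 r).1 (hPT ⟨h.bad.le hr, le_normalizer hr⟩)
    rcases h.eq_or_eq (hel E hET hEsq hEc) hEsq hEc with e | e
    · exact hPT ⟨hg.1, mem_normalizer_fintype fun r hr => e.le (mem_map_of_mem _ hr)⟩
    · have hgg : g₀⁻¹ * g ∈ P := by
        refine ⟨(S : Subgroup G).mul_mem ((S : Subgroup G).inv_mem hg₀T.1) hg.1,
          mem_normalizer_fintype fun r hr => ?_⟩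
        obtain ⟨-, hA⟩ := h.swap ((normalizer (P : Set G)).inv_mem hg₀T.2) fun e =>
          hnR g₀ hg₀T hg₀P (by simpa using (normalizer (R : Set G)).inv_mem e)
        have := hA _ (e.le (mem_map_of_mem _ hr))
        simpa [mul_assoc] using this
      have := T.mul_mem hg₀T (hPT hgg)
      rwa [mul_inv_cancel_left] at this
  refine ⟨fun g hg => ?_, ?_⟩
  · rw [← hTS] at hg
    exact hg.2
  · haveI : Fact (Nat.Prime 2) := ⟨Nat.prime_two⟩
    obtain ⟨n, hn⟩ := S.isPGroup'.exists_card_eq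
    have h1 : Nat.card P = 64 := by rw [hP, h.P_card, hq]
    have h2 : Nat.card P < Nat.card (S : Subgroup G) := lt_of_le_of_ne (Subgroup.card_le_of_le inf_le_left)
      fun e => hPS (CfsgLib.Solvable.eq_of_le_of_card_le inf_le_left e.ge)
    rw [hTS] at hTle
    rw [h1, hn] at h2 hTle
    rw [hn]
    have e1 : 6 < n := (Nat.pow_lt_pow_iff_right (a := 2) (by norm_num)).1 (by norm_num; exact h2)
    have e2 : n ≤ 7 := (Nat.pow_le_pow_iff_right (a := 2) (by norm_num)).1 (by norm_num; exact hTle)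
    rw [show n = 7 by omega]
    norm_num

set_option maxHeartbeats 1000000 in
/-- `P` is a Sylow 2-subgroup of `G`. -/
theorem sylow_eq [IsSimpleGroup G] (hna : ∃ a b : G, a * b ≠ b * a) (hc : IsCIT G)
    (hA : A ∈ maxElemIn 2 ((S : Subgroup G) ⊓ normalizer (R : Set G))) (hq : q = 4) :
    (S : Subgroup G) ⊓ normalizer (R : Set G) = (S : Subgroup G) := by
  classical
  haveI : Fact (Nat.Prime 2) := ⟨Nat.prime_two⟩
  haveI : Fact (Nat.Prime 3) := ⟨Nat.prime_three⟩
  by_contra hPS
  set N := normalizer (R : Set G) with hN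
  set P := (S : Subgroup G) ⊓ N with hP
  obtain ⟨hSP, hScard⟩ := h.sylow_normalizes hq hPS
  haveI : CharP K 2 := charP_two h.card_K (hq.trans (show 4 = 2 ^ 2 by norm_num))
  have hBcard : Nat.card ↥(A ⊓ R) = 4 := h.B_card.trans hq
  obtain ⟨p₀, hp₀, hp1⟩ := (A ⊓ R).bot_or_exists_ne_one.resolve_left fun e => by
    rw [e, Subgroup.card_bot] at hBcard
    omega
  obtain ⟨C⟩ := h.coord hc hp₀ hp1
  -- an element of order three normalising `P` and `R`
  obtain ⟨d, hdR, hdP, hd3⟩ : ∃ d ∈ N, d ∈ normalizer (P : Set G) ∧ orderOf d = 3 := by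
    obtain ⟨b, hb0, hb1⟩ := CfsgLib.Amalgam.Higman.exists_ne_zero_one (K := K) (by rw [h.card_K, hq]; norm_num)
    obtain ⟨g, hgR, hgP, hgp, -⟩ := C.torus b hb0
    obtain ⟨c, hc1, -⟩ := C.borel g hgR hgP
    have hcb : c = b := C.φ_inj (by
      have := hc1 1
      rw [C.φ_one, mul_one, hgp] at this
      exact this.symm)
    have hpow : ∀ i : ℕ, g ^ i * p₀ * (g ^ i)⁻¹ = C.φ (b ^ i) := by
      intro i
      induction i with
      | zero => simp [C.φ_one]
      | succ i ih =>
        rw [pow_succ', pow_succ', ← hcb, ← hc1, hcb, ← ih]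
        group
    have hbo : b ^ orderOf g = 1 := C.φ_inj (by rw [← hpow, pow_orderOf_eq_one, C.φ_one]; simp)
    have hb3 : orderOf b = 3 := by
      refine orderOf_eq_prime ?_ hb1
      have := FiniteField.pow_card_sub_one_eq_one b hb0
      rw [h.card_K, hq] at this
      exact this
    have h3 : 3 ∣ orderOf g := hb3 ▸ orderOf_dvd_of_pow_eq_one hbo
    exact ⟨g ^ (orderOf g / 3), pow_mem hgR _, pow_mem hgP _,
      orderOf_pow_orderOf_div (orderOf_pos g).ne' h3⟩
  have hd1 : d ≠ 1 := fun e => by rw [e, orderOf_one] at hd3; norm_num at hd3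
  have hdodd : Odd (orderOf d) := by rw [hd3]; decide
  -- an element interchanging `R` and `A` and normalising `⟨d⟩`
  obtain ⟨n, hnP, hnR, hnd⟩ : ∃ n ∈ normalizer (P : Set G), n ∉ N ∧
      n * d * n⁻¹ ∈ zpowers d := by
    obtain ⟨g₀, hg₀, hg₀P⟩ := SetLike.not_le_iff_exists.1 fun hle =>
      hPS (le_antisymm inf_le_left hle)
    have hg₀R : g₀ ∉ N := fun e => hg₀P ⟨hg₀, e⟩
    set M := normalizer (P : Set G) ⊓ N with hM
    have hMconj : g₀ * d * g₀⁻¹ ∈ M := by
      refine ⟨(normalizer (P : Set G)).mul_mem ((normalizer (P : Set G)).mul_mem (hSP hg₀) hdP)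
        ((normalizer (P : Set G)).inv_mem (hSP hg₀)), ?_⟩
      have hdA := h.mem_normalizer_A hdR hdP
      have hinv : g₀⁻¹ ∉ N := fun e => hg₀R (by simpa using N.inv_mem e)
      refine mem_normalizer_fintype fun r hr => ?_
      have h1 := (h.swap ((normalizer (P : Set G)).inv_mem (hSP hg₀)) hinv).1 r hr
      have h2 := (h.swap (hSP hg₀) hg₀R).2 _ ((mem_normalizer_iff.1 hdA _).1 h1)
      simpa [mul_assoc] using h2
    have hMd : Nat.card M ∣ 960 := h.card_normalizer hq ▸ Subgroup.card_dvd_of_le inf_le_right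
    have h3M : 3 ∣ Nat.card M := hd3 ▸ (Subgroup.orderOf_dvd_natCard M ⟨hdP, hdR⟩)
    have hsyl : ∀ (x : G) (hx : x ∈ M), orderOf x = 3 →
        Nat.card (zpowers (⟨x, hx⟩ : M)) = 3 ^ (Nat.card M).factorization 3 := by
      intro x hx hx3
      rw [Nat.card_zpowers, Subgroup.orderOf_mk, hx3]
      have h0 : Nat.card M ≠ 0 := Nat.card_pos.ne'
      have hle : (Nat.card M).factorization 3 ≤ 1 := by
        by_contra hlt
        have h9 : 3 ^ 2 ∣ Nat.card M :=
          (Nat.Prime.pow_dvd_iff_le_factorization Nat.prime_three h0).2 (by omega)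
        exact absurd (h9.trans hMd) (by norm_num)
      have hge : 1 ≤ (Nat.card M).factorization 3 :=
        (Nat.Prime.pow_dvd_iff_le_factorization Nat.prime_three h0).1 (by simpa using h3M)
      rw [le_antisymm hle hge, pow_one]
    let Q₁ : Sylow 3 M := Sylow.ofCard (zpowers ⟨d, hdP, hdR⟩) (hsyl d ⟨hdP, hdR⟩ hd3)
    let Q₂ : Sylow 3 M := Sylow.ofCard (zpowers ⟨g₀ * d * g₀⁻¹, hMconj⟩)
      (hsyl _ hMconj (by rw [orderOf_conj_eq, hd3]))
    obtain ⟨m, hm⟩ := MulAction.exists_smul_eq M Q₂ Q₁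
    refine ⟨(m : G) * g₀, (normalizer (P : Set G)).mul_mem m.2.1 (hSP hg₀),
      fun e => hg₀R (by simpa using N.mul_mem (N.inv_mem m.2.2) e), ?_⟩
    have hmem : m * ⟨g₀ * d * g₀⁻¹, hMconj⟩ * m⁻¹ ∈ (Q₁ : Subgroup M) := by
      rw [← hm, Sylow.coe_subgroup_smul]
      exact ⟨⟨g₀ * d * g₀⁻¹, hMconj⟩, by rw [Sylow.coe_ofCard]; exact mem_zpowers _, rfl⟩
    rw [Sylow.coe_ofCard] at hmem
    obtain ⟨i, hi⟩ := hmem
    refine ⟨i, ?_⟩
    have := congrArg Subtype.val hi
    simp only [SubgroupClass.coe_zpow, Subgroup.coe_mul, Subgroup.coe_inv] at this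
    show d ^ i = _
    rw [this]; group
  -- an involution interchanging `R` and `A` and inverting `d`
  obtain ⟨u, huP, huR, hu2, hud⟩ : ∃ u ∈ normalizer (P : Set G), u ∉ N ∧ orderOf u = 2 ∧
      u * d * u⁻¹ = d⁻¹ := by
    set D := zpowers d with hD
    have hnD : n ∈ normalizer (D : Set G) := mem_normalizer_fintype fun x hx => by
      obtain ⟨i, rfl⟩ := hx
      rw [← conj_zpow]
      exact D.zpow_mem hnd i
    have hn2 : n * n ∈ N := by
      refine mem_normalizer_fintype fun r hr => ?_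
      have := (h.swap hnP hnR).2 _ ((h.swap hnP hnR).1 r hr)
      simpa [mul_assoc] using this
    obtain ⟨k, o, ho, hko⟩ := Nat.exists_eq_pow_mul_and_not_dvd (orderOf_pos n).ne' 2 (by norm_num)
    obtain ⟨j, hj⟩ : ∃ j, o = 2 * j + 1 := ⟨o / 2, by omega⟩
    set u := n ^ o with hu
    have huN : u ∉ N := fun e => hnR (by
      have h1 := N.mul_mem (N.inv_mem (pow_mem hn2 j)) e
      rw [hu, hj, ← pow_two, ← pow_mul, pow_succ, inv_mul_cancel_left] at h1
      exact h1)
    have huD : u ∈ normalizer (D : Set G) := pow_mem hnD o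
    have hcases : u * d * u⁻¹ = d ∨ u * d * u⁻¹ = d⁻¹ := by
      obtain ⟨i, hi⟩ := (mem_normalizer_iff.1 huD d).1 (mem_zpowers d)
      rw [← hi]
      have h2 : d ^ (i % 3) = d ^ i := by rw [← zpow_mod_orderOf d i, hd3]; rfl
      have h3 : i % 3 = 0 ∨ i % 3 = 1 ∨ i % 3 = 2 := by omega
      rcases h3 with e | e | e
      · rw [e, zpow_zero] at h2
        exact absurd (conj_eq_one_iff.1 (hi.symm.trans h2.symm)) hd1
      · rw [e, zpow_one] at h2
        exact Or.inl h2.symm
      · refine Or.inr ?_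
        show d ^ i = d⁻¹
        rw [← h2, e]
        refine eq_inv_of_mul_eq_one_left ?_
        rw [← zpow_add_one, show (2 : ℤ) + 1 = ((3 : ℕ) : ℤ) by norm_num, zpow_natCast, ← hd3,
          pow_orderOf_eq_one]
    have hu1 : u ≠ 1 := fun e => huN (e ▸ one_mem N)
    have hupow : ∃ i, u ^ 2 ^ i = 1 := ⟨k, by
      rw [hu, ← pow_mul, mul_comm, ← hko, pow_orderOf_eq_one]⟩
    have hud : u * d * u⁻¹ = d⁻¹ := hcases.resolve_left fun e =>
      hd1 (hc.eq_one_of_commute hdodd hupow hu1 (mul_inv_eq_iff_eq_mul.1 e).symm)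
    refine ⟨u, pow_mem hnP o, huN, ?_, hud⟩
    by_contra hne
    have huu : u * u ≠ 1 := fun e => hne (invol_of_mul_self e hu1)
    refine hd1 (hc.eq_one_of_commute hdodd ?_ huu ?_)
    · obtain ⟨i, hi⟩ := hupow
      exact ⟨i, by rw [← pow_two, ← pow_mul, mul_comm, pow_mul, hi, one_pow]⟩
    · calc d * (u * u) = d * (u * u) * d⁻¹ * d := by group
        _ = (d * u * d) * (d⁻¹ * u * d⁻¹) * d := by group
        _ = u * u * d := by
          have e : d * u * d = u := by
            calc d * u * d = d * (u * d * u⁻¹) * u := by group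
              _ = u := by rw [hud, mul_inv_cancel, one_mul]
          rw [e]
          have e' : d⁻¹ * u * d⁻¹ = u := by
            calc d⁻¹ * u * d⁻¹ = d⁻¹ * (d * u * d) * d⁻¹ := by rw [e]
              _ = u := by group
          rw [e']
  have huu : u * u = 1 := invol_mul_self hu2
  have huinv : u⁻¹ = u := invol_inv hu2
  obtain ⟨hRA, hAR⟩ := h.swap huP huR
  simp only [huinv] at hRA hAR hud
  have huB : ∀ b ∈ A ⊓ R, u * b * u ∈ A ⊓ R := fun b hb => ⟨hRA b hb.2, hAR b hb.1⟩
  -- a Sylow subgroup containing `P` and `u`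
  obtain ⟨T, hT⟩ : ∃ T : Sylow 2 G, P ⊔ zpowers u ≤ (T : Subgroup G) := by
    refine IsPGroup.exists_le_sylow ?_
    refine (S.isPGroup'.to_le inf_le_left).to_sup_of_normal_left' ?_ (zpowers_le.2 huP)
    rintro ⟨_, i, rfl⟩
    exact ⟨1, Subtype.ext (by
      show (u ^ i) ^ 2 ^ 1 = 1
      rw [pow_one, pow_two, ← (Commute.refl u).mul_zpow, huu, one_zpow])⟩
  have hPT : P ≤ (T : Subgroup G) := le_sup_left.trans hT
  have huT : u ∈ (T : Subgroup G) := hT (mem_sup_right (mem_zpowers u))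
  have hTcard : Nat.card (T : Subgroup G) = 128 := by
    rw [T.card_eq_multiplicity, ← S.card_eq_multiplicity, hScard]
  have hPcard : Nat.card P = 64 := by rw [hP, h.P_card, hq]
  have hrel : P.relIndex (T : Subgroup G) = 2 := by
    have h1 := Subgroup.card_mul_index (P.subgroupOf (T : Subgroup G))
    rw [Nat.card_congr (subgroupOfEquivOfLe hPT).toEquiv, hPcard, hTcard] at h1
    rw [Subgroup.relIndex]
    omega
  have huP' : u ∉ P := fun e => huR e.2
  have hdecT : ∀ x ∈ (T : Subgroup G), x ∈ P ∨ u * x ∈ P := by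
    intro x hx
    by_cases hxP : x ∈ P
    · exact Or.inl hxP
    · refine Or.inr ?_
      have := Subgroup.mul_mem_iff_of_index_two (H := P.subgroupOf (T : Subgroup G)) hrel
        (a := ⟨u, huT⟩) (b := ⟨x, hx⟩)
      simp only [mem_subgroupOf, Subgroup.coe_mul] at this
      exact this.2 (by simp [huP', hxP])
  -- the fixed points of `u` in `A ⊓ R`
  have hBcomm : ∀ x ∈ P, ∀ b ∈ A ⊓ R, x * b = b * x := fun x hx b hb => h.comm_B hx hb
  obtain ⟨b₁, hb₁, hb₁u⟩ : ∃ b ∈ A ⊓ R, u * b * u ≠ b := by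
    by_contra! hall
    have hdB : d * p₀ * d⁻¹ ∈ A ⊓ R := ⟨(mem_normalizer_iff.1 (h.mem_normalizer_A hdR hdP) _).1 hp₀.1,
      (mem_normalizer_iff.1 hdR _).1 hp₀.2⟩
    have e1 := hall _ hdB
    have e2 : u * (d * p₀ * d⁻¹) * u = d⁻¹ * p₀ * d := by
      calc u * (d * p₀ * d⁻¹) * u = (u * d * u) * (u * p₀ * u) * (u * d * u)⁻¹ := by
            simp only [mul_inv_rev, huinv]
            simp only [mul_assoc, mul_left_invol huu]
        _ = d⁻¹ * p₀ * d := by rw [hud, hall p₀ hp₀, inv_inv]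
    refine hp1 (hc.eq_one_of_fix (x := d * d) h.bad.isPGroup ?_ ?_ hp₀.2 ?_)
    · rw [← pow_two]; exact hdodd.of_dvd_nat (orderOf_pow_dvd 2)
    · rw [← pow_two]
      exact fun e => by
        have := orderOf_dvd_of_pow_eq_one e
        rw [hd3] at this
        norm_num at this
    · calc d * d * p₀ * (d * d)⁻¹ = d * (d * p₀ * d⁻¹) * d⁻¹ := by group
        _ = d * (d⁻¹ * p₀ * d) * d⁻¹ := by rw [← e2, e1]
        _ = p₀ := by group
  obtain ⟨t, ht, ht1, htu, hCB⟩ : ∃ t ∈ A ⊓ R, t ≠ 1 ∧ u * t * u = t ∧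
      ∀ c ∈ A ⊓ R, u * c * u = c → c = 1 ∨ c = t := by
    have hb' := huB b₁ hb₁
    refine ⟨b₁ * (u * b₁ * u), mul_mem hb₁ hb', ?_, ?_, ?_⟩
    · intro e
      exact hb₁u (by rw [eq_inv_of_mul_eq_one_right e, inv_eq_of_mul_eq_one_left (h.R_sq b₁ hb₁.2)])
    · calc u * (b₁ * (u * b₁ * u)) * u = (u * b₁ * u) * b₁ * (u * u) := by group
        _ = b₁ * (u * b₁ * u) := by rw [huu, mul_one, h.R_comm hb'.2 hb₁.2]
    · intro c hcB hcu
      by_contra! hne
      set t := b₁ * (u * b₁ * u) with htdef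
      set F : Subgroup G := (A ⊓ R) ⊓ centralizer ({u} : Set G) with hF
      have hmem : ∀ x ∈ A ⊓ R, u * x * u = x → x ∈ F := fun x hx e =>
        ⟨hx, mem_centralizer_singleton_iff.2 (by
          calc x * u = u * x * u * u := by rw [e]
            _ = u * x := by rw [mul_assoc, huu, mul_one])⟩
      have htF : t ∈ F := hmem t (mul_mem hb₁ hb') (by
        calc u * t * u = (u * b₁ * u) * b₁ * (u * u) := by rw [htdef]; group
          _ = t := by rw [huu, mul_one, h.R_comm hb'.2 hb₁.2])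
      have ht1 : t ≠ 1 := fun e => hb₁u (by
        rw [eq_inv_of_mul_eq_one_right e, inv_eq_of_mul_eq_one_left (h.R_sq b₁ hb₁.2)])
      have h3 := Set.ncard_le_ncard (show ({1, t, c} : Set G) ⊆ F from by
        intro w hw
        simp only [Set.mem_insert_iff, Set.mem_singleton_iff] at hw
        rcases hw with rfl | rfl | rfl
        exacts [one_mem F, htF, hmem _ hcB hcu]) (Set.toFinite _)
      rw [Set.ncard_eq_three.2 ⟨1, t, c, Ne.symm ht1, Ne.symm hne.1, Ne.symm hne.2, rfl⟩,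
        ← Nat.card_coe_set_eq] at h3
      have hFeq : F = A ⊓ R := by
        refine CfsgLib.Solvable.eq_of_le_of_card_le inf_le_left ?_
        have hd4 := Subgroup.card_dvd_of_le (inf_le_left : F ≤ A ⊓ R)
        rw [hBcard] at hd4 ⊢
        have h5 : Nat.card ↥F ≤ 4 := Nat.le_of_dvd (by norm_num) hd4
        have h3' : 3 ≤ Nat.card ↥F := h3
        rcases (show Nat.card ↥F = 3 ∨ Nat.card ↥F = 4 by omega) with e | e
        · rw [e] at hd4; norm_num at hd4
        · exact e.ge
      have hbF : b₁ ∈ F := by rw [hFeq]; exact hb₁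
      refine hb₁u ?_
      rw [← mem_centralizer_singleton_iff.1 hbF.2, mul_assoc, huu, mul_one]
  have ht2 : orderOf t = 2 := invol_of_mul_self (h.R_sq t ht.2) ht1
  -- all involutions of `P` are conjugate to `t`
  have hconjP : ∀ x ∈ P, x * x = 1 → x ≠ 1 → IsConj t x := by
    intro x hx hx2 hx1
    rcases h.invol x hx hx2 with hR | hA'
    · obtain ⟨m, -, hm⟩ := h.transitive hc ht.2 ht1 hR hx1
      exact isConj_iff.2 ⟨m, hm⟩
    · have hy1 : u * x * u ≠ 1 := fun e => hx1 (conj_eq_one_iff.1 (by rwa [huinv]))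
      obtain ⟨m, -, hm⟩ := h.transitive hc ht.2 ht1 (hAR x hA') hy1
      exact (isConj_iff.2 ⟨m, hm⟩).trans (isConj_iff.2 ⟨u, by
        rw [huinv]; simp only [mul_assoc, mul_left_invol huu, huu, mul_one]⟩)
  have hCt : centralizer ({t} : Set G) = (T : Subgroup G) := by
    refine T.is_maximal' (hc t ht2) fun x hx => mem_centralizer_singleton_iff.2 ?_
    rcases hdecT x hx with e | e
    · exact hBcomm x e t ht
    · have e1 := hBcomm _ e t ht
      calc x * t = u * (u * x * t) := by simp only [mul_assoc, mul_left_invol huu]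
        _ = (u * t * u) * x := by rw [e1]; simp only [mul_assoc]
        _ = t * x := by rw [htu]
  -- `u` is conjugate to `t`
  have hut : IsConj t u := by
    rcases CfsgLib.Transfer.thompson_transfer_involution T hPT hrel (by rw [pow_two]; exact huu) huT with
      ⟨M, hMn, hMi, huM⟩ | ⟨g, hg⟩
    · exfalso
      rcases hMn.eq_bot_or_eq_top with e | e
      · rw [e, Subgroup.index_bot] at hMi
        obtain ⟨a, b, hab⟩ := hna
        haveI : Fact (Nat.Prime 2) := ⟨Nat.prime_two⟩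
        haveI : IsCyclic G := isCyclic_of_prime_card hMi
        exact hab (IsCyclic.commGroup.mul_comm a b)
      · exact huM (e ▸ mem_top u)
    · refine (hconjP _ hg ?_ ?_).trans (isConj_iff.2 ⟨g⁻¹, by group⟩)
      · rw [conj_mul, huu, mul_one, mul_inv_cancel]
      · exact fun e => invol_ne_one hu2 (conj_eq_one_iff.1 e)
  have hCu : Nat.card ↥(centralizer ({u} : Set G)) = 128 := by
    obtain ⟨g, hg⟩ := isConj_iff.1 hut
    rw [← hTcard, ← hCt]
    refine Nat.card_congr ⟨fun c => ⟨g⁻¹ * c.1 * g, ?_⟩, fun c => ⟨g * c.1 * g⁻¹, ?_⟩,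
      fun c => Subtype.ext (by simp [mul_assoc]), fun c => Subtype.ext (by simp [mul_assoc])⟩
    · rw [mem_centralizer_singleton_iff]
      have hc' := mem_centralizer_singleton_iff.1 c.2
      calc g⁻¹ * c.1 * g * t = g⁻¹ * (c.1 * (g * t * g⁻¹)) * g := by group
        _ = g⁻¹ * ((g * t * g⁻¹) * c.1) * g := by simp only [hg]; rw [hc']
        _ = t * (g⁻¹ * c.1 * g) := by group
    · rw [mem_centralizer_singleton_iff]
      have hc' := mem_centralizer_singleton_iff.1 c.2
      calc g * c.1 * g⁻¹ * u = g * (c.1 * t) * g⁻¹ := by rw [← hg]; group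
        _ = g * (t * c.1) * g⁻¹ := by rw [hc']
        _ = u * (g * c.1 * g⁻¹) := by rw [← hg]; group
  -- coordinates on `R`
  have hdecR : ∀ x ∈ R, ∃ a k, x = C.φ a * C.r k := by
    haveI := Fintype.ofFinite ↥R
    let f : K × K → R := fun p => ⟨C.φ p.1 * C.r p.2, R.mul_mem (C.φ_mem _).2 (C.r_mem _)⟩
    have hf : Function.Injective f := by
      rintro ⟨a, k⟩ ⟨a', k'⟩ e
      have e' : C.φ a * C.r k = C.φ a' * C.r k' := congrArg (fun z : R => (z : G)) e
      have hkk : k = k' := by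
        have hk : C.r (k + k') ∈ A := by
          have hr0 : C.r k * C.r k' = (C.φ a)⁻¹ * C.φ a' := by
            calc C.r k * C.r k' = (C.φ a)⁻¹ * (C.φ a * C.r k) * C.r k' := by group
              _ = (C.φ a)⁻¹ * C.φ a' * (C.r k' * C.r k') := by rw [e']; group
              _ = (C.φ a)⁻¹ * C.φ a' := by rw [h.R_sq _ (C.r_mem _), mul_one]
          rw [C.r_add, hr0]
          exact A.mul_mem (A.inv_mem (C.φ_mem a).1) (C.φ_mem a').1
        rw [eq_neg_of_add_eq_zero_left (C.r_eq _ hk), CfsgLib.Amalgam.Higman.neg_eq]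
      subst hkk
      rw [C.φ_inj (mul_right_cancel e')]
    have hb : Function.Bijective f := (Fintype.bijective_iff_injective_and_card f).2 ⟨hf, by
      rw [Fintype.card_prod, ← Nat.card_eq_fintype_card (α := R), h.R_card, h.card_K]⟩
    intro x hx
    obtain ⟨⟨a, k⟩, e⟩ := hb.2 ⟨x, hx⟩
    exact ⟨a, k, (congrArg (fun z : R => (z : G)) e).symm⟩
  have hdecP : ∀ x ∈ P, ∃ r ∈ R, ∃ a ∈ A, x = r * a := by
    intro x hx
    rw [hP, hN, ← h.P_eq, ← SetLike.mem_coe,
      Subgroup.coe_mul_of_right_le_normalizer_left R A (h.A_le.trans inf_le_right)] at hx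
    obtain ⟨r, hr, a, ha, rfl⟩ := hx
    exact ⟨r, hr, a, ha, rfl⟩
  have hcommB : ∀ r ∈ R, ∀ a ∈ A, r * a * r⁻¹ * a⁻¹ ∈ A ⊓ R := by
    intro r hr a ha
    refine ⟨A.mul_mem ((mem_normalizer_iff.1 (h.A_norm ⟨h.bad.le hr, le_normalizer hr⟩) a).1 ha)
      (A.inv_mem ha), ?_⟩
    rw [show r * a * r⁻¹ * a⁻¹ = r * (a * r⁻¹ * a⁻¹) by group]
    exact R.mul_mem hr ((mem_normalizer_iff.1 (h.A_le ha).2 _).1 (R.inv_mem hr))
  -- the commutator map `p ↦ (upu)p⁻¹`
  have hmap : ∀ p : P, ∃ ak : K × K,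
      u * (p : G) * u * (p : G)⁻¹ = C.φ ak.1 * (u * C.r ak.2 * u * C.r ak.2) := by
    rintro ⟨p, hp⟩
    obtain ⟨r, hr, a, ha, rfl⟩ := hdecP p hp
    set r' := u * a * u with hr'
    have hr'R : r' ∈ R := hAR a ha
    have ha' : a = u * r' * u := by rw [hr']; simp only [mul_assoc, mul_left_invol huu, huu, mul_one]
    have hz : r' * a * r'⁻¹ * a⁻¹ ∈ A ⊓ R := hcommB r' hr'R a ha
    set z := r' * a * r'⁻¹ * a⁻¹ with hzdef
    obtain ⟨e₁, k, hx⟩ := hdecR (r * r') (R.mul_mem hr hr'R)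
    obtain ⟨e₂, he₂⟩ := C.φ_surj _
      (mul_mem hz (mul_mem (huB _ (C.φ_mem e₁)) (C.φ_mem e₁)))
    refine ⟨(e₂, k), ?_⟩
    have hinva : a⁻¹ = a := inv_eq_of_mul_eq_one_left (h.A_sq a ha)
    have hinvr : r⁻¹ = r := inv_eq_of_mul_eq_one_left (h.R_sq r hr)
    have hA1 : u * r * u ∈ A := hRA r hr
    have hA2 : u * C.r k * u ∈ A := hRA _ (C.r_mem k)
    have hzc : ∀ y ∈ P, y * z = z * y := fun y hy => hBcomm y hy z hz
    calc u * (r * a) * u * (r * a)⁻¹ = (u * r * u) * r' * (a * r) := by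
          rw [hr', mul_inv_rev, hinva, hinvr]; simp only [mul_assoc, mul_left_invol huu]
      _ = (u * r * u) * (z * a * r') * r := by rw [hzdef]; group
      _ = (u * r * u * z) * a * r' * r := by group
      _ = z * (u * r * u * (u * r' * u)) * (r' * r) := by
          rw [hzc _ (h.A_le hA1), ← ha']; group
      _ = z * (u * (r * r') * u) * (r * r') := by
          rw [h.R_comm hr'R hr]; simp only [mul_assoc, mul_left_invol huu]
      _ = z * ((u * C.φ e₁ * u) * (u * C.r k * u)) * (C.φ e₁ * C.r k) := by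
          rw [hx]; simp only [mul_assoc, mul_left_invol huu]
      _ = z * (u * C.φ e₁ * u) * ((u * C.r k * u) * C.φ e₁) * C.r k := by group
      _ = z * ((u * C.φ e₁ * u) * C.φ e₁) * (u * C.r k * u * C.r k) := by
          rw [hBcomm _ (h.A_le hA2) _ (C.φ_mem e₁)]; group
      _ = C.φ e₂ * (u * C.r k * u * C.r k) := by rw [he₂]
  choose F hF using hmap
  haveI := Fintype.ofFinite ↥P
  obtain ⟨y, hy⟩ := Fintype.exists_lt_card_fiber_of_mul_lt_card (f := F) (n := 2) (by
    rw [Fintype.card_prod, h.card_K, hq, ← Nat.card_eq_fintype_card, hPcard]; norm_num)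
  obtain ⟨p₁, hp₁, p₂, hp₂, p₃, hp₃, h12, h13, h23⟩ := Finset.two_lt_card.1 hy
  simp only [Finset.mem_filter, Finset.mem_univ, true_and] at hp₁ hp₂ hp₃
  have hfixp : ∀ p p' : P, F p = F p' → u * ((p : G)⁻¹ * p') * u = (p : G)⁻¹ * p' := by
    intro p p' e
    have e' : u * (p : G) * u * (p : G)⁻¹ = u * (p' : G) * u * (p' : G)⁻¹ := by rw [hF, hF, e]
    calc u * ((p : G)⁻¹ * p') * u = (u * (p : G) * u)⁻¹ * (u * (p' : G) * u) := by
          simp only [mul_inv_rev, huinv, mul_assoc, mul_left_invol huu]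
      _ = ((u * (p : G) * u * (p : G)⁻¹) * p)⁻¹ * ((u * (p' : G) * u * (p' : G)⁻¹) * p') := by group
      _ = (p : G)⁻¹ * p' := by rw [e']; group
  obtain ⟨w, hwP, hw1, hwt, hwu⟩ : ∃ w ∈ P, w ≠ 1 ∧ w ≠ t ∧ u * w * u = w := by
    by_cases e : (p₁ : G)⁻¹ * p₂ = t
    · refine ⟨(p₁ : G)⁻¹ * p₃, P.mul_mem (P.inv_mem p₁.2) p₃.2,
        fun e' => h13 (Subtype.ext (inv_mul_eq_one.1 e')), fun e' => ?_, hfixp _ _ (hp₁.trans hp₃.symm)⟩
      exact h23 (Subtype.ext (mul_left_cancel (e.trans e'.symm)))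
    · exact ⟨(p₁ : G)⁻¹ * p₂, P.mul_mem (P.inv_mem p₁.2) p₂.2,
        fun e' => h12 (Subtype.ext (inv_mul_eq_one.1 e')), e, hfixp _ _ (hp₁.trans hp₂.symm)⟩
  have hsqP : ∀ x ∈ P, x * x ∈ A ⊓ R := by
    intro x hx
    obtain ⟨r, hr, a, ha, rfl⟩ := hdecP x hx
    have := hcommB r hr a ha
    rwa [inv_eq_of_mul_eq_one_left (h.A_sq a ha), inv_eq_of_mul_eq_one_left (h.R_sq r hr),
      show r * a * r * a = r * a * (r * a) by group] at this
  have hsq_fix : ∀ x ∈ P, u * x * u = x → x * x = 1 ∨ x * x = t := fun x hx hxu =>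
    hCB _ (hsqP x hx) (by
      calc u * (x * x) * u = (u * x * u) * (u * x * u) := by simp only [mul_assoc, mul_left_invol huu]
        _ = x * x := by rw [hxu])
  have hwsq : w * w = t := by
    rcases hsq_fix w hwP hwu with e | e
    · exfalso
      have hwB : w ∈ A ⊓ R := by
        rcases h.invol w hwP e with hR | hA'
        · exact ⟨hwu ▸ hRA w hR, hR⟩
        · exact ⟨hA', hwu ▸ hAR w hA'⟩
      rcases hCB w hwB hwu with e' | e'
      exacts [hw1 e', hwt e']
    · exact e
  -- the centraliser of `u`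
  set U := (T : Subgroup G) ⊓ centralizer ({u} : Set G) with hU
  have hcomm_of : ∀ {x : G}, x ∈ centralizer ({u} : Set G) → u * x * u = x := fun {x} hx => by
    rw [← mem_centralizer_singleton_iff.1 hx, mul_assoc, huu, mul_one]
  have hUsq : ∀ x ∈ U, x * x = 1 ∨ x * x = t := by
    intro x hx
    rcases hdecT x hx.1 with e | e
    · exact hsq_fix x e (hcomm_of hx.2)
    · have h1 : u * (u * x) * u = u * x := by
        rw [← mul_assoc, huu, one_mul]
        exact mem_centralizer_singleton_iff.1 hx.2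
      have h2 := hsq_fix _ e h1
      rwa [show u * x * (u * x) = (u * x * u) * x by group, hcomm_of hx.2] at h2
  have hne : U ≠ centralizer ({u} : Set G) := by
    intro e
    have hTeq : centralizer ({u} : Set G) = (T : Subgroup G) :=
      CfsgLib.Solvable.eq_of_le_of_card_le (e ▸ inf_le_left) (by rw [hCu, hTcard])
    refine hb₁u (hcomm_of ?_)
    rw [hTeq]
    exact hPT ⟨h.bad.le hb₁.2, le_normalizer hb₁.2⟩
  haveI : Group.IsNilpotent ↥(centralizer ({u} : Set G)) := (hc u hu2).isNilpotent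
  have hlt : U.subgroupOf (centralizer ({u} : Set G)) < ⊤ :=
    lt_top_iff_ne_top.2 fun e => hne (le_antisymm inf_le_right (subgroupOf_eq_top.1 e))
  obtain ⟨⟨g, hgC⟩, hg, hgU⟩ :=
    SetLike.exists_of_lt (Group.normalizerCondition_of_isNilpotent _ hlt)
  have hgw : g * w * g⁻¹ ∈ U := by
    have hwC : w ∈ centralizer ({u} : Set G) := mem_centralizer_singleton_iff.2 (by
      calc w * u = u * w * u * u := by rw [hwu]
        _ = u * w := by rw [mul_assoc, huu, mul_one])
    exact mem_subgroupOf.1 ((mem_normalizer_iff.1 hg ⟨w, hwC⟩).1 (mem_subgroupOf.2 ⟨hPT hwP, hwC⟩))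
  refine hgU (mem_subgroupOf.2 ⟨?_, hgC⟩)
  show g ∈ (T : Subgroup G)
  rw [← hCt, mem_centralizer_singleton_iff]
  have e : g * w * g⁻¹ * (g * w * g⁻¹) = g * t * g⁻¹ := by rw [conj_mul, hwsq]
  rcases hUsq _ hgw with e' | e'
  · exact absurd (conj_eq_one_iff.1 (e.symm.trans e')) ht1
  · exact mul_inv_eq_iff_eq_mul.1 (e.symm.trans e')

/-- The group is `PSL₃(4)`. -/
theorem psl_three [IsSimpleGroup G] (hna : ∃ a b : G, a * b ≠ b * a) (hc : IsCIT G)
    (hA : A ∈ maxElemIn 2 ((S : Subgroup G) ⊓ normalizer (R : Set G))) :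
    ∃ (F : Type) (_ : Field F) (_ : Fintype F), Fintype.card F = 4 ∧
      Nonempty (G ≃* Matrix.ProjectiveSpecialLinearGroup (Fin 3) F) := by
  classical
  have hq := h.eq_four hna hc hA
  have hPS := h.sylow_eq hna hc hA hq
  obtain ⟨-, K', _, _, h'⟩ := h.partner hna hc hA
  haveI : CharP K 2 := charP_two h.card_K (hq.trans (show 4 = 2 ^ 2 by norm_num))
  set N := normalizer (R : Set G) with hN
  haveI : (R.subgroupOf N).Normal := normal_in_normalizer
  refine CfsgLib.Recog.LThreeFour.of_cit hc S ?_ R A ?_ ?_ h.R_sq h.A_sq h.bad.le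
    (h.A_le.trans inf_le_left) ?_ ?_ (h'.centralizer_R hc) (h.card_normalizer hq) (h'.card_normalizer hq) ?_
  · rw [← hPS, h.P_card, hq]
  · rw [h.R_card, hq]
  · rw [h.A_card, hq]
  · rw [inf_comm, h.B_card, hq]
  · exact hPS ▸ inf_le_right
  · intro Q hQ
    obtain ⟨e⟩ := h.iso
    set π := e.toMonoidHom.comp (QuotientGroup.mk' (R.subgroupOf N)) with hπ
    have hπs : Function.Surjective π := e.surjective.comp (QuotientGroup.mk'_surjective _)
    have hker : π.ker = R.subgroupOf N := by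
      ext w
      rw [hπ, MonoidHom.mem_ker, MonoidHom.comp_apply, MulEquiv.coe_toMonoidHom,
        map_eq_one_iff e e.injective, QuotientGroup.mk'_apply, QuotientGroup.eq_one_iff]
    have hcen : center SL(2, K) = ⊥ := by
      rw [eq_bot_iff]
      intro z hz
      obtain ⟨r, hr, hrz⟩ := Matrix.SpecialLinearGroup.mem_center_iff.1 hz
      have h2 : (r - 1) * (r - 1) = 0 := by
        rw [Fintype.card_fin] at hr
        linear_combination hr + CfsgLib.Amalgam.Higman.add_self (1 - r)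
      have hr1 : r = 1 := sub_eq_zero.1 (mul_self_eq_zero.1 h2)
      refine mem_bot.2 (Subtype.ext ?_)
      rw [← hrz, hr1, map_one]
      rfl
    haveI := CfsgLib.ClassK.isSimpleGroup_psl_two (F := K) (by rw [h.card_K, hq])
    set τ := (QuotientGroup.mk' (center SL(2, K))).comp π with hτ
    have hτs : Function.Surjective τ := (QuotientGroup.mk'_surjective _).comp hπs
    have hτker : τ.ker = R.subgroupOf N := by
      rw [hτ, ← MonoidHom.comap_ker, QuotientGroup.ker_mk', hcen, MonoidHom.comap_bot, hker]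
    rcases (Subgroup.Normal.map hQ τ hτs).eq_bot_or_eq_top with e' | e'
    · left
      rw [← hτker]
      exact (Subgroup.map_eq_bot_iff Q).1 e'
    · right
      by_cases hint : ∃ x ∈ Q, x ∈ R.subgroupOf N ∧ x ≠ 1
      · obtain ⟨x, hxQ, hxR, hx1⟩ := hint
        have hle : R.subgroupOf N ≤ Q := by
          intro s hs
          rcases eq_or_ne s 1 with rfl | hs1
          · exact one_mem Q
          obtain ⟨m, hm, hms⟩ := h.transitive hc (mem_subgroupOf.1 hxR)
            (fun e => hx1 (Subtype.ext e)) (mem_subgroupOf.1 hs) (fun e => hs1 (Subtype.ext e))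
          have : (⟨m, hm⟩ : N) * x * (⟨m, hm⟩ : N)⁻¹ = s := Subtype.ext hms
          exact this ▸ hQ.conj_mem x hxQ _
        rw [eq_top_iff]
        intro s _
        obtain ⟨y, hy, hys⟩ : τ s ∈ Q.map τ := e' ▸ mem_top _
        have : y⁻¹ * s ∈ τ.ker := by rw [MonoidHom.mem_ker, map_mul, map_inv, hys, inv_mul_cancel]
        have := Q.mul_mem hy (hle (hτker ▸ this))
        rwa [mul_inv_cancel_left] at this
      · exfalso
        push Not at hint
        have hcomm : ∀ x ∈ Q, ∀ s ∈ R.subgroupOf N, x * s = s * x := by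
          intro x hx s hs
          rw [← commutatorElement_eq_one_iff_mul_comm]
          refine hint _ ?_ ?_
          · rw [commutatorElement_def, show x * s * x⁻¹ * s⁻¹ = x * (s * x⁻¹ * s⁻¹) by group]
            exact Q.mul_mem hx (hQ.conj_mem _ (Q.inv_mem hx) s)
          · rw [commutatorElement_def]
            exact (R.subgroupOf N).mul_mem
              ((inferInstance : (R.subgroupOf N).Normal).conj_mem s hs x) ((R.subgroupOf N).inv_mem hs)
        have hQR : Q ≤ τ.ker := by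
          rw [hτker]
          intro x hx
          refine mem_subgroupOf.2 ((h.centralizer_R hc).le (mem_centralizer_iff.2 fun s hs => ?_))
          exact (congrArg (fun z : N => (z : G))
            (hcomm x hx ⟨s, le_normalizer hs⟩ (mem_subgroupOf.2 hs))).symm
        have h0 := (Subgroup.map_eq_bot_iff Q).2 hQR
        rw [e'] at h0
        exact absurd h0 top_ne_bot

end Large

end CfsgLib.Invol.CIT
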