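import Cfsg.Agent.Lib.Invol.CIT.CaseFour
import Cfsg.Agent.Lib.Amalgam.HigmanSL2Group
import Cfsg.Agent.Lib.Classical.SLTwoSylow

/-!
# The case `N(R)/R ≅ SL₂(q)`, `q ≥ 4`

`R` is elementary abelian of order `q²`, the Sylow subgroup `P` of `N(R)` is the product of its two
elementary abelian subgroups `R`, `A` of order `q²`, and the normaliser of `A` is also a 2-local
subgroup of the same kind.
-/

set_option autoImplicit false

namespace CfsgLib.Invol.CIT

open Subgroup CfsgLib.PLocal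
open scoped commutatorElement MatrixGroups

universe u

variable {G : Type u} [Group G] [Finite G]

/-- The configuration of a 2-local subgroup with quotient `SL₂(q)`, `q ≥ 4`. -/
structure Large (S : Sylow 2 G) (R A : Subgroup G) (q : ℕ) (K : Type) [Field K] [Fintype K] : Prop where
  bad : Bad S R
  four : 4 ≤ q
  card_K : Fintype.card K = q
  iso : Nonempty (normalizer (R : Set G) ⧸ R.subgroupOf (normalizer (R : Set G)) ≃* SL(2, K))
  R_sq : ∀ r ∈ R, r * r = 1
  R_card : Nat.card R = q * q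
  A_le : A ≤ (S : Subgroup G) ⊓ normalizer (R : Set G)
  A_sq : ∀ a ∈ A, a * a = 1
  A_card : Nat.card A = q * q
  B_card : Nat.card ↥(A ⊓ R) = q
  P_eq : R ⊔ A = (S : Subgroup G) ⊓ normalizer (R : Set G)
  P_card : Nat.card ↥((S : Subgroup G) ⊓ normalizer (R : Set G)) = q * (q * q)
  invol : ∀ x ∈ (S : Subgroup G) ⊓ normalizer (R : Set G), x * x = 1 → x ∈ R ∨ x ∈ A
  fixed : ∀ a ∈ A, a ∉ R → ∀ r ∈ R, a * r = r * a → r ∈ A
  A_norm : (S : Subgroup G) ⊓ normalizer (R : Set G) ≤ normalizer (A : Set G)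

theorem charP_two {K : Type} [Field K] [Fintype K] {q f : ℕ} (hq : Fintype.card K = q) (hf : q = 2 ^ f) :
    CharP K 2 := by
  obtain ⟨p, hchar⟩ := CharP.exists K
  obtain ⟨n, hp, hn⟩ := FiniteField.card K p
  have h1 : 1 < Fintype.card K := Fintype.one_lt_card
  have : p = 2 := by
    have h2 : p ∣ 2 ^ f := by
      rw [← hf, ← hq, hn]
      exact dvd_pow_self p n.ne_zero
    exact (Nat.prime_dvd_prime_iff_eq hp Nat.prime_two).1 (hp.dvd_of_dvd_pow h2)
  exact this ▸ hchar

theorem Bad.exists_large {S : Sylow 2 G} {R : Subgroup G} (h : Bad S R) (hc : IsCIT G) {A : Subgroup G}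
    (hA : A ∈ maxElemIn 2 ((S : Subgroup G) ⊓ normalizer (R : Set G))) (hAR : ¬ A ≤ R)
    (hquad : ∀ z ∈ zOne R, ∀ a ∈ A, ∀ b ∈ A, b * ⁅z, a⁆ = ⁅z, a⁆ * b)
    {q : ℕ} (hAq : Nat.card A = q * Nat.card ↥(A ⊓ R)) (hZq : Nat.card (zOne R) = q * q)
    (hZA : Nat.card ↥(zOne R ⊓ centralizer (A : Set G)) = q)
    (hfix : ∀ a ∈ A, a ∉ R → ∀ z ∈ zOne R, a * z = z * a → z ∈ centralizer (A : Set G))
    (hq4 : 4 ≤ q) {K : Type} [Field K] [Fintype K] (hK : Fintype.card K = q)
    (e : normalizer (R : Set G) ⧸ R.subgroupOf (normalizer (R : Set G)) ≃* SL(2, K)) :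
    Large S R A q K := by
  haveI : Fact (Nat.Prime 2) := ⟨Nat.prime_two⟩
  set N := normalizer (R : Set G) with hN
  set P := (S : Subgroup G) ⊓ N with hP
  set R' := R.subgroupOf N with hR'
  haveI : R'.Normal := normal_in_normalizer
  obtain ⟨f, hf⟩ : ∃ f, q = 2 ^ f := by
    have hpg := (S.isPGroup'.to_le (inf_le_left : P ≤ (S : Subgroup G))).to_le hA.1
    obtain ⟨n, hn⟩ := hpg.exists_card_eq
    obtain ⟨i, -, hi⟩ := (Nat.dvd_prime_pow Nat.prime_two).1 (hn ▸ Dvd.intro (Nat.card ↥(A ⊓ R)) hAq.symm : q ∣ 2 ^ n)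
    exact ⟨i, hi⟩
  haveI : CharP K 2 := charP_two hK hf
  -- `R` is elementary abelian
  obtain ⟨x, hx⟩ := QuotientGroup.mk'_surjective R' (e.symm (CfsgLib.Amalgam.Higman.U 1 * CfsgLib.Amalgam.Higman.W K))
  have hex : e (QuotientGroup.mk' R' x) = CfsgLib.Amalgam.Higman.U 1 * CfsgLib.Amalgam.Higman.W K := by
    rw [hx, MulEquiv.apply_symm_apply]
  have hRp : IsPGroup 2 R' := h.isPGroup.comap_of_injective N.subtype N.subtype_injective
  have hxf : ∀ r ∈ R', x * r * x⁻¹ = r → r = 1 := by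
    intro r hr he
    by_contra hr1
    obtain ⟨k, hk⟩ := hc.two_pow_of_commute (x := (x : G)) (y := (r : G))
      (exists_two_pow_of_mem h.isPGroup (mem_subgroupOf.1 hr)) (fun e' => hr1 (Subtype.ext e'))
      (congrArg Subtype.val (mul_inv_eq_iff_eq_mul.1 he))
    set M : SL(2, K) := CfsgLib.Amalgam.Higman.U 1 * CfsgLib.Amalgam.Higman.W K with hM
    have hxk : x ^ 2 ^ k = 1 := Subtype.ext (by rw [SubmonoidClass.coe_pow]; exact hk)
    have hM3 : M * M * M = 1 := by
      rw [hM, CfsgLib.Amalgam.Higman.sq_x, ← CfsgLib.Amalgam.Higman.inv_cube, inv_mul_cancel]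
    have hM1 : M ≠ 1 := by
      intro e'
      have := congrArg (fun g : SL(2, K) => g.1 1 1) e'
      simp [hM, Matrix.SpecialLinearGroup.coe_mul, CfsgLib.Amalgam.Higman.U_val,
        CfsgLib.Amalgam.Higman.W_val, Matrix.mul_apply, Fin.sum_univ_two] at this
    have h1 : orderOf M ∣ 3 := orderOf_dvd_of_pow_eq_one (by rw [pow_succ, pow_two]; exact hM3)
    have h2 : orderOf M ∣ 2 ^ k := orderOf_dvd_of_pow_eq_one (by
      rw [← hex, ← map_pow, ← map_pow, hxk, map_one, map_one])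
    exact hM1 (orderOf_eq_one_iff.1 (Nat.eq_one_of_dvd_coprimes (Nat.Coprime.pow_right k (by norm_num)) h1 h2))
  have hel := CfsgLib.Amalgam.Higman.elementary (K := K) (by omega) (Nat.card N) N rfl R' hRp e x hex hxf
  have hRsq : ∀ r ∈ R, r * r = 1 := fun r hr =>
    congrArg Subtype.val (hel.2 ⟨r, le_normalizer hr⟩ (mem_subgroupOf.2 hr))
  have hRZ : zOne R = R := le_antisymm (zOne_le R) fun r hr => ⟨hr, hRsq r hr, fun r' hr' =>
    congrArg Subtype.val (hel.1 ⟨r', le_normalizer hr'⟩ (mem_subgroupOf.2 hr') ⟨r, le_normalizer hr⟩ (mem_subgroupOf.2 hr))⟩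
  rw [hRZ] at hZq hZA hfix hquad
  have hRcard : Nat.card R = q * q := hZq
  have hRP : R ≤ P := le_inf h.le le_normalizer
  have hRel : Cfsg.IsElementaryAbelian 2 R := hRZ ▸ zOne_elemAb R
  have hAsq : ∀ a ∈ A, a * a = 1 := fun a ha => by rw [← pow_two]; exact hA.2.1.2 a ha
  have hAc : ∀ a ∈ A, ∀ b ∈ A, a * b = b * a := fun a ha b hb =>
    congrArg Subtype.val (hA.2.1.1.is_comm.comm ⟨a, ha⟩ ⟨b, hb⟩)
  -- `A ∩ R = C_R(A)`
  have hBle : A ⊓ R ≤ R ⊓ centralizer (A : Set G) := fun b hb =>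
    ⟨hb.2, mem_centralizer_iff.2 fun a ha => hAc a ha b hb.1⟩
  have hBq : Nat.card ↥(A ⊓ R) = q := by
    have h1 : Nat.card ↥(A ⊓ R) ≤ q := hZA ▸ Subgroup.card_le_of_le hBle
    have h2 := hA.2.2 R hRP hRel
    rw [hAq, hRcard] at h2
    exact le_antisymm h1 (Nat.le_of_mul_le_mul_left h2 (by omega))
  have hBeq : A ⊓ R = R ⊓ centralizer (A : Set G) :=
    CfsgLib.Solvable.eq_of_le_of_card_le hBle (by rw [hZA, hBq])
  have hAcard : Nat.card A = q * q := by rw [hAq, hBq]
  have hfixA : ∀ a ∈ A, a ∉ R → ∀ r ∈ R, a * r = r * a → r ∈ A := fun a ha haR r hr hcomm =>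
    (hBeq.ge ⟨hr, hfix a ha haR r hr hcomm⟩).1
  -- the Sylow subgroup
  have hPle : Nat.card P ≤ q * (q * q) := by
    have hSL : Nat.card SL(2, K) = q * ((q + 1) * (q - 1)) := by
      rw [CfsgLib.Classical.card_sl_two_eq, hK, ← Nat.sq_sub_sq, one_pow]
    have hNc : Nat.card N = q * ((q + 1) * (q - 1)) * (q * q) := by
      rw [Subgroup.card_eq_card_quotient_mul_card_subgroup R', Nat.card_congr e.toEquiv, hSL,
        Nat.card_congr (subgroupOfEquivOfLe (le_normalizer : R ≤ N)).toEquiv, hRcard]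
    obtain ⟨n, hn⟩ := (S.isPGroup'.to_le (inf_le_left : P ≤ (S : Subgroup G))).exists_card_eq
    have hd : Nat.card P ∣ Nat.card N := Subgroup.card_dvd_of_le inf_le_right
    rw [hNc, show q * ((q + 1) * (q - 1)) * (q * q) = ((q + 1) * (q - 1)) * (q * (q * q)) by ring] at hd
    have hcop : Nat.Coprime (Nat.card P) ((q + 1) * (q - 1)) := by
      rw [hn]
      refine Nat.Coprime.pow_left _ (Nat.coprime_two_left.2 ?_)
      rcases f with _ | f
      · omega
      · rw [hf, pow_succ]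
        have := Nat.one_le_two_pow (n := f)
        exact Odd.mul ⟨2 ^ f, by ring⟩ ⟨2 ^ f - 1, by omega⟩
    exact Nat.le_of_dvd (by positivity) (hcop.dvd_of_dvd_mul_left hd)
  have hPge : q * (q * q) ≤ Nat.card ↥(R ⊔ A) := by
    have h1 := CfsgLib.PLocal.card_mul_le_card_sup_mul_inf R A
    rw [hRcard, hAcard, inf_comm, hBq] at h1
    exact Nat.le_of_mul_le_mul_right (by rw [show q * (q * q) * q = q * q * (q * q) by ring]; exact h1) (by omega)
  have hsupP : R ⊔ A = P :=
    CfsgLib.Solvable.eq_of_le_of_card_le (sup_le hRP hA.1) (hPle.trans hPge)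
  have hPcard : Nat.card P = q * (q * q) := le_antisymm hPle (hsupP ▸ hPge)
  have hAN : A ≤ N := hA.1.trans inf_le_right
  have hdec : ∀ w ∈ P, ∃ r ∈ R, ∃ a ∈ A, w = r * a := by
    intro w hw
    rw [← hsupP, ← SetLike.mem_coe, Subgroup.coe_mul_of_right_le_normalizer_left R A hAN] at hw
    obtain ⟨r, hr, a, ha, rfl⟩ := hw
    exact ⟨r, hr, a, ha, rfl⟩
  have hcomm : ∀ r ∈ R, ∀ a ∈ A, ⁅r, a⁆ ∈ A := by
    intro r hr a ha
    refine (hBeq.ge ⟨?_, mem_centralizer_iff.2 fun b hb => hquad r hr a ha b hb⟩).1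
    rw [commutatorElement_def, show r * a * r⁻¹ * a⁻¹ = r * (a * r⁻¹ * a⁻¹) by group]
    exact R.mul_mem hr ((mem_normalizer_iff.1 (hAN ha) _).1 (R.inv_mem hr))
  refine ⟨h, hq4, hK, ⟨e⟩, hRsq, hRcard, hA.1, hAsq, hAcard, hBq, hsupP, hPcard, ?_, hfixA, ?_⟩
  · intro w hw hw2
    obtain ⟨r, hr, a, ha, rfl⟩ := hdec w hw
    by_cases haR : a ∈ R
    · exact Or.inl (R.mul_mem hr haR)
    · refine Or.inr (A.mul_mem (hfixA a ha haR r hr ?_) ha)
      calc a * r = (r * r) * (a * r * a) * a⁻¹ := by rw [hRsq r hr]; group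
        _ = r * (r * a * (r * a)) * a⁻¹ := by group
        _ = r * a⁻¹ := by rw [hw2, mul_one]
        _ = r * a := by rw [inv_eq_of_mul_eq_one_right (hAsq a ha)]
  · have hconj : ∀ w ∈ P, ∀ a ∈ A, w * a * w⁻¹ ∈ A := by
      intro w hw a ha
      obtain ⟨r, hr, a', ha', rfl⟩ := hdec w hw
      rw [show r * a' * a * (r * a')⁻¹ = ⁅r, a' * a * a'⁻¹⁆ * (a' * a * a'⁻¹) by
        simp only [commutatorElement_def]; group]
      have h1 : a' * a * a'⁻¹ ∈ A := A.mul_mem (A.mul_mem ha' ha) (A.inv_mem ha')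
      exact A.mul_mem (hcomm r hr _ h1) h1
    exact fun w hw => mem_normalizer_fintype fun a ha => hconj w hw a ha

namespace Large

variable {S : Sylow 2 G} {R A : Subgroup G} {q : ℕ} {K : Type} [Field K] [Fintype K]
  (h : Large S R A q K)
include h

omit [Finite G] in
theorem R_comm {a b : G} (ha : a ∈ R) (hb : b ∈ R) : a * b = b * a := by
  rw [← inv_eq_of_mul_eq_one_left (h.R_sq _ (mul_mem ha hb)), mul_inv_rev,
    inv_eq_of_mul_eq_one_left (h.R_sq a ha), inv_eq_of_mul_eq_one_left (h.R_sq b hb)]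

omit [Finite G] in
theorem A_comm {a b : G} (ha : a ∈ A) (hb : b ∈ A) : a * b = b * a := by
  rw [← inv_eq_of_mul_eq_one_left (h.A_sq _ (mul_mem ha hb)), mul_inv_rev,
    inv_eq_of_mul_eq_one_left (h.A_sq a ha), inv_eq_of_mul_eq_one_left (h.A_sq b hb)]

theorem A_ne_R : A ≠ R := by
  intro e
  have := h.B_card
  rw [e, inf_idem, h.R_card] at this
  have := h.four
  nlinarith

/-- An elementary abelian subgroup of order `q²` of `P` is `R` or `A`. -/
theorem eq_or_eq {E : Subgroup G} (hE : E ≤ (S : Subgroup G) ⊓ normalizer (R : Set G))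
    (hsq : ∀ x ∈ E, x * x = 1) (hcard : Nat.card E = q * q) : E = R ∨ E = A := by
  by_cases hER : E ≤ R
  · exact Or.inl (CfsgLib.Solvable.eq_of_le_of_card_le hER (by rw [h.R_card, hcard]))
  right
  refine CfsgLib.Solvable.eq_of_le_of_card_le ?_ (by rw [h.A_card, hcard])
  intro x hx
  obtain ⟨y, hy, hyR⟩ := SetLike.not_le_iff_exists.1 hER
  have hyA : y ∈ A := (h.invol y (hE hy) (hsq y hy)).resolve_left hyR
  rcases h.invol x (hE hx) (hsq x hx) with hxR | hxA
  · rcases h.invol (x * y) (mul_mem (hE hx) (hE hy)) (hsq _ (mul_mem hx hy)) with e | e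
    · exact absurd ((R.mul_mem_cancel_left hxR).1 e) hyR
    · exact (A.mul_mem_cancel_right hyA).1 e
  · exact hxA

theorem centralizer_R (hc : IsCIT G) : centralizer (R : Set G) = R := by
  refine le_antisymm (fun x hx => ?_) fun r hr => mem_centralizer_iff.2 fun s hs => h.R_comm hs hr
  refine h.bad.centralizer_zOne_le hc ⟨mem_centralizer_iff.2 fun z hz => mem_centralizer_iff.1 hx z hz.1, ?_⟩
  exact mem_normalizer_fintype fun r hr => by
    rw [← mem_centralizer_iff.1 hx r hr, mul_inv_cancel_right]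
    exact hr

/-- `N(R)` is transitive on `R#`. -/
theorem transitive (hc : IsCIT G) {r s : G} (hr : r ∈ R) (hr1 : r ≠ 1) (hs : s ∈ R) (hs1 : s ≠ 1) :
    ∃ n ∈ normalizer (R : Set G), n * r * n⁻¹ = s := by
  haveI : Fact (Nat.Prime 2) := ⟨Nat.prime_two⟩
  set N := normalizer (R : Set G) with hN
  obtain ⟨f, hf⟩ : ∃ f, q = 2 ^ f := by
    obtain ⟨n, hn⟩ := h.bad.isPGroup.exists_card_eq
    rw [h.R_card] at hn
    obtain ⟨i, -, hi⟩ := (Nat.dvd_prime_pow Nat.prime_two).1 (Dvd.intro q hn : q ∣ 2 ^ n)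
    exact ⟨i, hi⟩
  have hNc : Nat.card N = q * ((q + 1) * (q - 1)) * (q * q) := by
    obtain ⟨e⟩ := h.iso
    haveI : (R.subgroupOf N).Normal := normal_in_normalizer
    rw [Subgroup.card_eq_card_quotient_mul_card_subgroup (R.subgroupOf N), Nat.card_congr e.toEquiv,
      Nat.card_congr (subgroupOfEquivOfLe (le_normalizer : R ≤ N)).toEquiv, h.R_card,
      CfsgLib.Classical.card_sl_two_eq, h.card_K, ← Nat.sq_sub_sq, one_pow]
  have hr2 : orderOf r = 2 := invol_of_mul_self (h.R_sq r hr) hr1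
  set M := N ⊓ centralizer ({r} : Set G) with hM
  have hMp : IsPGroup 2 M := (hc r hr2).to_le inf_le_right
  obtain ⟨Q, hQ⟩ := (hMp.comap_of_injective N.subtype N.subtype_injective).exists_le_sylow
  have hQc : Nat.card (Q : Subgroup N) ≤ q * (q * q) := by
    obtain ⟨n, hn⟩ := Q.isPGroup'.exists_card_eq
    have hd := Subgroup.card_subgroup_dvd_card (Q : Subgroup N)
    rw [hNc, show q * ((q + 1) * (q - 1)) * (q * q) = ((q + 1) * (q - 1)) * (q * (q * q)) by ring] at hd
    have hcop : Nat.Coprime (Nat.card (Q : Subgroup N)) ((q + 1) * (q - 1)) := by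
      rw [hn]
      refine Nat.Coprime.pow_left _ (Nat.coprime_two_left.2 ?_)
      have h4 := h.four
      rcases f with _ | f
      · omega
      · rw [hf, pow_succ]
        have := Nat.one_le_two_pow (n := f)
        exact Odd.mul ⟨2 ^ f, by ring⟩ ⟨2 ^ f - 1, by omega⟩
    refine Nat.le_of_dvd ?_ (hcop.dvd_of_dvd_mul_left hd)
    have := h.four
    positivity
  letI : MulAction N {x : G // x ∈ R ∧ x ≠ 1} :=
    { smul := fun n x => ⟨(n : G) * x.1 * (n : G)⁻¹, (mem_normalizer_iff.1 n.2 x.1).1 x.2.1,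
        fun e => x.2.2 (conj_eq_one_iff.1 e)⟩
      one_smul := fun x => Subtype.ext (by show (1 : G) * x.1 * (1 : G)⁻¹ = x.1; simp)
      mul_smul := fun n m x => Subtype.ext (by
        show ((n : G) * m) * x.1 * ((n : G) * m)⁻¹ = (n : G) * ((m : G) * x.1 * (m : G)⁻¹) * (n : G)⁻¹
        simp [mul_assoc]) }
  set r' : {x : G // x ∈ R ∧ x ≠ 1} := ⟨r, hr, hr1⟩
  have hst : Nat.card (MulAction.stabilizer N r') ≤ q * (q * q) := by
    refine le_trans (Subgroup.card_le_of_le fun n hn => hQ ?_) hQc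
    refine mem_subgroupOf.2 ⟨n.2, mem_centralizer_singleton_iff.2 ?_⟩
    exact mul_inv_eq_iff_eq_mul.1 (congrArg Subtype.val hn)
  have hcardX : Nat.card {x : G // x ∈ R ∧ x ≠ 1} = q * q - 1 := by
    classical
    haveI := Fintype.ofFinite R
    rw [← h.R_card]
    rw [Nat.card_congr (⟨fun x => ⟨⟨x.1, x.2.1⟩, fun e => x.2.2 (congrArg Subtype.val e)⟩,
      fun x => ⟨x.1.1, x.1.2, fun e => x.2 (Subtype.ext e)⟩, fun x => rfl, fun x => rfl⟩ :
      {x : G // x ∈ R ∧ x ≠ 1} ≃ {x : R // x ≠ 1})]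
    rw [Nat.card_eq_fintype_card, Fintype.card_subtype_compl, Fintype.card_subtype_eq,
      ← Nat.card_eq_fintype_card]
  have horb : MulAction.orbit N r' = Set.univ := by
    refine Set.eq_of_subset_of_ncard_le (Set.subset_univ _) ?_ (Set.toFinite _)
    rw [Set.ncard_univ, hcardX, ← MulAction.index_stabilizer]
    have h1 := Subgroup.index_mul_card (MulAction.stabilizer N r')
    rw [hNc] at h1
    have h4 := h.four
    have h2 : q * q - 1 = (q + 1) * (q - 1) := by
      rw [← Nat.sq_sub_sq, one_pow, pow_two]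
    rw [h2]
    refine Nat.le_of_mul_le_mul_right (c := q * (q * q)) ?_
      (Nat.mul_pos (by omega) (Nat.mul_pos (by omega) (by omega)))
    calc (q + 1) * (q - 1) * (q * (q * q)) = q * ((q + 1) * (q - 1)) * (q * q) := by ring
      _ ≤ _ := by rw [← h1]; exact Nat.mul_le_mul_left _ hst
  obtain ⟨n, hn⟩ : (⟨s, hs, hs1⟩ : {x : G // x ∈ R ∧ x ≠ 1}) ∈ MulAction.orbit N r' := by
    rw [horb]; exact Set.mem_univ _
  exact ⟨n.1, n.2, congrArg Subtype.val hn⟩

/-- `J` of the Sylow subgroup of `N(R)` when that is `S`. -/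
theorem normalizer_KJ (hPS : (S : Subgroup G) ⊓ normalizer (R : Set G) = (S : Subgroup G))
    (hAmax : A ∈ maxElemIn 2 (S : Subgroup G)) (hRmax : R ∈ maxElemIn 2 (S : Subgroup G)) :
    KJ S ≤ normalizer ((S : Subgroup G) : Set G) := by
  have : Cfsg.thompsonSubgroupOf 2 (S : Subgroup G) = (S : Subgroup G) := by
    refine le_antisymm (thompsonOf_le _) ?_
    conv_lhs => rw [← hPS, ← h.P_eq]
    exact sup_le (le_thompsonOf hRmax) (le_thompsonOf hAmax)
  rw [KJ, this]

/-- `A` is also bad. -/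
theorem bad_A [IsSimpleGroup G] (hna : ∃ a b : G, a * b ≠ b * a) (hc : IsCIT G)
    (hA : A ∈ maxElemIn 2 ((S : Subgroup G) ⊓ normalizer (R : Set G))) :
    Bad S A ∧ (S : Subgroup G) ⊓ normalizer (A : Set G) = (S : Subgroup G) ⊓ normalizer (R : Set G) := by
  haveI : Fact (Nat.Prime 2) := ⟨Nat.prime_two⟩
  set P := (S : Subgroup G) ⊓ normalizer (R : Set G) with hP
  have hAS : A ≤ (S : Subgroup G) := h.A_le.trans inf_le_left
  have hAne : A ≠ ⊥ := fun e => by
    have := h.A_card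
    rw [e, Subgroup.card_bot] at this
    have := h.four
    nlinarith
  have hPN : P ≤ (S : Subgroup G) ⊓ normalizer (A : Set G) := le_inf inf_le_left h.A_norm
  have mk : ¬ normalizer (A : Set G) ≤ KJ S →
      Bad S A ∧ (S : Subgroup G) ⊓ normalizer (A : Set G) = P := by
    intro hnK
    have hle : nS S A ≤ nS S R := by
      by_contra hlt
      exact hnK (h.bad.maxp A hAS hAne (not_le.1 hlt))
    have heq : (S : Subgroup G) ⊓ normalizer (A : Set G) = P :=
      (CfsgLib.Solvable.eq_of_le_of_card_le hPN hle).symm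
    have hnS : nS S A = nS S R := by rw [nS, heq]; rfl
    refine ⟨⟨hAS, hAne, hnK, fun Q h1 h2 h3 => h.bad.maxp Q h1 h2 (hnS ▸ h3), fun Q h1 h2 h3 h4 => ?_⟩, heq⟩
    exact (h.bad.maxR Q h1 h2 h3 (hnS ▸ h4)).trans (by rw [h.R_card, h.A_card])
  by_cases hPS : P = (S : Subgroup G)
  · refine mk fun hAK => ?_
    have hRel : Cfsg.IsElementaryAbelian 2 R := ⟨⟨⟨fun a b => Subtype.ext (h.R_comm a.2 b.2)⟩⟩,
      fun r hr => by rw [pow_two]; exact h.R_sq r hr⟩
    have hRmax : R ∈ maxElemIn 2 (S : Subgroup G) := ⟨h.bad.le, hRel, fun B hB hBe => by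
      rw [h.R_card, ← h.A_card]
      exact hA.2.2 B (by rw [hPS]; exact hB) hBe⟩
    have hKS := h.normalizer_KJ hPS (hPS ▸ hA) hRmax
    have hSP : ∀ w ∈ (S : Subgroup G), w ∈ P := fun w hw => hPS.symm ▸ hw
    -- centralisers of involutions in `A \ R`
    have hCu : ∀ u ∈ A, u ∉ R → centralizer ({u} : Set G) = A := by
      intro u hu huR
      have hu2 : orderOf u = 2 := invol_of_mul_self (h.A_sq u hu) fun e => huR (e ▸ one_mem R)
      refine (le_antisymm (fun a ha => mem_centralizer_singleton_iff.2 (h.A_comm ha hu)) ?_).symm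
      obtain ⟨T, hT⟩ := (hc u hu2).exists_le_sylow
      have hAT : A ≤ (T : Subgroup G) := fun a ha => hT (mem_centralizer_singleton_iff.2 (h.A_comm ha hu))
      by_contra hne
      have hlt : A < centralizer ({u} : Set G) := lt_of_le_not_ge
        (fun a ha => mem_centralizer_singleton_iff.2 (h.A_comm ha hu)) hne
      haveI : Group.IsNilpotent ↥(centralizer ({u} : Set G)) := (hc u hu2).isNilpotent
      have hlt' : A.subgroupOf (centralizer ({u} : Set G)) < ⊤ :=
        lt_top_iff_ne_top.2 fun e => hne (subgroupOf_eq_top.1 e)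
      obtain ⟨⟨n, hnC⟩, hn, hnA⟩ := SetLike.exists_of_lt (Group.normalizerCondition_of_isNilpotent _ hlt')
      have hnN : n ∈ normalizer (A : Set G) := mem_normalizer_fintype fun a ha =>
        mem_subgroupOf.1 ((mem_normalizer_iff.1 hn ⟨a, hlt.le ha⟩).1 (mem_subgroupOf.2 ha))
      have hnS : n ∈ (S : Subgroup G) := by
        have hnNS := hKS (hAK hnN)
        have hp : IsPGroup 2 ↥((S : Subgroup G) ⊔ zpowers n) :=
          S.isPGroup'.to_sup_of_normal_left' ((hc u hu2).to_le (zpowers_le.2 hnC)) (zpowers_le.2 hnNS)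
        exact (S.is_maximal' hp le_sup_left).le (mem_sup_right (mem_zpowers n))
      refine hnA (mem_subgroupOf.2 ?_)
      obtain ⟨r, hr, a, ha, rfl⟩ : ∃ r ∈ R, ∃ a ∈ A, n = r * a := by
        have hw := hSP n hnS
        rw [hP, ← h.P_eq, ← SetLike.mem_coe,
          Subgroup.coe_mul_of_right_le_normalizer_left R A (h.A_le.trans inf_le_right)] at hw
        obtain ⟨r, hr, a, ha, rfl⟩ := hw
        exact ⟨r, hr, a, ha, rfl⟩
      refine A.mul_mem (h.fixed u hu huR r hr ?_) ha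
      have hcu := mem_centralizer_singleton_iff.1 hnC
      calc u * r = u * (r * a) * a⁻¹ := by group
        _ = r * a * u * a⁻¹ := by rw [hcu]
        _ = r * (a * u) * a⁻¹ := by group
        _ = r * u := by rw [h.A_comm ha hu]; group
    -- a central involution and one outside `R`
    obtain ⟨z, hz, hz1⟩ := (A ⊓ R).bot_or_exists_ne_one.resolve_left fun e => by
      have := h.B_card
      rw [e, Subgroup.card_bot] at this
      have := h.four
      omega
    obtain ⟨u, hu, huR⟩ : ∃ u ∈ A, u ∉ R := SetLike.not_le_iff_exists.1 fun hle =>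
      h.A_ne_R (CfsgLib.Solvable.eq_of_le_of_card_le hle (by rw [h.R_card, h.A_card]))
    have hCb : ∀ b ∈ A ⊓ R, b ≠ 1 → centralizer ({b} : Set G) = (S : Subgroup G) := by
      intro b hb hb1
      refine S.is_maximal' (hc b (invol_of_mul_self (h.R_sq b hb.2) hb1)) fun w hw => ?_
      rw [mem_centralizer_singleton_iff]
      obtain ⟨r, hr, a, ha, rfl⟩ : ∃ r ∈ R, ∃ a ∈ A, w = r * a := by
        have hw' := hSP w hw
        rw [hP, ← h.P_eq, ← SetLike.mem_coe,
          Subgroup.coe_mul_of_right_le_normalizer_left R A (h.A_le.trans inf_le_right)] at hw'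
        obtain ⟨r, hr, a, ha, rfl⟩ := hw'
        exact ⟨r, hr, a, ha, rfl⟩
      rw [mul_assoc, h.A_comm ha hb.1, ← mul_assoc, h.R_comm hr hb.2, mul_assoc]
    have hz2 : orderOf z = 2 := invol_of_mul_self (h.R_sq z hz.2) hz1
    have hu2 : orderOf u = 2 := invol_of_mul_self (h.A_sq u hu) fun e => huR (e ▸ one_mem R)
    have hnc : ¬ IsConj u z := by
      intro hcj
      obtain ⟨g, hg⟩ := isConj_iff.1 hcj
      have h1 : Nat.card ↥(centralizer ({u} : Set G)) = Nat.card ↥(centralizer ({z} : Set G)) := by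
        refine Nat.card_congr ⟨fun c => ⟨g * c.1 * g⁻¹, ?_⟩, fun c => ⟨g⁻¹ * c.1 * g, ?_⟩,
          fun c => Subtype.ext (by simp [mul_assoc]), fun c => Subtype.ext (by simp [mul_assoc])⟩
        · rw [mem_centralizer_singleton_iff]
          have hc' := mem_centralizer_singleton_iff.1 c.2
          calc g * c.1 * g⁻¹ * z = g * (c.1 * u) * g⁻¹ := by rw [← hg]; group
            _ = g * (u * c.1) * g⁻¹ := by rw [hc']
            _ = z * (g * c.1 * g⁻¹) := by rw [← hg]; group
        · rw [mem_centralizer_singleton_iff]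
          have hc' := mem_centralizer_singleton_iff.1 c.2
          calc g⁻¹ * c.1 * g * u = g⁻¹ * (c.1 * (g * u * g⁻¹)) * g := by group
            _ = g⁻¹ * ((g * u * g⁻¹) * c.1) * g := by simp only [hg]; rw [hc']
            _ = u * (g⁻¹ * c.1 * g) := by group
      rw [hCu u hu huR, hCb z hz hz1, h.A_card, ← hPS] at h1
      have h2 := h.P_card
      have h3 := h.four
      change _ = Nat.card ↥P at h1
      rw [h2] at h1
      nlinarith
    have hall : ∀ g : G, g * z * g⁻¹ ∈ (S : Subgroup G) := by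
      intro g
      have hz'2 : orderOf (g * z * g⁻¹) = 2 := by rw [orderOf_conj_eq]; exact hz2
      have hncz : ¬ IsConj u (g * z * g⁻¹) := fun hcj => hnc (hcj.trans (isConj_iff.2 ⟨g⁻¹, by group⟩))
      obtain ⟨w, hw2, hwu, hwz⟩ := exists_commute_both hu2 hz'2 (even_of_not_isConj hu2 hz'2 hncz)
      have hwA : w ∈ A := by
        rw [← hCu u hu huR, mem_centralizer_singleton_iff]
        exact hwu.eq
      have hmem : g * z * g⁻¹ ∈ centralizer ({w} : Set G) :=
        mem_centralizer_singleton_iff.2 hwz.symm.eq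
      by_cases hwR : w ∈ R
      · rwa [hCb w ⟨hwA, hwR⟩ (invol_ne_one hw2)] at hmem
      · rw [hCu w hwA hwR] at hmem
        exact hAS hmem
    have hcl : Subgroup.normalClosure ({z} : Set G) ≤ (S : Subgroup G) := by
      rw [Subgroup.normalClosure, Subgroup.closure_le]
      intro c hc'
      obtain ⟨a, ha, hac⟩ := Group.mem_conjugatesOfSet_iff.1 hc'
      rw [Set.mem_singleton_iff.1 ha] at hac
      obtain ⟨g, rfl⟩ := isConj_iff.1 hac
      exact hall g
    rcases (Subgroup.normalClosure_normal (s := ({z} : Set G))).eq_bot_or_eq_top with e | e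
    · exact hz1 (mem_bot.1 (e ▸ Subgroup.subset_normalClosure (Set.mem_singleton z)))
    · have htop : normalizer ((S : Subgroup G) : Set G) = ⊤ := by
        rw [eq_top_iff.2 (e ▸ hcl : ⊤ ≤ (S : Subgroup G))]
        exact normalizer_eq_top_iff.2 inferInstance
      refine KJ_ne_top hna S ?_ (eq_top_iff.2 ?_)
      · rw [← hz2]; exact orderOf_dvd_natCard z
      · rw [← htop]; exact normalizer_sylow_le_KJ S
  · obtain ⟨g, hgS, hgP, hgPN⟩ : ∃ g ∈ (S : Subgroup G), g ∉ P ∧ g ∈ normalizer (P : Set G) := by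
      have hlt := card_lt_nS (Q := P) inf_le_left hPS
      by_contra! hall
      refine absurd (Subgroup.card_le_of_le (fun g hg => ?_ : (S : Subgroup G) ⊓ normalizer (P : Set G) ≤ P))
        (not_le.2 hlt)
      by_contra hgP
      exact hall g hg.1 hgP hg.2
    set E := R.map (MulAut.conj g).toMonoidHom with hE
    have hEA : E = A := by
      refine (h.eq_or_eq (E := E) ?_ ?_ ?_).resolve_left fun e => hgP ⟨hgS, mem_normalizer_fintype fun r hr => ?_⟩
      · rintro _ ⟨r, hr, rfl⟩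
        exact (mem_normalizer_iff.1 hgPN r).1 ⟨h.bad.le hr, le_normalizer hr⟩
      · rintro _ ⟨r, hr, rfl⟩
        show g * r * g⁻¹ * (g * r * g⁻¹) = 1
        rw [conj_mul, h.R_sq r hr, mul_one, mul_inv_cancel]
      · rw [hE, Subgroup.card_map_of_injective (MulAut.conj g).injective, h.R_card]
      · exact e.le (mem_map_of_mem _ hr)
    refine mk fun hAK => h.bad.notK fun n hn => ?_
    have hgK := sylow_le_KJ S hgS
    have hgn := mem_normalizer_map g hn
    rw [← hE, hEA] at hgn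
    have h1 := hAK hgn
    have := (KJ S).mul_mem ((KJ S).mul_mem ((KJ S).inv_mem hgK) h1) hgK
    simpa [mul_assoc] using this

end Large

end CfsgLib.Invol.CIT
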