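import Cfsg.Agent.Lib.Invol.CIT.CaseLargeBasic

/-!
# Coordinates for the Borel subgroup of `N(R)` when `N(R)/R ≅ SL₂(q)`

By Higman, `R` is a natural module; we record the field structure on `A ∩ R` and the action of
`N(R) ∩ N(P)` on `A ∩ R` and on `P/R`.
-/

set_option autoImplicit false

namespace CfsgLib.Invol.CIT

open Subgroup CfsgLib.PLocal
open scoped MatrixGroups Pointwise

universe u

variable {G : Type u} [Group G] [Finite G]

/-- Field coordinates on `A ∩ R` and `P/R`. -/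
structure Coord (P R A : Subgroup G) (p₀ : G) (K : Type) [Field K] where
  φ : K → G
  φ_add : ∀ a b, φ (a + b) = φ a * φ b
  φ_one : φ 1 = p₀
  φ_mem : ∀ a, φ a ∈ A ⊓ R
  φ_inj : Function.Injective φ
  φ_surj : ∀ b ∈ A ⊓ R, ∃ a, φ a = b
  ν : G → K
  ν_mul : ∀ w ∈ P, ∀ w' ∈ P, ν (w * w') = ν w + ν w'
  ν_eq : ∀ w ∈ P, ν w = 0 ↔ w ∈ R
  borel : ∀ g ∈ normalizer (R : Set G), g ∈ normalizer (P : Set G) →
    ∃ c : K, (∀ a, g * φ a * g⁻¹ = φ (c * a)) ∧ ∀ w ∈ P, ν (g * w * g⁻¹) = c * c * ν w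
  r : K → G
  r_add : ∀ a b, r (a + b) = r a * r b
  r_mem : ∀ a, r a ∈ R
  r_eq : ∀ a, r a ∈ A → a = 0
  torus : ∀ b : K, b ≠ 0 → ∃ g ∈ normalizer (R : Set G), g ∈ normalizer (P : Set G) ∧
    g * p₀ * g⁻¹ = φ b ∧ ∀ a, g * r a * g⁻¹ = r (b⁻¹ * a)

namespace Large

variable {S : Sylow 2 G} {R A : Subgroup G} {q : ℕ} {K : Type} [Field K] [Fintype K]
  (h : Large S R A q K)
include h

omit [Finite G] in
theorem comm_B {w b : G} (hw : w ∈ (S : Subgroup G) ⊓ normalizer (R : Set G)) (hb : b ∈ A ⊓ R) :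
    w * b = b * w := by
  have hle : R ⊔ A ≤ centralizer ({b} : Set G) :=
    sup_le (fun r hr => mem_centralizer_singleton_iff.2 (h.R_comm hr hb.2))
      (fun a ha => mem_centralizer_singleton_iff.2 (h.A_comm ha hb.1))
  exact mem_centralizer_singleton_iff.1 (hle (h.P_eq ▸ hw))

theorem exists_two_pow : ∃ f, q = 2 ^ f := by
  haveI : Fact (Nat.Prime 2) := ⟨Nat.prime_two⟩
  obtain ⟨n, hn⟩ := h.bad.isPGroup.exists_card_eq
  rw [h.R_card] at hn
  obtain ⟨i, -, hi⟩ := (Nat.dvd_prime_pow Nat.prime_two).1 (Dvd.intro q hn : q ∣ 2 ^ n)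
  exact ⟨i, hi⟩

/-- An element of `N(R)` of order three modulo `R` fixes no nontrivial element of `R`. -/
theorem fpf (hc : IsCIT G)
    (e : normalizer (R : Set G) ⧸ R.subgroupOf (normalizer (R : Set G)) ≃* SL(2, K))
    {x : normalizer (R : Set G)} (hM3 : e (QuotientGroup.mk x) * e (QuotientGroup.mk x) * e (QuotientGroup.mk x) = 1)
    (hM1 : e (QuotientGroup.mk x) ≠ 1) {r : G} (hr : r ∈ R) (he : (x : G) * r * (x : G)⁻¹ = r) :
    r = 1 := by
  by_contra hr1
  haveI : (R.subgroupOf (normalizer (R : Set G))).Normal := normal_in_normalizer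
  obtain ⟨k, hk⟩ := hc.two_pow_of_commute (x := (x : G)) (y := r)
    (exists_two_pow_of_mem h.bad.isPGroup hr) hr1 (mul_inv_eq_iff_eq_mul.1 he)
  have hxk : x ^ 2 ^ k = 1 := Subtype.ext (by rw [SubmonoidClass.coe_pow]; exact hk)
  set M := e (QuotientGroup.mk x) with hM
  have h1 : orderOf M ∣ 3 := orderOf_dvd_of_pow_eq_one (by rw [pow_succ, pow_two]; exact hM3)
  have h2 : orderOf M ∣ 2 ^ k := orderOf_dvd_of_pow_eq_one (by
    rw [hM, ← map_pow, ← QuotientGroup.mk_pow, hxk, QuotientGroup.mk_one, map_one])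
  exact hM1 (orderOf_eq_one_iff.1 (Nat.eq_one_of_dvd_coprimes (Nat.Coprime.pow_right k (by norm_num)) h1 h2))

/-- An isomorphism under which `P` corresponds to the unitriangular group. -/
theorem exists_iso_uSL :
    ∃ e : normalizer (R : Set G) ⧸ R.subgroupOf (normalizer (R : Set G)) ≃* SL(2, K),
      ∀ w : normalizer (R : Set G), e (QuotientGroup.mk w) ∈ CfsgLib.Classical.uSL K ↔
        (w : G) ∈ (S : Subgroup G) := by
  haveI : Fact (Nat.Prime 2) := ⟨Nat.prime_two⟩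
  obtain ⟨f, hf⟩ := h.exists_two_pow
  haveI : CharP K 2 := charP_two h.card_K hf
  set N := normalizer (R : Set G) with hN
  set P' := (S : Subgroup G).subgroupOf N with hP'
  haveI : (R.subgroupOf N).Normal := normal_in_normalizer
  obtain ⟨e⟩ := h.iso
  set π := e.toMonoidHom.comp (QuotientGroup.mk' (R.subgroupOf N)) with hπ
  have hπs : Function.Surjective π := e.surjective.comp (QuotientGroup.mk'_surjective _)
  have hker : π.ker ≤ P' := by
    intro w hw
    rw [MonoidHom.mem_ker] at hw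
    have : (QuotientGroup.mk w : N ⧸ R.subgroupOf N) = 1 := e.injective (hw.trans (map_one e).symm)
    exact mem_subgroupOf.2 (h.bad.le (mem_subgroupOf.1 ((QuotientGroup.eq_one_iff w).1 this)))
  have hP'card : Nat.card P' = q * (q * q) := by
    rw [← h.P_card, hP', ← inf_subgroupOf_right, Nat.card_congr (subgroupOfEquivOfLe inf_le_right).toEquiv]
  set Q0 := P'.map π with hQ0
  have hQ0card : Nat.card Q0 = q := by
    have h1 := Subgroup.card_mul_index Q0
    rw [hQ0, Subgroup.index_map_eq P' hπs hker] at h1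
    have h2 := Subgroup.card_mul_index P'
    rw [Subgroup.card_eq_card_quotient_mul_card_subgroup (R.subgroupOf N), Nat.card_congr e.toEquiv,
      ← h1, Nat.card_congr (subgroupOfEquivOfLe (le_normalizer : R ≤ N)).toEquiv, h.R_card, hP'card] at h2
    have hpos : 0 < P'.index * (q * q) := by
      have := h.four
      exact Nat.mul_pos (Nat.pos_of_ne_zero Subgroup.index_ne_zero_of_finite) (Nat.mul_pos (by omega) (by omega))
    refine Nat.eq_of_mul_eq_mul_right hpos ?_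
    calc Nat.card Q0 * (P'.index * (q * q)) = Nat.card Q0 * P'.index * (q * q) := by ring
      _ = q * (P'.index * (q * q)) := by rw [← h2]; ring
  have hQ0p : IsPGroup 2 Q0 := by
    refine IsPGroup.map ?_ π
    exact S.isPGroup'.comap_of_injective N.subtype N.subtype_injective
  obtain ⟨Q, hQ⟩ := hQ0p.exists_le_sylow
  obtain ⟨P₀, hP₀⟩ := CfsgLib.Classical.exists_sylow_uSL (F := K) 2
  obtain ⟨g, hg⟩ := MulAction.exists_smul_eq SL(2, K) Q P₀
  have hQeq : Q0 = (Q : Subgroup SL(2, K)) := by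
    refine CfsgLib.Solvable.eq_of_le_of_card_le hQ ?_
    rw [hQ0card, Q.card_eq_multiplicity, ← P₀.card_eq_multiplicity, hP₀, CfsgLib.Classical.card_uSL,
      Nat.card_eq_fintype_card, h.card_K]
  refine ⟨e.trans (MulAut.conj g), fun w => ?_⟩
  have hU : CfsgLib.Classical.uSL K = MulAut.conj g • Q0 := by
    rw [← hP₀, ← hg, Sylow.coe_subgroup_smul, hQeq]
  rw [hU]
  show MulAut.conj g • π w ∈ MulAut.conj g • Q0 ↔ _
  rw [Subgroup.smul_mem_pointwise_smul_iff]
  constructor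
  · rintro ⟨v, hv, hvw⟩
    have : v⁻¹ * w ∈ π.ker := by rw [MonoidHom.mem_ker, map_mul, map_inv, hvw, inv_mul_cancel]
    have hw := P'.mul_mem hv (hker this)
    rw [mul_inv_cancel_left] at hw
    exact hw
  · intro hw
    exact ⟨w, hw, rfl⟩

set_option maxHeartbeats 1000000 in
/-- The coordinates. -/
theorem coord (hc : IsCIT G) {p₀ : G} (hp₀ : p₀ ∈ A ⊓ R) (hp1 : p₀ ≠ 1) :
    Nonempty (Coord ((S : Subgroup G) ⊓ normalizer (R : Set G)) R A p₀ K) := by
  classical
  obtain ⟨f, hf⟩ := h.exists_two_pow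
  haveI : CharP K 2 := charP_two h.card_K hf
  set N := normalizer (R : Set G) with hN
  set P := (S : Subgroup G) ⊓ N with hP
  set R' := R.subgroupOf N with hR'
  haveI : R'.Normal := normal_in_normalizer
  obtain ⟨e, he⟩ := h.exists_iso_uSL
  have hR'c : R' ≤ centralizer (R' : Set N) := fun a ha => mem_centralizer_iff.2 fun b hb =>
    Subtype.ext (h.R_comm (mem_subgroupOf.1 hb) (mem_subgroupOf.1 ha))
  let _ : CommGroup ↥R' :=
    { (inferInstance : Group ↥R') with
      mul_comm := fun a b => Subtype.ext (Subtype.ext (h.R_comm (mem_subgroupOf.1 a.2) (mem_subgroupOf.1 b.2))) }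
  set act := CfsgLib.Amalgam.Higman.phi e R' hR'c with hact
  let V := CfsgLib.Amalgam.Higman.Mod act
  let val : V → G := fun v => (((Additive.toMul (α := ↥R') v : ↥R') : N) : G)
  have val_mem : ∀ v, val v ∈ R := fun v => mem_subgroupOf.1 (Additive.toMul (α := ↥R') v).2
  have val_add : ∀ v w, val (v + w) = val v * val w := fun v w => rfl
  have val_zero : val 0 = 1 := rfl
  have val_inj : Function.Injective val := fun v w hvw =>
    (Additive.toMul (α := ↥R')).injective (Subtype.ext (Subtype.ext hvw))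
  have val_smul : ∀ (x : N) (v : V), val (e (QuotientGroup.mk x) • v) = (x : G) * val v * (x : G)⁻¹ :=
    fun x v => congrArg Subtype.val
      (CfsgLib.Amalgam.Higman.phi_apply e R' hR'c x (Additive.toMul (α := ↥R') v))
  have lift : ∀ g : SL(2, K), ∃ x : N, e (QuotientGroup.mk x) = g := fun g => by
    obtain ⟨x, hx⟩ := QuotientGroup.mk'_surjective R' (e.symm g)
    exact ⟨x, by rw [← QuotientGroup.mk'_apply, hx, MulEquiv.apply_symm_apply]⟩
  have hU : ∀ a : K, CfsgLib.Amalgam.Higman.U a = CfsgLib.Classical.uElt a := fun a =>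
    Subtype.ext (by rw [CfsgLib.Amalgam.Higman.U_val, CfsgLib.Classical.uElt_val])
  have hmemU : ∀ g : SL(2, K), g ∈ CfsgLib.Classical.uSL K ↔ ∃ a, CfsgLib.Amalgam.Higman.U a = g := by
    intro g
    constructor
    · rintro ⟨a, rfl⟩
      exact ⟨a, hU a⟩
    · rintro ⟨a, rfl⟩
      exact ⟨a, (hU a).symm⟩
  have hf' : CfsgLib.Amalgam.Higman.Fpf K V := by
    intro v hv
    obtain ⟨x, hx⟩ := lift (CfsgLib.Amalgam.Higman.U 1 * CfsgLib.Amalgam.Higman.W K)
    refine val_inj ((h.fpf hc e (x := x) ?_ ?_ (val_mem v) ?_).trans val_zero.symm)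
    · rw [hx, CfsgLib.Amalgam.Higman.sq_x, ← CfsgLib.Amalgam.Higman.inv_cube, inv_mul_cancel]
    · rw [hx]
      intro e'
      have := congrArg (fun g : SL(2, K) => g.1 1 1) e'
      simp [Matrix.SpecialLinearGroup.coe_mul, CfsgLib.Amalgam.Higman.U_val,
        CfsgLib.Amalgam.Higman.W_val, Matrix.mul_apply, Fin.sum_univ_two] at this
    · rw [← val_smul, hx, hv]
  -- fixed points
  have fix_of : ∀ v : V, val v ∈ A → CfsgLib.Amalgam.Higman.IsFix K v := by
    intro v hv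
    refine ⟨val_inj ((val_add v v).trans ((h.R_sq _ (val_mem v)).trans val_zero.symm)), fun a => ?_⟩
    obtain ⟨x, hx⟩ := lift (CfsgLib.Amalgam.Higman.U a)
    refine val_inj ?_
    rw [← hx, val_smul, h.comm_B ⟨(he x).1 (hx ▸ (hmemU _).2 ⟨a, rfl⟩), x.2⟩ ⟨hv, val_mem v⟩,
      mul_inv_cancel_right]
  obtain ⟨u, huA, huR⟩ : ∃ u ∈ A, u ∉ R := SetLike.not_le_iff_exists.1 fun hle =>
    h.A_ne_R (CfsgLib.Solvable.eq_of_le_of_card_le hle (by rw [h.R_card, h.A_card]))
  have of_fix : ∀ v : V, CfsgLib.Amalgam.Higman.IsFix K v → val v ∈ A := by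
    intro v hv
    obtain ⟨a, ha⟩ := (hmemU _).1 ((he ⟨u, (h.A_le huA).2⟩).2 (h.A_le huA).1)
    have h1 := congrArg val (hv.2 a)
    rw [ha, val_smul] at h1
    exact h.fixed u huA huR _ (val_mem v) (mul_inv_eq_iff_eq_mul.1 h1)
  -- the base point
  let pv : V := Additive.ofMul (α := ↥R') ⟨⟨p₀, le_normalizer hp₀.2⟩, mem_subgroupOf.2 hp₀.2⟩
  have hpv : val pv = p₀ := rfl
  have hpf : CfsgLib.Amalgam.Higman.IsFix K pv := fix_of pv (hpv ▸ hp₀.1)
  let φ : K → G := fun a => val (CfsgLib.Amalgam.Higman.sm a pv)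
  have φ_mem : ∀ a, φ a ∈ A ⊓ R := fun a =>
    ⟨of_fix _ (CfsgLib.Amalgam.Higman.sm_fix hf' a hpf), val_mem _⟩
  have φ_inj : Function.Injective φ := by
    intro a b hab
    have h0 : CfsgLib.Amalgam.Higman.sm (a + b) pv = 0 := by
      rw [CfsgLib.Amalgam.Higman.sm_add hf' a b hpf, val_inj hab]
      exact (CfsgLib.Amalgam.Higman.sm_fix hf' b hpf).1
    by_contra hne
    have hab0 : a + b ≠ 0 := fun e' => hne (by
      rw [eq_neg_of_add_eq_zero_left e', CfsgLib.Amalgam.Higman.neg_eq])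
    have h1 : CfsgLib.Amalgam.Higman.sm ((a + b)⁻¹ * (a + b)) pv = 0 := by
      rw [CfsgLib.Amalgam.Higman.sm_mul hf' _ _ hpf, h0, CfsgLib.Amalgam.Higman.sm_zero_right]
    rw [inv_mul_cancel₀ hab0, CfsgLib.Amalgam.Higman.sm_one hf' hpf] at h1
    exact hp1 (by rw [← hpv, h1, val_zero])
  have φ_surj : ∀ b ∈ A ⊓ R, ∃ a, φ a = b := by
    haveI := Fintype.ofFinite ↥(A ⊓ R)
    let φ' : K → ↥(A ⊓ R) := fun a => ⟨φ a, φ_mem a⟩
    have hb' : Function.Bijective φ' := by
      exact (Fintype.bijective_iff_injective_and_card φ').2 ⟨fun a b hab => φ_inj (congrArg (fun t : ↥(A ⊓ R) => (t : G)) hab), by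
        rw [← Nat.card_eq_fintype_card, ← Nat.card_eq_fintype_card, h.B_card,
          Nat.card_eq_fintype_card, h.card_K]⟩
    intro b hb
    obtain ⟨a, ha⟩ := hb'.2 ⟨b, hb⟩
    exact ⟨a, congrArg Subtype.val ha⟩
  let ν : G → K := fun w => if hw : w ∈ N then (e (QuotientGroup.mk ⟨w, hw⟩)).1 0 1 else 0
  have ν_spec : ∀ w (hw : w ∈ P), e (QuotientGroup.mk (⟨w, hw.2⟩ : N)) =
      CfsgLib.Amalgam.Higman.U (ν w) := by
    intro w hw
    obtain ⟨a, ha⟩ := (hmemU _).1 ((he ⟨w, hw.2⟩).2 hw.1)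
    have : ν w = a := by
      show (if hw' : w ∈ N then (e (QuotientGroup.mk ⟨w, hw'⟩)).1 0 1 else 0) = a
      rw [dif_pos (show w ∈ N from hw.2), ← ha, CfsgLib.Amalgam.Higman.U_val]
      simp
    rw [this, ha]
  have U_inj : ∀ {a b : K}, CfsgLib.Amalgam.Higman.U a = CfsgLib.Amalgam.Higman.U b → a = b := by
    intro a b hab
    have := congrArg (fun g : SL(2, K) => g.1 0 1) hab
    simpa [CfsgLib.Amalgam.Higman.U_val] using this
  refine ⟨{
    φ := φ
    φ_add := fun a b => ?_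
    φ_one := ?_
    φ_mem := φ_mem
    φ_inj := φ_inj
    φ_surj := φ_surj
    ν := ν
    ν_mul := fun w hw w' hw' => ?_
    ν_eq := fun w hw => ?_
    borel := fun g hgN hgP => ?_
    r := fun a => val (CfsgLib.Amalgam.Higman.W K • CfsgLib.Amalgam.Higman.sm a pv)
    r_add := fun a b => ?_
    r_mem := fun a => val_mem _
    r_eq := fun a ha => ?_
    torus := fun b hb => ?_ }⟩
  · show val _ = val _ * val _
    rw [← val_add, CfsgLib.Amalgam.Higman.sm_add hf' a b hpf]
  · show val _ = p₀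
    rw [CfsgLib.Amalgam.Higman.sm_one hf' hpf, hpv]
  · refine U_inj ?_
    rw [CfsgLib.Amalgam.Higman.U_add, ← ν_spec w hw, ← ν_spec w' hw', ← ν_spec _ (P.mul_mem hw hw'),
      ← map_mul, ← QuotientGroup.mk_mul]
    rfl
  · constructor
    · intro h0
      have h1 := ν_spec w hw
      rw [h0, CfsgLib.Amalgam.Higman.U_zero] at h1
      exact mem_subgroupOf.1 ((QuotientGroup.eq_one_iff _).1 (e.injective (h1.trans (map_one e).symm)))
    · intro hwR
      refine U_inj ?_
      rw [← ν_spec w hw, CfsgLib.Amalgam.Higman.U_zero,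
        (QuotientGroup.eq_one_iff _).2 (mem_subgroupOf.2 hwR : (⟨w, hw.2⟩ : N) ∈ R'), map_one]
  · -- the Borel subgroup
    set M := e (QuotientGroup.mk (⟨g, hgN⟩ : N)) with hM
    have hconj : ∀ w (hw : w ∈ P), M * CfsgLib.Amalgam.Higman.U (ν w) * M⁻¹ =
        CfsgLib.Amalgam.Higman.U (ν (g * w * g⁻¹)) := by
      intro w hw
      rw [← ν_spec w hw, ← ν_spec _ ((mem_normalizer_iff.1 hgP w).1 hw), hM, ← map_mul, ← map_inv,
        ← map_mul]
      rfl
    have hν0 : ν u ≠ 0 := by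
      intro h0
      have h1 := ν_spec u (h.A_le huA)
      rw [h0, CfsgLib.Amalgam.Higman.U_zero] at h1
      exact huR (mem_subgroupOf.1 ((QuotientGroup.eq_one_iff _).1 (e.injective (h1.trans (map_one e).symm))))
    have h10 : M.1 1 0 = 0 := by
      have h1 := congrArg (fun m : SL(2, K) => m.1 1 1) (mul_inv_eq_iff_eq_mul.1 (hconj u (h.A_le huA)))
      simp [Matrix.SpecialLinearGroup.coe_mul, CfsgLib.Amalgam.Higman.U_val, Matrix.mul_apply,
        Fin.sum_univ_two] at h1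
      exact h1.resolve_right hν0
    have hd : M.1 0 0 * M.1 1 1 = 1 := by
      have := M.2
      rw [Matrix.det_fin_two, h10, mul_zero, sub_zero] at this
      exact this
    set l := Units.mk0 (M.1 0 0) (left_ne_zero_of_mul_eq_one hd) with hl
    have hMeq : M = CfsgLib.Amalgam.Higman.H l * CfsgLib.Amalgam.Higman.U ((M.1 0 0)⁻¹ * M.1 0 1) := by
      have h11 : M.1 1 1 = (M.1 0 0)⁻¹ := eq_inv_of_mul_eq_one_right hd
      apply CfsgLib.Amalgam.Higman.ext' <;>
        simp [hl, Matrix.SpecialLinearGroup.coe_mul, CfsgLib.Amalgam.Higman.U_val,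
          CfsgLib.Amalgam.Higman.H_val, Matrix.mul_apply, Fin.sum_univ_two, h10, h11,
          left_ne_zero_of_mul_eq_one hd]
    refine ⟨(l : K), fun a => ?_, fun w hw => ?_⟩
    · show g * val _ * g⁻¹ = val _
      have hv := val_smul ⟨g, hgN⟩ (CfsgLib.Amalgam.Higman.sm a pv)
      rw [← hM, hMeq, mul_smul, (CfsgLib.Amalgam.Higman.sm_fix hf' a hpf).2,
        ← CfsgLib.Amalgam.Higman.sm_unit hf' l (CfsgLib.Amalgam.Higman.sm_fix hf' a hpf),
        ← CfsgLib.Amalgam.Higman.sm_mul hf' _ _ hpf] at hv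
      exact hv.symm
    · refine U_inj ?_
      rw [← hconj w hw, hMeq, mul_inv_eq_iff_eq_mul]
      apply CfsgLib.Amalgam.Higman.ext' <;>
        simp [hl, Matrix.SpecialLinearGroup.coe_mul, CfsgLib.Amalgam.Higman.U_val,
          CfsgLib.Amalgam.Higman.H_val, Matrix.mul_apply, Fin.sum_univ_two]
      field_simp [left_ne_zero_of_mul_eq_one hd]
      ring
  · rw [← val_add, ← smul_add, CfsgLib.Amalgam.Higman.sm_add hf' a b hpf]
  · have h1 : CfsgLib.Amalgam.Higman.IsFix K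
        (CfsgLib.Amalgam.Higman.W K • CfsgLib.Amalgam.Higman.sm a pv) := fix_of _ ha
    have h2 := CfsgLib.Amalgam.Higman.eq_zero_of_W_eq hf' h1 (CfsgLib.Amalgam.Higman.sm_fix hf' a hpf) h1.1
    refine φ_inj ?_
    show val _ = val _
    rw [h2.2, CfsgLib.Amalgam.Higman.sm_zero]
  · obtain ⟨x, hx⟩ := lift (CfsgLib.Amalgam.Higman.H (Units.mk0 b hb))
    have hxP : (x : G) ∈ normalizer (P : Set G) := by
      refine mem_normalizer_fintype fun w hw => ?_
      have hxw : (x : G) * w * (x : G)⁻¹ ∈ N := N.mul_mem (N.mul_mem x.2 hw.2) (N.inv_mem x.2)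
      refine ⟨(he (x * ⟨w, hw.2⟩ * x⁻¹)).1 ((hmemU _).2 ⟨b * b * ν w, ?_⟩), hxw⟩
      rw [QuotientGroup.mk_mul, QuotientGroup.mk_mul, QuotientGroup.mk_inv, map_mul, map_mul, map_inv, hx,
        ν_spec w hw, eq_mul_inv_iff_mul_eq]
      apply CfsgLib.Amalgam.Higman.ext' <;>
        simp [Matrix.SpecialLinearGroup.coe_mul, CfsgLib.Amalgam.Higman.U_val,
          CfsgLib.Amalgam.Higman.H_val, Matrix.mul_apply, Fin.sum_univ_two]
      field_simp
    refine ⟨(x : G), x.2, hxP, ?_, fun a => ?_⟩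
    · show (x : G) * p₀ * (x : G)⁻¹ = val _
      rw [← hpv, ← val_smul, hx, ← CfsgLib.Amalgam.Higman.sm_unit hf' _ hpf]
      rfl
    · rw [← val_smul, hx, ← mul_smul]
      have hWH := CfsgLib.Amalgam.Higman.W_H (Units.mk0 b hb)⁻¹
      rw [inv_inv] at hWH
      rw [← hWH, mul_smul, ← CfsgLib.Amalgam.Higman.sm_unit hf' _ (CfsgLib.Amalgam.Higman.sm_fix hf' a hpf),
        ← CfsgLib.Amalgam.Higman.sm_mul hf' _ _ hpf, Units.val_inv_eq_inv_val]
      rfl

end Large

end CfsgLib.Invol.CIT
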