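import Cfsg.Agent.Lib.Invol.CIT.CaseLargeCoord

/-!
# The two 2-local subgroups force `q = 4`
-/

set_option autoImplicit false

namespace CfsgLib.Invol.CIT

open Subgroup CfsgLib.PLocal
open scoped MatrixGroups

universe u

variable {G : Type u} [Group G] [Finite G]

namespace Large

variable {S : Sylow 2 G} {R A : Subgroup G} {q : ℕ} {K : Type} [Field K] [Fintype K]
  (h : Large S R A q K)
include h

/-- An element of `N(R)` normalising `P` normalises `A`. -/
theorem mem_normalizer_A {g : G} (hgR : g ∈ normalizer (R : Set G))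
    (hgP : g ∈ normalizer (((S : Subgroup G) ⊓ normalizer (R : Set G) : Subgroup G) : Set G)) :
    g ∈ normalizer (A : Set G) := by
  set E := A.map (MulAut.conj g).toMonoidHom with hE
  have hEA : E = A := by
    refine (h.eq_or_eq (E := E) ?_ ?_ ?_).resolve_left fun e => h.A_ne_R ?_
    · rintro _ ⟨a, ha, rfl⟩
      exact (mem_normalizer_iff.1 hgP a).1 (h.A_le ha)
    · rintro _ ⟨a, ha, rfl⟩
      show g * a * g⁻¹ * (g * a * g⁻¹) = 1
      rw [conj_mul, h.A_sq a ha, mul_one, mul_inv_cancel]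
    · rw [hE, Subgroup.card_map_of_injective (MulAut.conj g).injective, h.A_card]
    · refine CfsgLib.Solvable.eq_of_le_of_card_le (fun a ha => ?_) (by rw [h.A_card, h.R_card])
      exact (mem_normalizer_iff.1 hgR a).2 (e.le (mem_map_of_mem _ ha))
  exact mem_normalizer_fintype fun a ha => hEA.le (mem_map_of_mem _ ha)

/-- `R` is the partner of `A`. -/
theorem partner [IsSimpleGroup G] (hna : ∃ a b : G, a * b ≠ b * a) (hc : IsCIT G)
    (hA : A ∈ maxElemIn 2 ((S : Subgroup G) ⊓ normalizer (R : Set G))) :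
    (S : Subgroup G) ⊓ normalizer (A : Set G) = (S : Subgroup G) ⊓ normalizer (R : Set G) ∧
      ∃ (K' : Type) (_ : Field K') (_ : Fintype K'), Large S A R q K' := by
  obtain ⟨hbad, heq⟩ := h.bad_A hna hc hA
  refine ⟨heq, ?_⟩
  obtain ⟨A', hA', hA'A, hquad⟩ := hbad.exists_offender hc
  obtain ⟨q', hAq, hZq, hZA, hfix, h2 | ⟨h4, K', _, _, hK', ⟨e⟩⟩⟩ :=
    hbad.structure_thm hc hA' hA'A hquad
  · exfalso
    obtain ⟨-, h6⟩ := h2
    have hd : Nat.card ↥((S : Subgroup G) ⊓ normalizer (A : Set G)) ∣ 6 * Nat.card A :=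
      h6 ▸ Subgroup.card_dvd_of_le inf_le_right
    rw [heq, h.P_card, h.A_card] at hd
    have hq6 : q ∣ 6 := Nat.dvd_of_mul_dvd_mul_right (by have := h.four; positivity) hd
    obtain ⟨f, hf⟩ := h.exists_two_pow
    have h4 := h.four
    rcases f with _ | _ | f
    · omega
    · omega
    · have : 4 ∣ 6 := dvd_trans ⟨2 ^ f, by rw [hf]; ring⟩ hq6
      norm_num at this
  · have hL := hbad.exists_large hc hA' hA'A hquad hAq hZq hZA hfix h4 hK' e
    have hqq : q' = q := by
      have h1 := hL.R_card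
      rw [h.A_card] at h1
      exact (Nat.mul_self_inj.1 h1).symm
    subst hqq
    have hA'P : A' ≤ (S : Subgroup G) ⊓ normalizer (R : Set G) := heq ▸ hL.A_le
    rcases h.eq_or_eq hA'P hL.A_sq hL.A_card with e' | e'
    · exact ⟨K', _, _, e' ▸ hL⟩
    · exact absurd e' hL.A_ne_R

/-- `q = 4`. -/
theorem eq_four [IsSimpleGroup G] (hna : ∃ a b : G, a * b ≠ b * a) (hc : IsCIT G)
    (hA : A ∈ maxElemIn 2 ((S : Subgroup G) ⊓ normalizer (R : Set G))) : q = 4 := by
  classical
  obtain ⟨heq, K', _, _, h'⟩ := h.partner hna hc hA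
  obtain ⟨f, hf⟩ := h.exists_two_pow
  haveI : CharP K 2 := charP_two h.card_K hf
  haveI : CharP K' 2 := charP_two h'.card_K hf
  obtain ⟨p₀, hp₀, hp1⟩ := (A ⊓ R).bot_or_exists_ne_one.resolve_left fun e => by
    have := h.B_card
    rw [e, Subgroup.card_bot] at this
    have := h.four
    omega
  obtain ⟨C⟩ := h.coord hc hp₀ hp1
  obtain ⟨C'⟩ := h'.coord hc (p₀ := p₀) ⟨hp₀.2, hp₀.1⟩ hp1
  have hτ : ∀ a : K, ∃ b : K', C'.φ b = C.φ a := fun a =>
    C'.φ_surj _ ⟨(C.φ_mem a).2, (C.φ_mem a).1⟩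
  choose τ hτ using hτ
  have τ_add : ∀ a b, τ (a + b) = τ a + τ b := fun a b => C'.φ_inj (by
    rw [C'.φ_add, hτ, hτ, hτ, C.φ_add])
  have rP : ∀ a, C.r a ∈ (S : Subgroup G) ⊓ normalizer (A : Set G) := fun a => by
    rw [heq]
    exact ⟨h.bad.le (C.r_mem a), le_normalizer (C.r_mem a)⟩
  let ι : K → K' := fun a => C'.ν (C.r a)
  have ι_add : ∀ a b, ι (a + b) = ι a + ι b := fun a b => by
    show C'.ν (C.r (a + b)) = _
    rw [C.r_add, C'.ν_mul _ (rP a) _ (rP b)]
  have ι_inj : ∀ a b, ι a = ι b → a = b := by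
    intro a b hab
    have h0 : ι (a + b) = 0 := by rw [ι_add, hab, CfsgLib.Amalgam.Higman.add_self]
    have h1 : a + b = 0 := C.r_eq _ ((C'.ν_eq _ (rP _)).1 h0)
    rw [eq_neg_of_add_eq_zero_left h1, CfsgLib.Amalgam.Higman.neg_eq]
  have ι_zero : ι 0 = 0 := by
    have := ι_add 0 0
    rw [add_zero, CfsgLib.Amalgam.Higman.add_self] at this
    exact this
  have τ_zero : τ 0 = 0 := by
    have := τ_add 0 0
    rw [add_zero, CfsgLib.Amalgam.Higman.add_self] at this
    exact this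
  have key : ∀ b : K, ι b⁻¹ = τ b * τ b * ι 1 := by
    intro b
    rcases eq_or_ne b 0 with rfl | hb
    · rw [inv_zero, ι_zero, τ_zero, mul_zero, zero_mul]
    obtain ⟨g, hgR, hgP, hgp, hgr⟩ := C.torus b hb
    obtain ⟨c, hc1, hc2⟩ := C'.borel g (h.mem_normalizer_A hgR hgP) (heq.symm ▸ hgP)
    have hcτ : c = τ b := C'.φ_inj (by
      rw [hτ, ← hgp]
      have := hc1 1
      rw [C'.φ_one, mul_one] at this
      exact this.symm)
    have h1 := hc2 (C.r 1) (rP 1)
    rw [hgr, mul_one, hcτ] at h1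
    exact h1
  have hinv : ∀ b c : K, (b + c)⁻¹ = b⁻¹ + c⁻¹ := by
    intro b c
    refine ι_inj _ _ ?_
    rw [key, ι_add, key, key, τ_add]
    linear_combination CfsgLib.Amalgam.Higman.add_self (τ b * τ c * ι 1)
  have hroot : ∀ t : K, t ≠ 0 → t ≠ 1 → t * t + t + 1 = 0 := by
    intro t ht0 ht1
    have ht2 : 1 + t ≠ 0 := fun e => ht1 (by
      rw [eq_neg_of_add_eq_zero_right e, CfsgLib.Amalgam.Higman.neg_eq])
    have e := hinv 1 t
    field_simp at e
    linear_combination CfsgLib.Amalgam.Higman.add_self (t * t + t + 1) + e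
  have h4 := h.four
  obtain ⟨t, ht0, ht1⟩ : ∃ t : K, t ≠ 0 ∧ t ≠ 1 := by
    obtain ⟨t, ht⟩ := CfsgLib.Amalgam.Higman.exists_ne_zero_one (K := K) (by rw [h.card_K]; omega)
    exact ⟨t, ht⟩
  have hsub : (Finset.univ : Finset K) ⊆ {0, 1, t, t + 1} := by
    intro s _
    simp only [Finset.mem_insert, Finset.mem_singleton]
    by_cases hs0 : s = 0
    · exact Or.inl hs0
    by_cases hs1 : s = 1
    · exact Or.inr (Or.inl hs1)
    have h1 : (s + t) * (s + t + 1) = 0 := by
      linear_combination hroot s hs0 hs1 + hroot t ht0 ht1 - CfsgLib.Amalgam.Higman.add_self (1 : K) +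
        CfsgLib.Amalgam.Higman.add_self (s * t)
    rcases mul_eq_zero.1 h1 with e | e
    · refine Or.inr (Or.inr (Or.inl ?_))
      rw [eq_neg_of_add_eq_zero_left e, CfsgLib.Amalgam.Higman.neg_eq]
    · refine Or.inr (Or.inr (Or.inr ?_))
      rw [add_assoc] at e
      rw [eq_neg_of_add_eq_zero_left e, CfsgLib.Amalgam.Higman.neg_eq]
  have := Finset.card_le_card hsub
  rw [Finset.card_univ, h.card_K] at this
  have hle := this.trans Finset.card_le_four
  omega

end Large

end CfsgLib.Invol.CIT
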