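import Cfsg.Agent.Lib.Invol.CIT.Basic
import Cfsg.Agent.Lib.PLocal.Offender
import Cfsg.Prelude.Def_Involutions

/-!
# 2-local subgroups outside the normaliser of `J(S)`

If some 2-local subgroup is not contained in `K = N(J(S))` there is one, `N = N(R)`, with `R = O₂(N)`,
`P = S ∩ N` Sylow in `N` of largest order, and an elementary abelian subgroup of largest order of `P`
acting quadratically and nontrivially on `Ω₁Z(R)`.  Otherwise `K` is strongly embedded.
-/

set_option autoImplicit false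

namespace CfsgLib.Invol.CIT

open Subgroup CfsgLib.PLocal
open scoped commutatorElement

universe u

variable {G : Type u} [Group G] [Finite G]

/-- The normaliser of the Thompson subgroup of a Sylow 2-subgroup. -/
def KJ (S : Sylow 2 G) : Subgroup G :=
  normalizer (Cfsg.thompsonSubgroupOf 2 (S : Subgroup G) : Set G)

/-- The order of `S ∩ N(Q)`. -/
noncomputable def nS (S : Sylow 2 G) (Q : Subgroup G) : ℕ :=
  Nat.card ↥((S : Subgroup G) ⊓ normalizer (Q : Set G))

theorem sylow_le_KJ (S : Sylow 2 G) : (S : Subgroup G) ≤ KJ S :=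
  le_normalizer.trans (normalizer_le_normalizer_thompsonOf _)

theorem normalizer_sylow_le_KJ (S : Sylow 2 G) : normalizer ((S : Subgroup G) : Set G) ≤ KJ S :=
  normalizer_le_normalizer_thompsonOf _

omit [Finite G] in
theorem mem_normalizer_map {Q : Subgroup G} (g : G) {x : G} (hx : x ∈ normalizer (Q : Set G)) :
    g * x * g⁻¹ ∈ normalizer (Q.map (MulAut.conj g).toMonoidHom : Set G) := by
  rw [mem_normalizer_iff] at hx ⊢
  intro y
  constructor
  · rintro ⟨q, hq, rfl⟩
    exact ⟨x * q * x⁻¹, (hx q).1 hq, by simp [mul_assoc]⟩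
  · rintro ⟨q, hq, e⟩
    refine ⟨x⁻¹ * q * x, (hx _).2 (by simpa [mul_assoc] using hq), ?_⟩
    simp only [MulEquiv.coe_toMonoidHom, MulAut.conj_apply] at e ⊢
    calc g * (x⁻¹ * q * x) * g⁻¹ = (g * x * g⁻¹)⁻¹ * (g * q * g⁻¹) * (g * x * g⁻¹) := by group
      _ = y := by rw [e]; group

/-- `|Q| < |N_S(Q)|` below the Sylow subgroup. -/
theorem card_lt_nS {S : Sylow 2 G} {Q : Subgroup G} (hQS : Q ≤ (S : Subgroup G))
    (hne : Q ≠ (S : Subgroup G)) : Nat.card Q < nS S Q := by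
  haveI : Fact (Nat.Prime 2) := ⟨Nat.prime_two⟩
  haveI : Group.IsNilpotent (S : Subgroup G) := S.isPGroup'.isNilpotent
  set Q' := Q.subgroupOf (S : Subgroup G)
  have hlt : Q' < ⊤ := lt_top_iff_ne_top.2 fun e => hne (le_antisymm hQS (subgroupOf_eq_top.1 e))
  obtain ⟨⟨y, hyS⟩, hy, hyn⟩ := SetLike.exists_of_lt (Group.normalizerCondition_of_isNilpotent Q' hlt)
  refine lt_of_le_of_ne (Subgroup.card_le_of_le (le_inf hQS le_normalizer)) fun e => hyn ?_
  have hyN : y ∈ normalizer (Q : Set G) := by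
    rw [mem_normalizer_iff] at hy ⊢
    intro q
    constructor
    · intro hq
      exact mem_subgroupOf.1 ((hy ⟨q, hQS hq⟩).1 (mem_subgroupOf.2 hq))
    · intro hq
      have hqS : q ∈ (S : Subgroup G) := by
        have := (S : Subgroup G).mul_mem ((S : Subgroup G).mul_mem ((S : Subgroup G).inv_mem hyS) (hQS hq)) hyS
        simpa [mul_assoc] using this
      exact mem_subgroupOf.1 ((hy ⟨q, hqS⟩).2 (mem_subgroupOf.2 hq))
  rw [mem_subgroupOf]
  have hEq := CfsgLib.Solvable.eq_of_le_of_card_le (le_inf hQS le_normalizer : Q ≤ _) e.ge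
  rw [hEq]
  exact ⟨hyS, hyN⟩

/-- If every local subgroup with a large 2-part lies in `K`, so do the elements fusing large
subgroups of `S`. -/
theorem transporter {S : Sylow 2 G} {p : ℕ}
    (hmax : ∀ Q : Subgroup G, Q ≤ (S : Subgroup G) → Q ≠ ⊥ → p < nS S Q →
      normalizer (Q : Set G) ≤ KJ S) :
    ∀ Q : Subgroup G, Q ≤ (S : Subgroup G) → Q ≠ ⊥ → p ≤ Nat.card Q → ∀ x : G,
      (∀ q ∈ Q, x * q * x⁻¹ ∈ (S : Subgroup G)) → x ∈ KJ S := by
  haveI : Fact (Nat.Prime 2) := ⟨Nat.prime_two⟩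
  intro Q
  induction hn : Nat.card ↥(S : Subgroup G) - Nat.card Q using Nat.strong_induction_on
    generalizing Q with
  | _ n ih =>
    intro hQS hQne hp x hx
    have hxQ : Q.map (MulAut.conj x).toMonoidHom ≤ (S : Subgroup G) := by
      rintro _ ⟨q, hq, rfl⟩
      exact hx q hq
    have hcardQ' : Nat.card ↥(Q.map (MulAut.conj x).toMonoidHom) = Nat.card Q :=
      Subgroup.card_map_of_injective (MulAut.conj x).injective
    by_cases hQ : Q = (S : Subgroup G)
    · refine normalizer_sylow_le_KJ S (mem_normalizer_fintype fun t ht => ?_)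
      exact hx t (hQ ▸ ht)
    set Q' := Q.map (MulAut.conj x).toMonoidHom with hQ'
    have hQ'ne : Q' ≠ (S : Subgroup G) := by
      intro e
      refine hQ (CfsgLib.Solvable.eq_of_le_of_card_le hQS ?_)
      rw [← hcardQ', e]
    have hQ'bot : Q' ≠ ⊥ := fun e => hQne (Subgroup.eq_bot_of_card_eq Q (by
      rw [← hcardQ', e, Subgroup.card_bot]))
    have hNK' : normalizer (Q' : Set G) ≤ KJ S :=
      hmax Q' hxQ hQ'bot (lt_of_le_of_lt (hp.trans_eq hcardQ'.symm) (card_lt_nS hxQ hQ'ne))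
    set T1 := (S : Subgroup G) ⊓ normalizer (Q : Set G) with hT1
    set T2 := (S : Subgroup G) ⊓ normalizer (Q' : Set G) with hT2
    have hQT1 : Nat.card Q < Nat.card T1 := card_lt_nS hQS hQ
    have hQT2 : Nat.card Q < Nat.card T2 := hcardQ' ▸ card_lt_nS hxQ hQ'ne
    have hS1 : Nat.card T1 ≤ Nat.card ↥(S : Subgroup G) := Subgroup.card_le_of_le inf_le_left
    have hS2 : Nat.card T2 ≤ Nat.card ↥(S : Subgroup G) := Subgroup.card_le_of_le inf_le_left
    -- a Sylow subgroup of `N(Q')`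
    set N' := normalizer (Q' : Set G) with hN'
    have hT2p : IsPGroup 2 (T2.subgroupOf N') :=
      (S.isPGroup'.to_le inf_le_left).comap_of_injective N'.subtype N'.subtype_injective
    obtain ⟨U, hU⟩ := hT2p.exists_le_sylow
    -- move the image of `N_S(Q)` into it
    set T1x := T1.map (MulAut.conj x).toMonoidHom with hT1x
    have hT1xp : IsPGroup 2 (T1x.subgroupOf N') :=
      ((S.isPGroup'.to_le inf_le_left).map _).comap_of_injective N'.subtype N'.subtype_injective
    obtain ⟨⟨n', hn'⟩, hconj⟩ := exists_conj_mem_sylow U hT1xp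
    -- and that into `S`
    obtain ⟨g, hg⟩ := exists_conj_mem_sylow S ((U.isPGroup').map N'.subtype)
    have hgK : g ∈ KJ S := by
      refine ih _ (by rw [← hn]; omega) T2 rfl inf_le_left (fun e => ?_) (le_trans hp hQT2.le) g ?_
      · rw [e, Subgroup.card_bot] at hQT2
        exact absurd hQT2 (not_lt.2 Nat.card_pos)
      · intro t ht
        exact hg t ⟨⟨t, ht.2⟩, hU (mem_subgroupOf.2 ht), rfl⟩
    have hall : g * n' * x ∈ KJ S := by
      refine ih _ (by rw [← hn]; omega) T1 rfl inf_le_left (fun e => ?_) (le_trans hp hQT1.le) _ ?_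
      · rw [e, Subgroup.card_bot] at hQT1
        exact absurd hQT1 (not_lt.2 Nat.card_pos)
      · intro t ht
        have hN : x * t * x⁻¹ ∈ N' := mem_normalizer_map x ht.2
        have h2 := hg (n' * (x * t * x⁻¹) * n'⁻¹)
          ⟨_, hconj ⟨x * t * x⁻¹, hN⟩ (mem_subgroupOf.2 ⟨t, ht, rfl⟩), rfl⟩
        show g * n' * x * t * (g * n' * x)⁻¹ ∈ (S : Subgroup G)
        rw [show g * n' * x * t * (g * n' * x)⁻¹ = g * (n' * (x * t * x⁻¹) * n'⁻¹) * g⁻¹ by group]
        exact h2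
    have := (KJ S).mul_mem ((KJ S).inv_mem ((KJ S).mul_mem hgK (hNK' hn'))) hall
    simpa [mul_assoc] using this

theorem KJ_ne_top [IsSimpleGroup G] (hna : ∃ a b : G, a * b ≠ b * a) (S : Sylow 2 G)
    (h2 : 2 ∣ Nat.card G) : KJ S ≠ ⊤ := by
  haveI : Fact (Nat.Prime 2) := ⟨Nat.prime_two⟩
  intro e
  have hS : 2 ∣ Nat.card ↥(S : Subgroup G) := by
    rw [Sylow.card_eq_multiplicity]
    exact dvd_pow_self 2 (Nat.Prime.factorization_pos_of_dvd Nat.prime_two Nat.card_pos.ne' h2).ne'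
  have hne : Cfsg.thompsonSubgroupOf 2 (S : Subgroup G) ≠ ⊥ := fun e' =>
    thompson_ne_bot (G := ↥(S : Subgroup G)) hS
      ((map_eq_bot_iff_of_injective _ (Subgroup.subtype_injective _)).1 e')
  have hn : (Cfsg.thompsonSubgroupOf 2 (S : Subgroup G)).Normal := normalizer_eq_top_iff.1 e
  rcases hn.eq_bot_or_eq_top with h | h
  · exact hne h
  · have hGp : IsPGroup 2 G := by
      intro g
      obtain ⟨k, hk⟩ := exists_two_pow_of_mem S.isPGroup' (thompsonOf_le _ (h ▸ mem_top g))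
      exact ⟨k, hk⟩
    haveI := hGp.isNilpotent
    obtain ⟨a, b, hab⟩ := hna
    letI : CommGroup G := inferInstance
    exact hab (mul_comm a b)

/-- All locals in `K`: then `K` is strongly embedded. -/
theorem stronglyEmbedded_of_all [IsSimpleGroup G] (hna : ∃ a b : G, a * b ≠ b * a) (S : Sylow 2 G)
    (h2 : 2 ∣ Nat.card G)
    (hall : ∀ Q : Subgroup G, Q ≤ (S : Subgroup G) → Q ≠ ⊥ → normalizer (Q : Set G) ≤ KJ S) :
    Cfsg.IsStronglyEmbedded (KJ S) := by
  haveI : Fact (Nat.Prime 2) := ⟨Nat.prime_two⟩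
  refine ⟨KJ_ne_top hna S h2, ?_, fun g hg => ?_⟩
  · obtain ⟨t, ht⟩ := exists_prime_orderOf_dvd_card' (G := G) 2 h2
    obtain ⟨k, hk⟩ := exists_conj_invol_mem_sylow S ht
    exact even_card_of_invol_mem (x := k * t * k⁻¹) (by rw [orderOf_conj_eq]; exact ht)
      (sylow_le_KJ S hk)
  · refine Nat.not_even_iff_odd.1 fun hev => hg ?_
    obtain ⟨u, ⟨huK, v, hvK, hvu⟩, hu⟩ := exists_invol_mem hev
    have hv : orderOf v = 2 := by rw [← orderOf_conj_eq g v]; exact (hvu ▸ hu : _)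
    obtain ⟨⟨k1, hk1K⟩, hk1⟩ := exists_conj_invol_mem_sylow (S.subtype (sylow_le_KJ S))
      (x := (⟨u, huK⟩ : KJ S)) (by rw [← Subgroup.orderOf_coe]; exact hu)
    obtain ⟨⟨k2, hk2K⟩, hk2⟩ := exists_conj_invol_mem_sylow (S.subtype (sylow_le_KJ S))
      (x := (⟨v, hvK⟩ : KJ S)) (by rw [← Subgroup.orderOf_coe]; exact hv)
    replace hk1 : k1 * u * k1⁻¹ ∈ (S : Subgroup G) := hk1
    replace hk2 : k2 * v * k2⁻¹ ∈ (S : Subgroup G) := hk2
    have hx : k1 * g * k2⁻¹ ∈ KJ S := by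
      refine transporter (p := 0) (fun Q h1 h2' _ => hall Q h1 h2') (zpowers (k2 * v * k2⁻¹))
        (zpowers_le.2 hk2) (fun e => ?_) (Nat.zero_le _) _ ?_
      · exact invol_ne_one ((orderOf_conj_eq k2 v).trans hv) (zpowers_eq_bot.1 e)
      · rintro q ⟨i, rfl⟩
        rw [conj_zpow_eq]
        refine (S : Subgroup G).zpow_mem ?_ i
        have e : k1 * g * k2⁻¹ * (k2 * v * k2⁻¹) * (k1 * g * k2⁻¹)⁻¹ = k1 * (g * v * g⁻¹) * k1⁻¹ := by
          group
        rw [e]
        exact (show g * v * g⁻¹ = u from hvu).symm ▸ hk1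
    have := (KJ S).mul_mem ((KJ S).mul_mem ((KJ S).inv_mem hk1K) hx) hk2K
    simpa [mul_assoc] using this

/-- A local subgroup outside `K` of largest 2-part, with an offending elementary abelian subgroup. -/
structure Bad (S : Sylow 2 G) (R : Subgroup G) : Prop where
  le : R ≤ (S : Subgroup G)
  ne : R ≠ ⊥
  notK : ¬ normalizer (R : Set G) ≤ KJ S
  maxp : ∀ Q : Subgroup G, Q ≤ (S : Subgroup G) → Q ≠ ⊥ → nS S R < nS S Q →
    normalizer (Q : Set G) ≤ KJ S
  maxR : ∀ Q : Subgroup G, Q ≤ (S : Subgroup G) → Q ≠ ⊥ → ¬ normalizer (Q : Set G) ≤ KJ S →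
    nS S R ≤ nS S Q → Nat.card Q ≤ Nat.card R

theorem exists_bad (S : Sylow 2 G)
    (h : ¬ ∀ Q : Subgroup G, Q ≤ (S : Subgroup G) → Q ≠ ⊥ → normalizer (Q : Set G) ≤ KJ S) :
    ∃ R, Bad S R := by
  push Not at h
  obtain ⟨Q₀, h1, h2, h3⟩ := h
  let s : Set (Subgroup G) :=
    {Q | Q ≤ (S : Subgroup G) ∧ Q ≠ ⊥ ∧ ¬ normalizer (Q : Set G) ≤ KJ S}
  obtain ⟨R, ⟨hR1, hR2, hR3⟩, hmax⟩ := Set.exists_max_image s
    (fun Q => nS S Q * (Nat.card G + 1) + Nat.card Q) (Set.toFinite _) ⟨Q₀, h1, h2, h3⟩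
  have hlt : ∀ Q : Subgroup G, Nat.card Q < Nat.card G + 1 := fun Q =>
    Nat.lt_succ_of_le (Nat.le_of_dvd Nat.card_pos (Subgroup.card_subgroup_dvd_card Q))
  refine ⟨R, hR1, hR2, hR3, fun Q a b hp => ?_, fun Q a b c hp => ?_⟩
  · by_contra hc
    have := hmax Q ⟨a, b, hc⟩
    have := hlt R
    have h4 : (nS S R + 1) * (Nat.card G + 1) ≤ nS S Q * (Nat.card G + 1) :=
      Nat.mul_le_mul_right _ hp
    rw [Nat.add_mul, one_mul] at h4
    omega
  · have := hmax Q ⟨a, b, c⟩
    have h4 : nS S R * (Nat.card G + 1) ≤ nS S Q * (Nat.card G + 1) := Nat.mul_le_mul_right _ hp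
    omega

namespace Bad

variable {S : Sylow 2 G} {R : Subgroup G} (h : Bad S R)
include h

/-- `S ∩ N(R)` is a Sylow 2-subgroup of `N(R)`. -/
theorem sylow_eq {U : Subgroup G} (hU : IsPGroup 2 U) (hUN : U ≤ normalizer (R : Set G))
    (hPU : (S : Subgroup G) ⊓ normalizer (R : Set G) ≤ U) :
    U = (S : Subgroup G) ⊓ normalizer (R : Set G) := by
  haveI : Fact (Nat.Prime 2) := ⟨Nat.prime_two⟩
  refine (CfsgLib.Solvable.eq_of_le_of_card_le hPU ?_).symm
  obtain ⟨g, hg⟩ := exists_conj_mem_sylow S hU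
  have hRP : R ≤ (S : Subgroup G) ⊓ normalizer (R : Set G) := le_inf h.le le_normalizer
  have hgK : g ∈ KJ S :=
    transporter h.maxp _ inf_le_left (fun e => h.ne (le_bot_iff.1 (e ▸ hRP))) le_rfl g
      fun t ht => hg t (hPU ht)
  have hR'S : R.map (MulAut.conj g).toMonoidHom ≤ (S : Subgroup G) := by
    rintro _ ⟨r, hr, rfl⟩
    exact hg r (hPU (hRP hr))
  by_contra hlt
  push Not at hlt
  refine h.notK fun n hn => ?_
  have hle : nS S R < nS S (R.map (MulAut.conj g).toMonoidHom) := by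
    refine lt_of_lt_of_le hlt ?_
    refine Nat.card_le_card_of_injective (fun u => ⟨g * u.1 * g⁻¹, hg _ u.2,
      mem_normalizer_map g (hUN u.2)⟩) fun u v e => Subtype.ext ?_
    exact mul_left_cancel (mul_right_cancel (congrArg Subtype.val e))
  have hK := h.maxp _ hR'S (fun e => h.ne ((map_eq_bot_iff_of_injective _ (MulAut.conj g).injective).1 e))
    hle (mem_normalizer_map g hn)
  have := (KJ S).mul_mem ((KJ S).mul_mem ((KJ S).inv_mem hgK) hK) hgK
  simpa [mul_assoc] using this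

/-- `R` is the largest normal 2-subgroup of `N(R)`. -/
theorem core_le {M : Subgroup G} (hMN : M ≤ normalizer (R : Set G))
    (hN : normalizer (R : Set G) ≤ normalizer (M : Set G)) (hM : IsPGroup 2 M) : M ≤ R := by
  set P := (S : Subgroup G) ⊓ normalizer (R : Set G) with hP
  have hMP : M ≤ P := by
    have hsup : IsPGroup 2 ↥(P ⊔ M) :=
      (S.isPGroup'.to_le inf_le_left).to_sup_of_normal_right' hM (inf_le_right.trans hN)
    rw [hP, ← h.sylow_eq hsup (sup_le inf_le_right hMN) le_sup_left]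
    exact le_sup_right
  have hsupS : R ⊔ M ≤ (S : Subgroup G) := sup_le h.le (hMP.trans inf_le_left)
  have hnorm : normalizer (R : Set G) ≤ normalizer ((R ⊔ M : Subgroup G) : Set G) :=
    (le_inf le_rfl hN).trans (Subgroup.normalizer_inf_normalizer_le_normalizer_sup R M)
  have h1 := h.maxR (R ⊔ M) hsupS (fun e => h.ne (le_bot_iff.1 (e ▸ le_sup_left)))
    (fun hc => h.notK (hnorm.trans hc)) (Subgroup.card_le_of_le (inf_le_inf le_rfl hnorm))
  have h2 := CfsgLib.Solvable.eq_of_le_of_card_le (le_sup_left : R ≤ R ⊔ M) h1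
  exact le_sup_right.trans h2.ge

/-- An element of `S` normalising a subgroup of `N(R)` normalised by `N(R)` lies in `N(R)`. -/
theorem mem_of_normalizes {Q : Subgroup G} (hQ : Q ≤ (S : Subgroup G)) (hQne : Q ≠ ⊥)
    (hN : normalizer (R : Set G) ≤ normalizer (Q : Set G)) :
    (S : Subgroup G) ⊓ normalizer (Q : Set G) = (S : Subgroup G) ⊓ normalizer (R : Set G) := by
  refine (CfsgLib.Solvable.eq_of_le_of_card_le (inf_le_inf le_rfl hN) ?_).symm
  by_contra hlt
  push Not at hlt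
  exact h.notK (hN.trans (h.maxp Q hQ hQne hlt))

/-- `J(P)` is not contained in `R`. -/
theorem thompson_not_le :
    ¬ Cfsg.thompsonSubgroupOf 2 ((S : Subgroup G) ⊓ normalizer (R : Set G)) ≤ R := by
  haveI : Fact (Nat.Prime 2) := ⟨Nat.prime_two⟩
  set P := (S : Subgroup G) ⊓ normalizer (R : Set G) with hP
  intro hle
  have hRP : R ≤ P := le_inf h.le le_normalizer
  have hJ := thompsonOf_eq_of_le hle hRP
  have hN : normalizer (R : Set G) ≤ normalizer (Cfsg.thompsonSubgroupOf 2 P : Set G) := by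
    rw [← hJ]
    exact normalizer_le_normalizer_thompsonOf R
  by_cases hPS : P = (S : Subgroup G)
  · exact h.notK (hN.trans (by rw [hPS]; exact le_rfl))
  have hJne : Cfsg.thompsonSubgroupOf 2 P ≠ ⊥ := by
    obtain ⟨A, hA⟩ := exists_maxElemIn 2 P
    intro e
    obtain ⟨r, hr, hr1⟩ := R.bot_or_exists_ne_one.resolve_left h.ne
    obtain ⟨t, ht, ht2⟩ := exists_invol_zpowers
      (exists_two_pow_of_mem (S.isPGroup'.to_le h.le) hr) hr1
    have hA1 := hA.2.2 (zpowers t) (zpowers_le.2 (hRP (zpowers_le.2 hr ht)))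
      ⟨inferInstance, fun a ha => by
        obtain ⟨i, rfl⟩ := ha
        rw [← zpow_natCast, ← zpow_mul, mul_comm, zpow_mul]
        simp [pow_two, invol_mul_self ht2]⟩
    rw [Nat.card_zpowers, ht2, show A = ⊥ from le_bot_iff.1 (e ▸ le_thompsonOf hA),
      Subgroup.card_bot] at hA1
    omega
  have hgt : nS S R < nS S (Cfsg.thompsonSubgroupOf 2 P) := by
    refine lt_of_lt_of_le (card_lt_nS (Q := P) inf_le_left hPS) ?_
    exact Subgroup.card_le_of_le (inf_le_inf le_rfl (normalizer_le_normalizer_thompsonOf P))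
  exact h.notK (hN.trans (h.maxp _ ((thompsonOf_le P).trans inf_le_left) hJne hgt))

end Bad

end CfsgLib.Invol.CIT
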