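import Cfsg.Agent.Lib.Invol.CIT.Spread
import Cfsg.Agent.Lib.Invol.CAInvol
import Cfsg.Agent.Lib.Block.BRTheorem

/-!
# The group of a quadratic offender is `SL₂(q)`
-/

set_option autoImplicit false

namespace CfsgLib.Invol.CIT

open Subgroup MulAction
open CfsgLib.Recog.EPPOSeven (twoPoint mem_twoPoint smul_base_iff)

namespace Offender

variable {X : Type*} [Group X] [Finite X] {V : Type*} [CommGroup V] [Finite V]
  {ρ : X →* MulAut V} {A : Subgroup X} (h : Offender ρ A)
include h

local notation "base" => (QuotientGroup.mk 1 : X ⧸ normalizer (A : Set X))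

theorem exists_move {a b : X ⧸ normalizer (A : Set X)} (hab : a ≠ b)
    {β : X ⧸ normalizer (A : Set X)} (hβ : β ≠ base) : ∃ g : X, g • a = base ∧ g • b = β := by
  obtain ⟨a, rfl⟩ := QuotientGroup.mk_surjective a
  have h1 : a⁻¹ • (QuotientGroup.mk a : X ⧸ normalizer (A : Set X)) = base := by
    rw [MulAction.Quotient.smul_mk, smul_eq_mul, inv_mul_cancel]
  have h2 : a⁻¹ • b ≠ base := fun e => hab (by
    have := congrArg (a • ·) e
    simp only [smul_inv_smul] at this
    rw [this, MulAction.Quotient.smul_mk, smul_eq_mul, mul_one])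
  obtain ⟨k, hk, hkb⟩ := h.orbit_eq h2 β hβ
  exact ⟨k * a⁻¹, by rw [mul_smul, h1, h.fix_self hk], by rw [mul_smul, hkb]⟩

theorem isZassenhaus (hq : 2 < Nat.card A) :
    Cfsg.IsZassenhausGroup X (X ⧸ normalizer (A : Set X)) := by
  obtain ⟨β, hβ⟩ := h.exists_ne_base
  obtain ⟨d, hd, hd1⟩ := h.exists_twoPoint_ne_one hq hβ
  refine ⟨⟨fun {g k} hgk => ?_⟩, ?_, ?_, ⟨d, hd1, base, β, hβ.symm, (mem_twoPoint.1 hd).1,
    (mem_twoPoint.1 hd).2⟩, ?_⟩
  · exact (inv_mul_eq_one.1 (h.faithful fun γ => by rw [mul_smul, hgk, inv_smul_smul])).symm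
  · rw [MulAction.is_two_pretransitive_iff]
    intro a b c e hab hce
    obtain ⟨g, g1, g2⟩ := h.exists_move hab hβ
    obtain ⟨k, k1, k2⟩ := h.exists_move hce hβ
    exact ⟨k⁻¹ * g, by rw [mul_smul, g1, ← k1, inv_smul_smul],
      by rw [mul_smul, g2, ← k2, inv_smul_smul]⟩
  · intro g a b c hab hbc hac ha hb hc
    obtain ⟨m, hma, hmb⟩ := h.exists_move hab hβ
    have key : ∀ x : X ⧸ normalizer (A : Set X), g • x = x → (m * g * m⁻¹) • (m • x) = m • x :=
      fun x hx => by rw [mul_smul, mul_smul, inv_smul_smul, hx]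
    have := h.three_fix hβ (γ := m • c) (fun e => hac (MulAction.injective m (hma.trans e.symm)))
      (fun e => hbc (MulAction.injective m (hmb.trans e.symm))) (hma ▸ key a ha) (hmb ▸ key b hb)
      (key c hc)
    exact conj_eq_one_iff.1 this
  · intro N hN htr
    by_contra! hcon
    haveI := htr
    have hcard : Nat.card N = Nat.card A + 1 := by
      have hi := @MulAction.index_stabilizer_of_transitive N (X ⧸ normalizer (A : Set X)) _ _ base htr
      rw [show MulAction.stabilizer N base = ⊥ from hcon base, Subgroup.index_bot] at hi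
      rw [← h.card_points]
      exact hi
    obtain ⟨a, ha, ha1⟩ := A.bot_or_exists_ne_one.resolve_left h.ne
    obtain ⟨b, hb, hb1, hba⟩ : ∃ b ∈ A, b ≠ 1 ∧ b ≠ a := by
      by_contra! hall
      have hsub : (A : Set X) ⊆ {1, a} := fun b hb => by
        by_cases hb1 : b = 1
        · exact Or.inl hb1
        · exact Or.inr (hall b hb hb1)
      have := Set.ncard_le_ncard hsub (Set.toFinite _)
      rw [Set.ncard_pair ha1.symm, ← Nat.card_coe_set_eq] at this
      exact absurd hq (not_lt.2 this)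
    refine hba (h.cit.invol_eq_of_odd_normal (N := N) (fun e => ?_) ?_ (h.invol hb hb1)
      (h.invol ha ha1) (h.comm hb ha))
    · rw [e, Subgroup.card_bot] at hcard
      omega
    · obtain ⟨c, hc⟩ := h.card_A_even
      rw [hcard, hc]
      exact ⟨c, rfl⟩

theorem card_pow : ∃ f : ℕ, 1 ≤ f ∧ Nat.card A = 2 ^ f := by
  haveI : Fact (Nat.Prime 2) := ⟨Nat.prime_two⟩
  have hAp : IsPGroup 2 A := fun a => ⟨1, Subtype.ext (by
    show ((a : A) : X) ^ 2 ^ 1 = 1
    rw [pow_one, pow_two, h.sq a a.2])⟩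
  obtain ⟨f, hf⟩ := hAp.exists_card_eq
  refine ⟨f, ?_, hf⟩
  obtain ⟨c, hc⟩ := h.card_A_even
  rcases f with _ | f
  · rw [pow_zero] at hf; omega
  · omega

/-- The classification of quadratic offenders. -/
theorem classify : Nat.card V = Nat.card A * Nat.card A ∧
    ((Nat.card A = 2 ∧ Nat.card X = 6) ∨
      (4 ≤ Nat.card A ∧ ∃ (F : Type) (_ : Field F) (_ : Fintype F), Fintype.card F = Nat.card A ∧
        Nonempty (X ≃* Matrix.SpecialLinearGroup (Fin 2) F))) := by
  classical
  refine ⟨by rw [h.card_V, h.card_A.1], ?_⟩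
  obtain ⟨f, hf1, hf⟩ := h.card_pow
  obtain ⟨β, hβ⟩ := h.exists_ne_base
  haveI := Fintype.ofFinite (X ⧸ normalizer (A : Set X))
  have hΩ : Fintype.card (X ⧸ normalizer (A : Set X)) = Nat.card A + 1 := by
    rw [← Nat.card_eq_fintype_card, h.card_points]
  by_cases hq : Nat.card A = 2
  · left
    refine ⟨hq, ?_⟩
    have hD : twoPoint (normalizer (A : Set X)) β = ⊥ := by
      rw [Subgroup.eq_bot_iff_forall]
      intro d hd
      obtain ⟨h1, h2⟩ := mem_twoPoint.1 hd
      obtain ⟨γ, -, hγ⟩ := Finset.exists_mem_notMem_of_card_lt_card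
        (s := ({base, β} : Finset (X ⧸ normalizer (A : Set X)))) (t := Finset.univ)
        (lt_of_le_of_lt Finset.card_le_two (by rw [Finset.card_univ, hΩ]; omega))
      rw [Finset.mem_insert, Finset.mem_singleton, not_or] at hγ
      refine h.three_fix hβ hγ.1 hγ.2 h1 h2 ?_
      by_contra hne
      have h3 : ({base, β, γ, d • γ} : Finset (X ⧸ normalizer (A : Set X))).card = 4 := by
        rw [Finset.card_insert_of_notMem ?_, Finset.card_insert_of_notMem ?_, Finset.card_pair (Ne.symm hne)]
        · rw [Finset.mem_insert, Finset.mem_singleton]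
          rintro (e | e)
          · exact hγ.2 e.symm
          · exact hγ.2 (MulAction.injective d (h2.trans e)).symm
        · rw [Finset.mem_insert, Finset.mem_insert, Finset.mem_singleton]
          rintro (e | e | e)
          · exact hβ e.symm
          · exact hγ.1 e.symm
          · exact hγ.1 (MulAction.injective d (h1.trans e)).symm
      have := Finset.card_le_univ ({base, β, γ, d • γ} : Finset (X ⧸ normalizer (A : Set X)))
      omega
    rw [← Subgroup.index_mul_card (normalizer (A : Set X)), h.card_normalizer hβ, hD,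
      Subgroup.card_bot, Subgroup.index, h.card_points, hq]
  right
  have h4 : 4 ≤ Nat.card A := by
    rcases f with _ | _ | f
    · omega
    · exact absurd hf hq
    · rw [hf, pow_succ, pow_succ]
      have := Nat.one_le_two_pow (n := f)
      omega
  refine ⟨h4, ?_⟩
  have hq2 : 2 < Nat.card A := by omega
  have hZ := h.isZassenhaus hq2
  have hAle : A ≤ stabilizer X base := fun a ha => h.fix_self ha
  have hAn : (A.subgroupOf (stabilizer X base)).Normal := ⟨fun u hu g => by
    rw [Subgroup.mem_subgroupOf] at hu ⊢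
    exact (mem_normalizer_iff.1 (smul_base_iff.1 g.2) u).1 hu⟩
  have hreg : ∀ y z : X ⧸ normalizer (A : Set X), y ≠ base → z ≠ base → ∃! u : A, (u : X) • y = z := by
    intro y z hy hz
    obtain ⟨a, ha, hay⟩ := h.orbit_eq hy z hz
    exact ⟨⟨a, ha⟩, hay, fun b hb => h.inj_orbit hy (hb.trans hay.symm)⟩
  have hAc : IsMulCommutative A := ⟨⟨fun a b => Subtype.ext (h.comm a.2 b.2)⟩⟩
  rcases CfsgLib.Perm.ZassenhausClass.classify hZ hβ.symm A hAle hAn hAc hreg with
    ⟨-, h3t, hsharp⟩ | ⟨-, K, iK, iKf, hchar, hK, -⟩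
  swap
  · exfalso
    have h1 := FiniteField.odd_card_of_char_ne_two (F := K) hchar
    obtain ⟨c, hc⟩ := h.card_A_even
    omega
  have hf' : Fintype.card (X ⧸ normalizer (A : Set X)) = 2 ^ f + 1 := by rw [hΩ, hf]
  have hinj : Function.Injective (toPermHom X (X ⧸ normalizer (A : Set X))) := fun g k e =>
    (inv_mul_eq_one.1 (h.faithful fun γ => by
      rw [mul_smul, inv_smul_eq_iff]
      exact (congrFun (congrArg DFunLike.coe e.symm) γ).symm)).symm
  let e : X ≃* (toPermHom X (X ⧸ normalizer (A : Set X))).range := MonoidHom.ofInjective hinj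
  have hR3 : IsMultiplyPretransitive (toPermHom X (X ⧸ normalizer (A : Set X))).range
      (X ⧸ normalizer (A : Set X)) 3 := by
    rw [isMultiplyPretransitive_iff]
    intro x y
    obtain ⟨g, hg⟩ := isMultiplyPretransitive_iff.mp h3t x y
    refine ⟨e g, Function.Embedding.ext fun i => ?_⟩
    rw [← hg]; rfl
  have hRs : ∀ t : Fin 3 ↪ (X ⧸ normalizer (A : Set X)),
      stabilizer (toPermHom X (X ⧸ normalizer (A : Set X))).range t = ⊥ := by
    intro t
    rw [Subgroup.eq_bot_iff_forall]
    intro r hr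
    obtain ⟨g, rfl⟩ := e.surjective r
    have hg : g ∈ stabilizer X t := by
      refine Function.Embedding.ext fun i => ?_
      exact congrArg (fun f : Fin 3 ↪ (X ⧸ normalizer (A : Set X)) => f i) hr
    rw [hsharp t, Subgroup.mem_bot] at hg
    rw [hg, map_one]
  obtain ⟨K, iK, iKf, hK, ⟨e'⟩⟩ := Cfsg.Agent.S0727.result hf1 hf' _ hR3 hRs
  have h2 : ringChar K = 2 := FiniteField.even_card_iff_char_two.2 (by
    rw [hK]
    obtain ⟨k, rfl⟩ := Nat.exists_eq_add_of_le hf1
    rw [pow_add, pow_one, Nat.mul_mod_right])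
  obtain ⟨e''⟩ := CfsgLib.Block.BrauerReynolds.psl_equiv_sl_char_two K hf1 hK
  exact ⟨K, iK, iKf, by rw [hK, hf], ⟨((e.trans e').trans
    (MulEquiv.ofBijective _ (CfsgLib.Invol.psl_toPGL_bijective_char_two h2)).symm).trans e''⟩⟩

end Offender

end CfsgLib.Invol.CIT
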