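import Cfsg.Agent.Lib.Invol.CIT.Local
import Cfsg.Agent.Lib.Invol.CIT.SpreadFinal

/-!
# The module `Ω₁Z(R)` of a 2-local subgroup outside `K`

The quotient `N(R)/R` acts on `Z = Ω₁Z(R)` with a quadratic offender, hence is `SL₂(q)` with
`|Z| = q²`, or of order 6 with `|Z| = 4`.
-/

set_option autoImplicit false

namespace CfsgLib.Invol.CIT

open Subgroup CfsgLib.PLocal
open scoped commutatorElement

universe u

variable {G : Type u} [Group G] [Finite G]

omit [Finite G] in
/-- The elements of square one in the centre of a subgroup. -/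
def zOne (R : Subgroup G) : Subgroup G where
  carrier := {x | x ∈ R ∧ x * x = 1 ∧ ∀ r ∈ R, r * x = x * r}
  one_mem' := ⟨one_mem R, one_mul 1, fun r _ => by rw [one_mul, mul_one]⟩
  mul_mem' := fun {a b} ha hb => ⟨mul_mem ha.1 hb.1, by
    calc a * b * (a * b) = a * (b * a) * b := by group
      _ = (a * a) * (b * b) := by rw [← hb.2.2 a ha.1]; group
      _ = 1 := by rw [ha.2.1, hb.2.1, one_mul],
    fun r hr => by rw [← mul_assoc, ha.2.2 r hr, mul_assoc, hb.2.2 r hr, ← mul_assoc]⟩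
  inv_mem' := fun {a} ha => by
    rw [show a⁻¹ = a from inv_eq_of_mul_eq_one_right ha.2.1]
    exact ha

omit [Finite G] in
theorem zOne_le (R : Subgroup G) : zOne R ≤ R := fun _ h => h.1

omit [Finite G] in
theorem zOne_comm {R : Subgroup G} {a b : G} (ha : a ∈ zOne R) (hb : b ∈ zOne R) :
    a * b = b * a := hb.2.2 a ha.1

omit [Finite G] in
theorem zOne_elemAb (R : Subgroup G) : Cfsg.IsElementaryAbelian 2 (zOne R) :=
  ⟨⟨⟨fun a b => Subtype.ext (zOne_comm a.2 b.2)⟩⟩, fun a ha => by rw [pow_two]; exact ha.2.1⟩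

theorem zOne_ne_bot {R : Subgroup G} (hR : IsPGroup 2 R) (hne : R ≠ ⊥) : zOne R ≠ ⊥ := by
  haveI : Fact (Nat.Prime 2) := ⟨Nat.prime_two⟩
  haveI : Nontrivial R := (nontrivial_iff_ne_bot _).2 hne
  obtain ⟨k, hk0, hk⟩ := (hR.to_subgroup (center R)).nontrivial_iff_card.1
    (IsPGroup.center_nontrivial hR)
  obtain ⟨z, hz⟩ := exists_prime_orderOf_dvd_card' (G := center R) 2 (by
    rw [hk]; exact dvd_pow_self 2 hk0.ne')
  intro e
  have hmem : ((z : R) : G) ∈ zOne R := by
    refine ⟨(z : R).2, ?_, fun r hr => congrArg Subtype.val (mem_center_iff.1 z.2 ⟨r, hr⟩)⟩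
    rw [← pow_two]
    have := pow_orderOf_eq_one z
    rw [hz] at this
    exact congrArg (fun w : center R => ((w : R) : G)) this
  rw [e, mem_bot] at hmem
  have : z = 1 := Subtype.ext (Subtype.ext hmem)
  rw [this, orderOf_one] at hz
  omega

omit [Finite G] in
theorem normalizer_le_normalizer_zOne (R : Subgroup G) :
    normalizer (R : Set G) ≤ normalizer (zOne R : Set G) := by
  intro x hx
  have key : ∀ x ∈ normalizer (R : Set G), ∀ z ∈ zOne R, x * z * x⁻¹ ∈ zOne R := by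
    intro x hx z hz
    refine ⟨(mem_normalizer_iff.1 hx z).1 hz.1, ?_, fun r hr => ?_⟩
    · rw [show x * z * x⁻¹ * (x * z * x⁻¹) = x * (z * z) * x⁻¹ by group, hz.2.1, mul_one,
        mul_inv_cancel]
    · have hr' : x⁻¹ * r * x ∈ R := by
        have := (mem_normalizer_iff.1 (inv_mem hx) r).1 hr
        simpa using this
      calc r * (x * z * x⁻¹) = x * (x⁻¹ * r * x * z) * x⁻¹ := by group
        _ = x * (z * (x⁻¹ * r * x)) * x⁻¹ := by rw [hz.2.2 _ hr']
        _ = x * z * x⁻¹ * r := by group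
  rw [mem_normalizer_iff]
  intro z
  refine ⟨key x hx z, fun hz => ?_⟩
  have := key x⁻¹ (inv_mem hx) _ hz
  simpa [mul_assoc] using this

namespace Bad

variable {S : Sylow 2 G} {R : Subgroup G} (h : Bad S R)
include h

theorem isPGroup : IsPGroup 2 R := S.isPGroup'.to_le h.le

/-- The centraliser of `Ω₁Z(R)` in `N(R)` is in `R`. -/
theorem centralizer_zOne_le (hc : IsCIT G) :
    centralizer (zOne R : Set G) ⊓ normalizer (R : Set G) ≤ R := by
  refine h.core_le inf_le_right (fun x hx => mem_normalizer_fintype fun y hy => ?_)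
    ((hc.isPGroup_centralizer (h.isPGroup.to_le (zOne_le R)) (zOne_ne_bot h.isPGroup h.ne)).to_le
      inf_le_left)
  refine ⟨mem_centralizer_iff.2 fun z hz => ?_, (normalizer (R : Set G)).mul_mem ((normalizer (R : Set G)).mul_mem hx hy.2) ((normalizer (R : Set G)).inv_mem hx)⟩
  have hz' : x⁻¹ * z * x ∈ zOne R := by
    have := (mem_normalizer_iff.1 (normalizer_le_normalizer_zOne R (inv_mem hx)) z).1 hz
    simpa using this
  calc z * (x * y * x⁻¹) = x * (x⁻¹ * z * x * y) * x⁻¹ := by group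
    _ = x * (y * (x⁻¹ * z * x)) * x⁻¹ := by rw [mem_centralizer_iff.1 hy.1 _ hz']
    _ = x * y * x⁻¹ * z := by group

/-- A quadratic elementary abelian subgroup of largest order of `S ∩ N(R)` outside `R`. -/
theorem exists_offender (hc : IsCIT G) :
    ∃ A ∈ maxElemIn 2 ((S : Subgroup G) ⊓ normalizer (R : Set G)), ¬ A ≤ R ∧
      ∀ z ∈ zOne R, ∀ a ∈ A, ∀ b ∈ A, b * ⁅z, a⁆ = ⁅z, a⁆ * b := by
  haveI : Fact (Nat.Prime 2) := ⟨Nat.prime_two⟩
  set P := (S : Subgroup G) ⊓ normalizer (R : Set G) with hP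
  obtain ⟨A, hA, hAR⟩ : ∃ A ∈ maxElemIn 2 P, ¬ A ≤ R := by
    by_contra! hall
    refine h.thompson_not_le ?_
    rw [thompsonOf_eq]
    exact sSup_le hall
  have hZP : zOne R ≤ P := (zOne_le R).trans (le_inf h.le le_normalizer)
  obtain ⟨h1, h2, h3⟩ := maxElemIn_replace (p := 2) (V := zOne R) hZP
    (inf_le_right.trans (normalizer_le_normalizer_zOne R)) (zOne_elemAb R) hA
  set A' := ⁅zOne R, A⁆ ⊔ (A ⊓ centralizer ((⁅zOne R, A⁆ : Subgroup G) : Set G))
  have hne : ⁅zOne R, A⁆ ≠ ⊥ := fun e => hAR fun a ha =>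
    h.centralizer_zOne_le hc ⟨by
      refine mem_centralizer_iff.2 fun z hz => ?_
      exact (mem_centralizer_iff.1 (commutator_eq_bot_iff_le_centralizer.1 e hz) a ha).symm,
      (hA.1 ha).2⟩
  refine ⟨A', h1, fun hle => h3 hne ?_, fun z hz a ha b hb => ?_⟩
  · rw [commutator_eq_bot_iff_le_centralizer]
    exact fun z hz => mem_centralizer_iff.2 fun a ha => hz.2.2 a (hle ha)
  · exact (mem_centralizer_iff.1 (commutator_eq_bot_iff_le_centralizer.1 h2
      (commutator_mem_commutator hz ha)) b hb)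

variable (hc : IsCIT G) {A : Subgroup G}
  (hA : A ∈ maxElemIn 2 ((S : Subgroup G) ⊓ normalizer (R : Set G))) (hAR : ¬ A ≤ R)
  (hquad : ∀ z ∈ zOne R, ∀ a ∈ A, ∀ b ∈ A, b * ⁅z, a⁆ = ⁅z, a⁆ * b)
include hc hA hAR hquad

/-- The structure of `N(R)/R`. -/
theorem structure_thm :
    ∃ q : ℕ,
      Nat.card A = q * Nat.card ↥(A ⊓ R) ∧ Nat.card (zOne R) = q * q ∧
      Nat.card ↥(zOne R ⊓ centralizer (A : Set G)) = q ∧
      (∀ a ∈ A, a ∉ R → ∀ z ∈ zOne R, a * z = z * a → z ∈ centralizer (A : Set G)) ∧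
      ((q = 2 ∧ Nat.card ↥(normalizer (R : Set G)) = 6 * Nat.card R) ∨
        (4 ≤ q ∧ ∃ (F : Type) (_ : Field F) (_ : Fintype F), Fintype.card F = q ∧
          Nonempty (normalizer (R : Set G) ⧸ R.subgroupOf (normalizer (R : Set G)) ≃*
            Matrix.SpecialLinearGroup (Fin 2) F))) := by
  haveI : Fact (Nat.Prime 2) := ⟨Nat.prime_two⟩
  set N := normalizer (R : Set G) with hN
  set R' := R.subgroupOf N with hR'
  haveI : R'.Normal := normal_in_normalizer
  set Z := (zOne R).subgroupOf N with hZdef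
  have hZn : zOne R ≤ N := (zOne_le R).trans le_normalizer
  haveI : Z.Normal := (normal_subgroupOf_iff_le_normalizer hZn).2 (normalizer_le_normalizer_zOne R)
  letI : CommGroup Z :=
    { (inferInstance : Group Z) with
      mul_comm := fun a b => Subtype.ext (Subtype.ext (zOne_comm (mem_subgroupOf.1 a.2) (mem_subgroupOf.1 b.2))) }
  let φ : N →* MulAut Z := MulAut.conjNormal
  have happ : ∀ (n : N) (v : Z), ((φ n v : N) : G) = (n : G) * ((v : N) : G) * (n : G)⁻¹ := fun n v => by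
    simp [φ, MulAut.conjNormal_apply]
  have hker : R' ≤ φ.ker := fun r hr => MulEquiv.ext fun v => Subtype.ext (Subtype.ext (by
    rw [happ, MulAut.one_apply, (mem_subgroupOf.1 v.2).2.2 _ (mem_subgroupOf.1 hr), mul_inv_cancel_right]))
  let ρ : N ⧸ R' →* MulAut Z := QuotientGroup.lift R' φ hker
  have hρ : ∀ (n : N) (v : Z), ρ (QuotientGroup.mk n) v = φ n v := fun n v => rfl
  set B := (A.subgroupOf N).map (QuotientGroup.mk' R') with hB
  have hAN : A ≤ N := hA.1.trans inf_le_right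
  have hcard : Nat.card Z = Nat.card (zOne R) := Nat.card_congr (subgroupOfEquivOfLe hZn).toEquiv
  have hfix : Nat.card (fixedIn ρ (B : Set (N ⧸ R'))) = Nat.card ↥(zOne R ⊓ centralizer (A : Set G)) := by
    refine Nat.card_congr ⟨fun v => ⟨((v.1 : N) : G), mem_subgroupOf.1 v.1.2, mem_centralizer_iff.2 fun a ha => ?_⟩,
      fun z => ⟨⟨⟨z.1, hZn z.2.1⟩, mem_subgroupOf.2 z.2.1⟩, ?_⟩, fun v => rfl, fun z => rfl⟩
    · have := v.2 (QuotientGroup.mk ⟨a, hAN ha⟩) ⟨⟨a, hAN ha⟩, mem_subgroupOf.2 ha, rfl⟩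
      rw [hρ] at this
      have e := congrArg (fun w : Z => ((w : N) : G)) this
      simp only [happ] at e
      exact mul_inv_eq_iff_eq_mul.1 e
    · rintro _ ⟨⟨a, haN⟩, ha, rfl⟩
      rw [QuotientGroup.mk'_apply, hρ]
      refine Subtype.ext (Subtype.ext ?_)
      rw [happ]
      exact mul_inv_eq_iff_eq_mul.2 (mem_centralizer_iff.1 z.2.2 a (mem_subgroupOf.1 ha))
  have hBcard : Nat.card B * Nat.card ↥(A ⊓ R) = Nat.card A := by
    let f : A.subgroupOf N →* N ⧸ R' := (QuotientGroup.mk' R').comp (A.subgroupOf N).subtype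
    have h1 := Subgroup.card_mul_index f.ker
    have hr : f.range = B := by rw [MonoidHom.range_comp, Subgroup.range_subtype]
    rw [Subgroup.index_ker, hr, Nat.card_congr (subgroupOfEquivOfLe hAN).toEquiv, mul_comm] at h1
    refine Eq.trans ?_ h1
    congr 1
    refine Nat.card_congr ⟨fun x => ⟨⟨⟨x.1, hAN x.2.1⟩, mem_subgroupOf.2 x.2.1⟩, ?_⟩,
      fun x => ⟨((x.1 : N) : G), mem_subgroupOf.1 x.1.2, ?_⟩, fun x => rfl, fun x => rfl⟩
    · exact (QuotientGroup.eq_one_iff _).2 (mem_subgroupOf.2 x.2.2)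
    · exact mem_subgroupOf.1 ((QuotientGroup.eq_one_iff _).1 x.2)
  have hoff : Offender ρ B := by
    constructor
    · exact (hc.subgroup N).quotient R' (h.isPGroup.comap_of_injective N.subtype N.subtype_injective)
    · refine le_bot_iff.1 fun x hx => ?_
      obtain ⟨n, rfl⟩ := QuotientGroup.mk_surjective x
      set C := (Cfsg.pCore 2 (N ⧸ R')).comap (QuotientGroup.mk' R') with hC
      haveI : (Cfsg.pCore 2 (N ⧸ R')).Normal := CfsgLib.Solvable.pCore_normal 2 _
      haveI : C.Normal := Subgroup.Normal.comap inferInstance _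
      have hCp : IsPGroup 2 C := (CfsgLib.Solvable.pCore_isPGroup (G := N ⧸ R') 2).comap_of_ker_isPGroup _ (by
        rw [QuotientGroup.ker_mk']
        exact h.isPGroup.comap_of_injective N.subtype N.subtype_injective)
      have hle : C.map N.subtype ≤ R := by
        refine h.core_le (map_subtype_le _) (fun y hy => mem_normalizer_fintype ?_) (hCp.map _)
        rintro _ ⟨c, hcC, rfl⟩
        exact ⟨⟨y, hy⟩ * c * ⟨y, hy⟩⁻¹, (inferInstance : C.Normal).conj_mem c hcC _, rfl⟩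
      exact mem_bot.2 ((QuotientGroup.eq_one_iff n).2
        (mem_subgroupOf.2 (hle ⟨n, hx, rfl⟩)))
    · exact fun v => Subtype.ext (Subtype.ext (mem_subgroupOf.1 v.2).2.1)
    · intro x hx hx1 v hv
      obtain ⟨n, rfl⟩ := QuotientGroup.mk_surjective x
      by_contra hv1
      rw [hρ] at hv
      have e := congrArg (fun w : Z => ((w : N) : G)) hv
      simp only [happ] at e
      obtain ⟨k, hk⟩ := hc.two_pow_of_commute (x := (n : G)) (y := ((v : N) : G))
        ⟨1, by rw [pow_one, pow_two]; exact (mem_subgroupOf.1 v.2).2.1⟩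
        (fun e1 => hv1 (Subtype.ext (Subtype.ext e1))) (mul_inv_eq_iff_eq_mul.1 e)
      refine hx1 (eq_one_of_two_pow_of_odd ⟨k, ?_⟩ hx)
      rw [← QuotientGroup.mk_pow, show n ^ 2 ^ k = 1 from Subtype.ext (by simpa using hk),
        QuotientGroup.mk_one]
    · refine (injective_iff_map_eq_one ρ).2 fun x hx => ?_
      obtain ⟨n, rfl⟩ := QuotientGroup.mk_surjective x
      refine (QuotientGroup.eq_one_iff n).2 (mem_subgroupOf.2 (h.centralizer_zOne_le hc ⟨?_, n.2⟩))
      refine mem_centralizer_iff.2 fun z hz => ?_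
      have e := congrArg (fun f : MulAut Z => ((f ⟨⟨z, hZn hz⟩, mem_subgroupOf.2 hz⟩ : N) : G)) hx
      simp only [hρ, happ, MulAut.one_apply] at e
      exact (mul_inv_eq_iff_eq_mul.1 e).symm
    · intro e
      refine hAR fun a ha => ?_
      have hmem : QuotientGroup.mk' R' ⟨a, hAN ha⟩ ∈ B := ⟨⟨a, hAN ha⟩, mem_subgroupOf.2 ha, rfl⟩
      rw [e, mem_bot, QuotientGroup.mk'_apply, QuotientGroup.eq_one_iff, mem_subgroupOf] at hmem
      exact hmem
    · rintro _ ⟨a, ha, rfl⟩
      rw [QuotientGroup.mk'_apply, ← QuotientGroup.mk_mul,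
        show a * a = 1 from Subtype.ext (by
          show (a : G) * (a : G) = 1
          rw [← pow_two]
          exact hA.2.1.2 _ (mem_subgroupOf.1 ha)), QuotientGroup.mk_one]
    · rintro _ ⟨a, ha, rfl⟩ _ ⟨b, hb, rfl⟩ v
      rw [QuotientGroup.mk'_apply, QuotientGroup.mk'_apply, hρ a v, hρ b]
      refine Subtype.ext (Subtype.ext ?_)
      have hv := mem_subgroupOf.1 v.2
      rw [happ]
      show (b : G) * (((φ a v : N) : G) * ((v : N) : G)) * (b : G)⁻¹ = ((φ a v : N) : G) * ((v : N) : G)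
      rw [happ, mul_inv_eq_iff_eq_mul]
      have e : (a : G) * ((v : N) : G) * (a : G)⁻¹ * ((v : N) : G) = ⁅((v : N) : G), (a : G)⁆⁻¹ := by
        rw [commutatorElement_def,
          show ((v : N) : G)⁻¹ = ((v : N) : G) from inv_eq_of_mul_eq_one_right hv.2.1]
        rw [mul_inv_rev, mul_inv_rev, mul_inv_rev, inv_inv,
          show ((v : N) : G)⁻¹ = ((v : N) : G) from inv_eq_of_mul_eq_one_right hv.2.1]
        group
      rw [e]
      exact (Commute.inv_right (hquad _ hv _ (mem_subgroupOf.1 ha) _ (mem_subgroupOf.1 hb))).eq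
    · have h1 := maxElemIn_offender (p := 2) ((zOne_le R).trans (le_inf h.le le_normalizer))
        (zOne_elemAb R) hA (inf_le_left : A ⊓ R ≤ A)
      have hle : zOne R ≤ centralizer ((A ⊓ R : Subgroup G) : Set G) :=
        fun z hz => mem_centralizer_iff.2 fun x hx => hz.2.2 x hx.2
      rw [inf_eq_left.2 hle, ← hBcard, mul_comm (Nat.card B),
        mul_assoc] at h1
      rw [hcard, hfix]
      exact Nat.le_of_mul_le_mul_left h1 Nat.card_pos
  obtain ⟨hV, hX⟩ := hoff.classify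
  refine ⟨Nat.card B, hBcard.symm, by rw [← hcard, hV], by rw [← hfix, hoff.card_A.1],
    fun a ha haR z hz hcomm => mem_centralizer_iff.2 fun a' ha' => ?_, ?_⟩
  · have hmem : QuotientGroup.mk' R' ⟨a, hAN ha⟩ ∈ B := ⟨⟨a, hAN ha⟩, mem_subgroupOf.2 ha, rfl⟩
    have hne1 : QuotientGroup.mk' R' ⟨a, hAN ha⟩ ≠ 1 := fun e =>
      haR (mem_subgroupOf.1 ((QuotientGroup.eq_one_iff _).1 e))
    have hfixz : (⟨⟨z, hZn hz⟩, mem_subgroupOf.2 hz⟩ : Z) ∈ fixedIn ρ {QuotientGroup.mk' R' ⟨a, hAN ha⟩} := by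
      intro w hw
      rw [Set.mem_singleton_iff.1 hw, QuotientGroup.mk'_apply, hρ]
      refine Subtype.ext (Subtype.ext ?_)
      rw [happ]
      exact mul_inv_eq_iff_eq_mul.2 hcomm
    rw [hoff.fixed_eq hmem hne1] at hfixz
    have := hfixz (QuotientGroup.mk' R' ⟨a', hAN ha'⟩) ⟨⟨a', hAN ha'⟩, mem_subgroupOf.2 ha', rfl⟩
    rw [QuotientGroup.mk'_apply, hρ] at this
    have e := congrArg (fun w : Z => ((w : N) : G)) this
    simp only [happ] at e
    exact mul_inv_eq_iff_eq_mul.1 e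
  rcases hX with ⟨hq, hX⟩ | hX
  · refine Or.inl ⟨hq, ?_⟩
    rw [← Nat.card_congr (subgroupOfEquivOfLe (le_normalizer : R ≤ N)).toEquiv, ← hX,
      ← Subgroup.card_eq_card_quotient_mul_card_subgroup]
  · exact Or.inr hX

end Bad

end CfsgLib.Invol.CIT
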