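import Cfsg.Agent.Lib.Invol.CIT.Basic
import Cfsg.Agent.Lib.Invol.Strong
import Cfsg.Agent.Lib.Invol.BrauerSuzuki
import Cfsg.Agent.Lib.Recog.EPPOSeven.Strong
import Cfsg.Agent.Lib.Solvable.KegelWielandt
import Cfsg.Agent.Lib.Solvable.MinNormal
import Cfsg.Agent.Lib.Coprime.Complements
import Cfsg.Agent.S0340
import Cfsg.Agent.Lib.Chev.ZassSimple
import Cfsg.Agent.Lib.Suzuki.Ident.Main

/-!
# A strongly embedded subgroup in a simple group with 2-group involution centralisers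

The two point stabilisers are abelian, regular on the involutions of the subgroup; the subgroup has a
normal Sylow 2-subgroup regular on the remaining cosets, so the action is that of a Zassenhaus group.
-/

set_option autoImplicit false

namespace CfsgLib.Invol.CIT

open Subgroup MulAction
open CfsgLib.Recog.EPPOSeven (twoPoint mem_twoPoint smul_base_iff odd_twoPoint
  card_invol_le_twoPoint)

variable {G : Type*} [Group G] [Finite G]

/-- An involution normalising a subgroup on which it has no nontrivial fixed point inverts it. -/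
theorem inverts_of_fpf' {C : Subgroup G} {a : G} (ha : orderOf a = 2)
    (hnorm : ∀ c ∈ C, a * c * a⁻¹ ∈ C) (hfix : ∀ c ∈ C, a * c * a⁻¹ = c → c = 1) :
    ∀ c ∈ C, a * c * a⁻¹ = c⁻¹ := by
  let f : C → C := fun n =>
    ⟨n.1⁻¹ * (a * n.1 * a⁻¹), mul_mem (inv_mem n.2) (hnorm _ n.2)⟩
  have hf : Function.Injective f := by
    intro m n e
    have e' : m.1⁻¹ * (a * m.1 * a⁻¹) = n.1⁻¹ * (a * n.1 * a⁻¹) := congrArg Subtype.val e
    refine Subtype.ext (mul_inv_eq_one.1 (hfix _ (mul_mem n.2 (inv_mem m.2)) ?_)).symm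
    calc a * (n.1 * m.1⁻¹) * a⁻¹ = (a * n.1 * a⁻¹) * (a * m.1 * a⁻¹)⁻¹ := by group
      _ = (n.1 * (n.1⁻¹ * (a * n.1 * a⁻¹))) * (m.1 * (m.1⁻¹ * (a * m.1 * a⁻¹)))⁻¹ := by group
      _ = n.1 * m.1⁻¹ := by rw [e']; group
  intro n hn
  obtain ⟨m, hm⟩ := (Finite.injective_iff_surjective.1 hf) ⟨n, hn⟩
  rw [show n = m.1⁻¹ * (a * m.1 * a⁻¹) from (congrArg Subtype.val hm).symm]
  calc a * (m.1⁻¹ * (a * m.1 * a⁻¹)) * a⁻¹
      = a * m.1⁻¹ * a⁻¹ * (a * a) * m.1 * (a * a)⁻¹ := by group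
    _ = a * m.1⁻¹ * a⁻¹ * m.1 := by rw [invol_mul_self ha, mul_one, inv_one, mul_one]
    _ = (m.1⁻¹ * (a * m.1 * a⁻¹))⁻¹ := by group

/-- A transitive point stabiliser with three point rigidity gives a Zassenhaus group. -/
theorem isZassenhaus_of [IsSimpleGroup G] {K : Subgroup G} (hK : K ≠ ⊤) {β₀ : G ⧸ K}
    (hβ : β₀ ≠ QuotientGroup.mk 1)
    (htrans : ∀ β : G ⧸ K, β ≠ QuotientGroup.mk 1 → ∃ k ∈ K, k • β₀ = β)
    (hthree : ∀ g ∈ K, g • β₀ = β₀ → g ≠ 1 → ∀ γ : G ⧸ K, g • γ = γ →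
      γ = QuotientGroup.mk 1 ∨ γ = β₀)
    (hnt : ∃ g ∈ K, g ≠ 1 ∧ g • β₀ = β₀) : Cfsg.IsZassenhausGroup G (G ⧸ K) := by
  set α : G ⧸ K := QuotientGroup.mk 1 with hα
  have hmove : ∀ a b : G ⧸ K, a ≠ b → ∃ g : G, g • a = α ∧ g • b = β₀ := by
    intro a b hab
    obtain ⟨a, rfl⟩ := QuotientGroup.mk_surjective a
    have h1 : a⁻¹ • (QuotientGroup.mk a : G ⧸ K) = α := by
      rw [MulAction.Quotient.smul_mk, smul_eq_mul, inv_mul_cancel]
    obtain ⟨k, hk, hkb⟩ := htrans (a⁻¹ • b) fun e => hab (by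
      have := congrArg (a • ·) e
      simp only [smul_inv_smul] at this
      rw [this, MulAction.Quotient.smul_mk, smul_eq_mul, mul_one])
    refine ⟨k⁻¹ * a⁻¹, ?_, ?_⟩
    · rw [mul_smul, h1, smul_base_iff]; exact inv_mem hk
    · rw [mul_smul, ← hkb, inv_smul_smul]
  have hfaith : FaithfulSMul G (G ⧸ K) := by
    refine faithfulSMul_iff.2 fun g hg => ?_
    have hmem : g ∈ K.normalCore := by
      rw [Subgroup.normalCore_eq_ker, MonoidHom.mem_ker]
      exact Equiv.ext fun x => hg x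
    rcases (Subgroup.normalCore_normal K).eq_bot_or_eq_top with e | e
    · rwa [e, Subgroup.mem_bot] at hmem
    · exact absurd (eq_top_iff.2 (e ▸ K.normalCore_le)) hK
  refine ⟨hfaith, ?_, ?_, ?_, ?_⟩
  · rw [MulAction.is_two_pretransitive_iff]
    intro a b c d hab hcd
    obtain ⟨g, hga, hgb⟩ := hmove a b hab
    obtain ⟨g', hgc, hgd⟩ := hmove c d hcd
    exact ⟨g'⁻¹ * g, by rw [mul_smul, hga, ← hgc, inv_smul_smul],
      by rw [mul_smul, hgb, ← hgd, inv_smul_smul]⟩
  · intro g a b c hab hbc hac ha hb hc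
    by_contra hg1
    obtain ⟨m, hma, hmb⟩ := hmove a b hab
    have key : ∀ x : G ⧸ K, g • x = x → (m * g * m⁻¹) • (m • x) = m • x := fun x hx => by
      rw [mul_smul, mul_smul, inv_smul_smul, hx]
    have e1 := key a ha
    have e2 := key b hb
    rw [hma] at e1
    rw [hmb] at e2
    have hmK : m * g * m⁻¹ ∈ K := smul_base_iff.1 e1
    rcases hthree _ hmK e2 (fun e => hg1 (conj_eq_one_iff.1 e)) _ (key c hc) with e | e
    · exact hac (MulAction.injective m (hma.trans e.symm))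
    · exact hbc (MulAction.injective m (hmb.trans e.symm))
  · obtain ⟨g, hgK, hg1, hgβ⟩ := hnt
    exact ⟨g, hg1, α, β₀, hβ.symm, smul_base_iff.2 hgK, hgβ⟩
  · intro N hN htr
    refine ⟨α, fun hb => ?_⟩
    rcases hN.eq_bot_or_eq_top with e | e
    · subst e
      obtain ⟨g, hg⟩ := htr.exists_smul_eq α β₀
      rw [Subgroup.smul_def, Subgroup.mem_bot.1 g.2, one_smul] at hg
      exact hβ hg.symm
    · subst e
      obtain ⟨g, hgK, hg1, -⟩ := hnt
      have : (⟨g, Subgroup.mem_top g⟩ : (⊤ : Subgroup G)) = 1 :=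
        Subgroup.mem_bot.1 ((SetLike.ext_iff.1 hb ⟨g, Subgroup.mem_top g⟩).1 (smul_base_iff.2 hgK))
      exact hg1 (congrArg Subtype.val this)

variable {K : Subgroup G}

/-- A strongly embedded subgroup of a group with 2-group involution centralisers. -/
structure SEHyp (K : Subgroup G) : Prop where
  cit : IsCIT G
  se : Cfsg.IsStronglyEmbedded K

namespace SEHyp

variable (h : SEHyp K)
include h

theorem semireg {β : G ⧸ K} (hβ : β ≠ QuotientGroup.mk 1) {d s : G} (hd : d ∈ twoPoint K β)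
    (hs : orderOf s = 2) (hc : Commute d s) : d = 1 :=
  h.cit.eq_one_of_commute_invol (odd_orderOf_of_mem (odd_twoPoint h.se hβ) hd) hs hc

theorem card_twoPoint {β : G ⧸ K} (hβ : β ≠ QuotientGroup.mk 1) :
    Nat.card (twoPoint K β) = Nat.card {t : G // orderOf t = 2 ∧ t ∈ K} := by
  obtain ⟨s, hsK, hs⟩ := se_exists_invol h.se
  let f : twoPoint K β → {t : G // orderOf t = 2 ∧ t ∈ K} := fun d =>
    ⟨d.1 * s * d.1⁻¹, (orderOf_conj_eq d.1 s).trans hs,
      mul_mem (mul_mem d.2.1 hsK) (inv_mem d.2.1)⟩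
  have hf : Function.Injective f := by
    intro d d' e
    have e' : d.1 * s * d.1⁻¹ = d'.1 * s * d'.1⁻¹ := congrArg Subtype.val e
    have := h.semireg hβ (mul_mem (inv_mem d'.2) d.2) hs (by
      show d'.1⁻¹ * d.1 * s = s * (d'.1⁻¹ * d.1)
      calc d'.1⁻¹ * d.1 * s = d'.1⁻¹ * (d.1 * s * d.1⁻¹) * d.1 := by group
        _ = d'.1⁻¹ * (d'.1 * s * d'.1⁻¹) * d.1 := by rw [e']
        _ = _ := by group)
    exact Subtype.ext (inv_mul_eq_one.1 this).symm
  exact le_antisymm (Nat.card_le_card_of_injective f hf) (card_invol_le_twoPoint h.se hβ)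

theorem invert_base {β : G ⧸ K} (hβ : β ≠ QuotientGroup.mk 1) {w d : G} (hw : orderOf w = 2)
    (hwβ : w • (QuotientGroup.mk 1 : G ⧸ K) = β) (hd : d ∈ twoPoint K β) :
    w * d * w⁻¹ = d⁻¹ := by
  let f : {i : G // orderOf i = 2 ∧ i • (QuotientGroup.mk 1 : G ⧸ K) = β} → twoPoint K β := fun i =>
    ⟨i.1 * w, mem_twoPoint.2 ⟨by rw [mul_smul, hwβ, invol_smul_swap i.2.1 i.2.2],
      by rw [mul_smul, invol_smul_swap hw hwβ, i.2.2]⟩⟩
  have hinj : Function.Injective f := fun i j e =>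
    Subtype.ext (mul_right_cancel (congrArg Subtype.val e))
  have hbij : Function.Bijective f := hinj.bijective_of_nat_card_le (by
    rw [se_card_swap h.se hβ.symm, h.card_twoPoint hβ])
  obtain ⟨⟨i, hi, hiy⟩, hid⟩ := hbij.2 ⟨d, hd⟩
  rw [show d = i * w from (congrArg Subtype.val hid).symm, mul_inv_rev, invol_inv hi, invol_inv hw,
    mul_assoc, mul_assoc, invol_mul_self hw, mul_one]

theorem invert {a b : G ⧸ K} (hab : a ≠ b) {w d : G} (hw : orderOf w = 2) (hwab : w • a = b)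
    (hda : d • a = a) (hdb : d • b = b) : w * d * w⁻¹ = d⁻¹ := by
  obtain ⟨g, rfl⟩ := QuotientGroup.mk_surjective a
  have hg : g⁻¹ • (g : G ⧸ K) = QuotientGroup.mk 1 := by
    rw [MulAction.Quotient.smul_mk, smul_eq_mul, inv_mul_cancel]
  have hg' : g • (QuotientGroup.mk 1 : G ⧸ K) = (g : G ⧸ K) := by
    rw [MulAction.Quotient.smul_mk, smul_eq_mul, mul_one]
  have e := h.invert_base (β := g⁻¹ • b) (w := g⁻¹ * w * g) (d := g⁻¹ * d * g)
    (fun e => hab (by rw [← hg', ← e, smul_inv_smul]))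
    (by rw [orderOf_conj_inv_eq, hw]) (by rw [mul_smul, mul_smul, hg', hwab])
    (mem_twoPoint.2 ⟨by rw [mul_smul, mul_smul, hg', hda, hg],
      by rw [mul_smul, mul_smul, smul_inv_smul, hdb]⟩)
  calc w * d * w⁻¹ = g * (g⁻¹ * w * g * (g⁻¹ * d * g) * (g⁻¹ * w * g)⁻¹) * g⁻¹ := by group
    _ = g * (g⁻¹ * d * g)⁻¹ * g⁻¹ := by rw [e]
    _ = d⁻¹ := by group

theorem comm {β : G ⧸ K} (hβ : β ≠ QuotientGroup.mk 1) {d e : G} (hd : d ∈ twoPoint K β)
    (he : e ∈ twoPoint K β) : d * e = e * d := by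
  obtain ⟨w, hw, hwβ⟩ := se_swap_exists h.se hβ.symm
  have h1 := h.invert_base hβ hw hwβ (mul_mem hd he)
  rw [show w * (d * e) * w⁻¹ = (w * d * w⁻¹) * (w * e * w⁻¹) by group, h.invert_base hβ hw hwβ hd,
    h.invert_base hβ hw hwβ he, ← mul_inv_rev, inv_inj] at h1
  exact h1.symm

/-- `K` is the product of a two point stabiliser and the centraliser of one of its involutions. -/
theorem exists_mul {β : G ⧸ K} (hβ : β ≠ QuotientGroup.mk 1) {s : G} (hsK : s ∈ K)
    (hs : orderOf s = 2) {k : G} (hk : k ∈ K) :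
    ∃ d ∈ twoPoint K β, ∃ c ∈ centralizer ({s} : Set G), k = d * c := by
  obtain ⟨d, h1, h2, hds⟩ := se_stab_transitive h.se hβ.symm hs ((orderOf_conj_eq k s).trans hs)
    (smul_base_iff.2 hsK) (smul_base_iff.2 (mul_mem (mul_mem hk hsK) (inv_mem hk)))
  refine ⟨d, mem_twoPoint.2 ⟨h1, h2⟩, d⁻¹ * k, ?_, (mul_inv_cancel_left _ _).symm⟩
  rw [mem_centralizer_singleton_iff]
  calc d⁻¹ * k * s = d⁻¹ * (k * s * k⁻¹) * k := by group
    _ = d⁻¹ * (d * s * d⁻¹) * k := by rw [hds]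
    _ = s * (d⁻¹ * k) := by group

theorem exists_beta : ∃ β : G ⧸ K, β ≠ QuotientGroup.mk 1 := by
  obtain ⟨g, -, hg⟩ := SetLike.exists_of_lt h.se.1.lt_top
  exact ⟨QuotientGroup.mk g, fun e => hg (by rwa [QuotientGroup.eq, mul_one, inv_mem_iff] at e)⟩

/-- A Sylow 2-subgroup inside `K` which is the centraliser of one of its involutions. -/
theorem exists_sylow : ∃ (T : Sylow 2 G) (z : G), orderOf z = 2 ∧ z ∈ (T : Subgroup G) ∧
    centralizer ({z} : Set G) = (T : Subgroup G) ∧ (T : Subgroup G) ≤ K := by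
  haveI : Fact (Nat.Prime 2) := ⟨Nat.prime_two⟩
  obtain ⟨s, hsK, hs⟩ := se_exists_invol h.se
  obtain ⟨T, hT⟩ := (h.cit s hs).exists_le_sylow
  have hsT : s ∈ (T : Subgroup G) := hT (mem_centralizer_singleton_iff.2 rfl)
  have : Nontrivial (T : Subgroup G) :=
    ⟨⟨⟨s, hsT⟩, 1, fun e => invol_ne_one hs (congrArg Subtype.val e)⟩⟩
  obtain ⟨k, hk0, hk⟩ := (T.isPGroup'.to_subgroup (center (T : Subgroup G))).nontrivial_iff_card.1
    (IsPGroup.center_nontrivial T.isPGroup')
  obtain ⟨z, hz⟩ := exists_prime_orderOf_dvd_card' (G := center (T : Subgroup G)) 2 (by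
    rw [hk]; exact dvd_pow_self 2 hk0.ne')
  have hz2 : orderOf (z.1 : G) = 2 := by rw [Subgroup.orderOf_coe, Subgroup.orderOf_coe, hz]
  have hcomm : ∀ t ∈ (T : Subgroup G), t * (z.1 : G) = z.1 * t := fun t ht =>
    congrArg Subtype.val (mem_center_iff.1 z.2 ⟨t, ht⟩)
  have hTC : (T : Subgroup G) ≤ centralizer ({(z.1 : G)} : Set G) := fun t ht =>
    mem_centralizer_singleton_iff.2 (hcomm t ht)
  have hzK : (z.1 : G) ∈ K :=
    se_mem_of_commute h.se hs hsK (hcomm s hsT).symm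
  have hCT := T.is_maximal' (h.cit _ hz2) hTC
  exact ⟨T, z.1, hz2, z.1.2, hCT, fun t ht => se_centralizer_le h.se hz2 hzK (hTC ht)⟩

theorem two_invol [IsSimpleGroup G] (hna : ∃ a b : G, a * b ≠ b * a) {T : Sylow 2 G} {z : G}
    (hz : orderOf z = 2) (hzT : z ∈ (T : Subgroup G))
    (hC : centralizer ({z} : Set G) = (T : Subgroup G)) :
    ∃ t ∈ (T : Subgroup G), orderOf t = 2 ∧ t ≠ z := by
  by_contra! hall
  have hiso : Cfsg.IsIsolatedInvolution z := by
    refine ⟨hz, fun g hg => hall _ ?_ ((orderOf_conj_eq g z).trans hz)⟩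
    rw [← hC, mem_centralizer_singleton_iff]
    exact hg.symm.eq
  have hodd : Cfsg.oddCore G = ⊥ := by
    have hn : (Cfsg.oddCore G).Normal := CfsgLib.Solvable.pPrimeCore_normal 2 G
    refine hn.eq_bot_or_eq_top.resolve_right fun e => ?_
    have hcop := CfsgLib.Solvable.pPrimeCore_coprime (G := G) 2
    rw [show Cfsg.pPrimeCore 2 G = ⊤ from e, Subgroup.card_top] at hcop
    have h2 : 2 ∣ Nat.card G := hz ▸ orderOf_dvd_natCard z
    exact absurd (Nat.eq_one_of_dvd_coprimes hcop h2 dvd_rfl) (by norm_num)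
  have hzc : z ∈ center G := mem_center_iff.2 fun g => by
    have := CfsgLib.Invol.zstar G hiso g
    rw [hodd, mem_bot, mul_inv_eq_one, mul_inv_eq_iff_eq_mul] at this
    exact this.symm
  obtain ⟨a, b, hab⟩ := hna
  rcases (inferInstance : (center G).Normal).eq_bot_or_eq_top with e | e
  · exact invol_ne_one hz (by rwa [e, mem_bot] at hzc)
  · exact hab (mem_center_iff.1 (e ▸ mem_top b) a)

/-- The Sylow 2-subgroup of `K` is normal in it. -/
theorem sylow_normal [IsSimpleGroup G] (hna : ∃ a b : G, a * b ≠ b * a) {β : G ⧸ K}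
    (hβ : β ≠ QuotientGroup.mk 1) {T : Sylow 2 G} {z : G}
    (hz : orderOf z = 2) (hzT : z ∈ (T : Subgroup G))
    (hC : centralizer ({z} : Set G) = (T : Subgroup G)) (hTK : (T : Subgroup G) ≤ K) :
    ∀ k ∈ K, ∀ t ∈ (T : Subgroup G), k * t * k⁻¹ ∈ (T : Subgroup G) := by
  haveI : Fact (Nat.Prime 2) := ⟨Nat.prime_two⟩
  have hzK : z ∈ K := hTK hzT
  obtain ⟨t₁, ht₁T, ht₁, ht₁z⟩ := h.two_invol hna hz hzT hC
  -- solvability
  set D := twoPoint K β with hD
  haveI hsolv : Group.IsSolvable K := by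
    have hA : Group.IsNilpotent (D.subgroupOf K) := by
      letI : CommGroup (D.subgroupOf K) :=
        { (inferInstance : Group (D.subgroupOf K)) with
          mul_comm := fun x y => Subtype.ext (Subtype.ext (h.comm hβ x.2 y.2)) }
      infer_instance
    have hB : Group.IsNilpotent ((T : Subgroup G).subgroupOf K) :=
      ((T.isPGroup').of_equiv (subgroupOfEquivOfLe hTK).symm).isNilpotent
    refine CfsgLib.Solvable.isSolvable_of_mul_nilpotent _ _ hA hB fun k => ?_
    obtain ⟨d, hd, c, hc, e⟩ := h.exists_mul hβ hzK hz k.2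
    rw [hC] at hc
    exact ⟨⟨d, hd.1⟩, hd, ⟨c, hTK hc⟩, hc, Subtype.ext e⟩
  set Q := Cfsg.pCore 2 K with hQ
  haveI hQn : Q.Normal := CfsgLib.Solvable.pCore_normal 2 K
  have hQp : IsPGroup 2 Q := CfsgLib.Solvable.pCore_isPGroup 2
  have hK1 : Nontrivial K := ⟨⟨⟨z, hzK⟩, 1, fun e => invol_ne_one hz (congrArg Subtype.val e)⟩⟩
  have hcitK : IsCIT K := h.cit.subgroup K
  -- the core is nontrivial
  have hQne : Q ≠ ⊥ := by
    intro e
    obtain ⟨M, hM, hMne, hmin⟩ := CfsgLib.Solvable.exists_minimal_normal (G := K)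
    haveI := hM
    obtain ⟨p, hp, hMp, -, -⟩ := CfsgLib.Solvable.exists_isPGroup_of_minimal_normal hMne hmin
    have hp2 : p ≠ 2 := by
      rintro rfl
      exact hMne (le_bot_iff.1 (e ▸ CfsgLib.Solvable.le_pCore hM hMp))
    haveI := Fact.mk hp
    obtain ⟨n, hn⟩ := hMp.exists_card_eq
    have hodd : Odd (Nat.card M) := hn ▸ (hp.odd_of_ne_two hp2).pow
    have := hcitK.invol_eq_of_odd_normal (N := M) hMne hodd
      (a := ⟨t₁, hTK ht₁T⟩) (b := ⟨z, hzK⟩)
      (by rw [← Subgroup.orderOf_coe]; exact ht₁) (by rw [← Subgroup.orderOf_coe]; exact hz)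
      (Subtype.ext (show t₁ * z = z * t₁ from
        mem_centralizer_singleton_iff.1 (hC ▸ ht₁T : t₁ ∈ centralizer ({z} : Set G))))
    exact ht₁z (congrArg Subtype.val this)
  -- all involutions of `K` lie in the core
  have hinv : ∀ s : K, orderOf s = 2 → s ∈ Q := by
    intro s hs
    obtain ⟨q, hq, hq1⟩ := Q.bot_or_exists_ne_one.resolve_left hQne
    obtain ⟨u, hu, hu2⟩ := exists_invol_zpowers (exists_two_pow_of_mem hQp hq) hq1
    have huQ : u ∈ Q := zpowers_le.2 hq hu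
    obtain ⟨d, h1, -, hds⟩ := se_stab_transitive h.se hβ.symm (s := (u : G)) (t := (s : G))
      (by rw [Subgroup.orderOf_coe]; exact hu2) (by rw [Subgroup.orderOf_coe]; exact hs)
      (smul_base_iff.2 u.2) (smul_base_iff.2 s.2)
    have := hQn.conj_mem u huQ ⟨d, smul_base_iff.1 h1⟩
    convert this using 1
    exact Subtype.ext hds.symm
  -- the core is the Sylow subgroup
  have hQT : ∀ q ∈ Q, (q : G) ∈ (T : Subgroup G) := by
    intro q hq
    have := CfsgLib.Solvable.pCore_le_sylow (T.subtype hTK) hq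
    rwa [Sylow.coe_subtype, mem_subgroupOf] at this
  haveI : Group.IsSolvable (K ⧸ Q) := solvable_of_surjective (QuotientGroup.mk'_surjective Q)
  have hTQ : ∀ t : K, (t : G) ∈ (T : Subgroup G) → t ∈ Q := by
    by_contra! hcon
    obtain ⟨t, htT, htQ⟩ := hcon
    haveI : Nontrivial (K ⧸ Q) := ⟨⟨t, 1, fun e => htQ ((QuotientGroup.eq_one_iff t).1 e)⟩⟩
    obtain ⟨M', hM', hMne, hmin⟩ := CfsgLib.Solvable.exists_minimal_normal (G := K ⧸ Q)
    haveI := hM'
    obtain ⟨p, hp, hMp, -, -⟩ := CfsgLib.Solvable.exists_isPGroup_of_minimal_normal hMne hmin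
    have hp2 : p ≠ 2 := by
      rintro rfl
      exact hMne (le_bot_iff.1 ((CfsgLib.Solvable.le_pCore hM' hMp).trans
        (CfsgLib.Solvable.pCore_quotient_eq_bot (G := K) 2).le))
    haveI := Fact.mk hp
    set M := M'.comap (QuotientGroup.mk' Q) with hM
    haveI : M.Normal := hM'.comap _
    obtain ⟨P0⟩ := (inferInstance : Nonempty (Sylow p M))
    set P := (P0 : Subgroup M).map M.subtype with hP
    have hPM : P ≤ M := Subgroup.map_subtype_le _
    have hQM : Q ≤ M := fun q hq => by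
      rw [hM, mem_comap]
      convert one_mem M'
      exact (QuotientGroup.eq_one_iff q).2 hq
    -- `M = Q P`
    have hcard : Nat.card M = Nat.card Q * Nat.card M' := by
      rw [mul_comm, ← CfsgLib.Solvable.card_comap_mk' Q M', ← hM]
    obtain ⟨a, ha⟩ := hMp.exists_card_eq
    obtain ⟨b, hb⟩ := hQp.exists_card_eq
    have hPc : Nat.card P = p ^ a := by
      rw [hP, Subgroup.card_map_of_injective M.subtype_injective, Sylow.card_eq_multiplicity, hcard,
        hb, ha, Nat.factorization_mul (pow_ne_zero _ two_ne_zero) (pow_ne_zero _ hp.pos.ne')]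
      simp [Nat.Prime.factorization_pow hp, Nat.Prime.factorization_pow Nat.prime_two, Ne.symm hp2]
    have hPQ : P ⊓ Q = ⊥ := by
      refine Subgroup.inf_eq_bot_of_coprime ?_
      rw [hPc, hb]
      exact (Nat.coprime_primes hp Nat.prime_two).2 hp2 |>.pow _ _
    have hMsup : P ⊔ Q = M := by
      refine CfsgLib.Solvable.eq_of_le_of_card_le (sup_le hPM hQM) ?_
      rw [hcard, ha, ← hPc, mul_comm]
      refine Nat.le_of_dvd Nat.card_pos ?_
      refine Nat.Coprime.mul_dvd_of_dvd_of_dvd ?_ (card_dvd_of_le le_sup_left) (card_dvd_of_le le_sup_right)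
      rw [hPc, hb]
      exact ((Nat.coprime_primes hp Nat.prime_two).2 hp2).pow _ _
    have hfr := Sylow.normalizer_sup_eq_top P0
    rw [← hP, ← hMsup, ← sup_assoc, sup_eq_left.2 Subgroup.le_normalizer] at hfr
    set N := normalizer (P : Set K) with hN
    have hNQ : ∀ q ∈ Q, q ∈ N → q = 1 := by
      intro q hq hqN
      have hPne : P ≠ ⊥ := by
        intro e
        rw [e, Subgroup.card_bot] at hPc
        rw [← hPc] at ha
        exact hMne (Subgroup.eq_bot_of_card_eq _ ha)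
      obtain ⟨x, hx, hx1⟩ := P.bot_or_exists_ne_one.resolve_left hPne
      have hc : q * x * q⁻¹ * x⁻¹ = 1 := by
        rw [← mem_bot, ← hPQ]
        refine ⟨P.mul_mem ((mem_normalizer_iff.1 hqN x).1 hx) (P.inv_mem hx), ?_⟩
        rw [show q * x * q⁻¹ * x⁻¹ = q * (x * q⁻¹ * x⁻¹) by group]
        exact Q.mul_mem hq (hQn.conj_mem _ (Q.inv_mem hq) x)
      rw [mul_inv_eq_one, mul_inv_eq_iff_eq_mul] at hc
      by_contra hq1
      exact hx1 (hcitK.eq_one_of_commute (Odd.of_dvd_nat (hPc ▸ (hp.odd_of_ne_two hp2).pow)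
        (Subgroup.orderOf_dvd_natCard _ hx)) (exists_two_pow_of_mem hQp hq) hq1 hc.symm)
    -- `N` has odd order
    have hNodd : Odd (Nat.card N) := by
      refine Nat.not_even_iff_odd.1 fun hev => ?_
      obtain ⟨s, hsN, hs⟩ := exists_invol_mem hev
      exact invol_ne_one hs (hNQ s (hinv s hs) hsN)
    obtain ⟨n, hn, q, hq, e⟩ : ∃ n ∈ N, ∃ q ∈ Q, n * q = t :=
      Subgroup.mem_sup_of_normal_right.1 (hfr.symm ▸ mem_top t)
    have hn1 : n = 1 := by
      have hnT : (n : G) ∈ (T : Subgroup G) := by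
        rw [show n = t * q⁻¹ by rw [← e, mul_inv_cancel_right]]
        exact mul_mem htT (inv_mem (hQT q hq))
      refine Subtype.ext (eq_one_of_mem_of_odd T.isPGroup' hnT ?_)
      rw [Subgroup.orderOf_coe]
      exact odd_orderOf_of_mem hNodd hn
    exact htQ (by rw [← e, hn1, one_mul]; exact hq)
  intro k hk t ht
  exact hQT _ (hQn.conj_mem _ (hTQ ⟨t, hTK ht⟩ ht) ⟨k, hk⟩)

/-- The action on the cosets of a strongly embedded subgroup is that of a Zassenhaus group whose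
kernel is a Sylow 2-subgroup. -/
theorem exists_kernel [IsSimpleGroup G] (hna : ∃ a b : G, a * b ≠ b * a) :
    Cfsg.IsZassenhausGroup G (G ⧸ K) ∧ ∃ (T : Sylow 2 G) (β : G ⧸ K), β ≠ QuotientGroup.mk 1 ∧
      (T : Subgroup G) ≤ K ∧ (∀ k ∈ K, ∀ t ∈ (T : Subgroup G), k * t * k⁻¹ ∈ (T : Subgroup G)) ∧
      (∀ c d : G ⧸ K, c ≠ QuotientGroup.mk 1 → d ≠ QuotientGroup.mk 1 →
        ∃! u : (T : Subgroup G), (u : G) • c = d) ∧ Odd (Nat.card (twoPoint K β)) := by
  obtain ⟨β, hβ⟩ := h.exists_beta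
  obtain ⟨T, z, hz, hzT, hC, hTK⟩ := h.exists_sylow
  have hnorm := h.sylow_normal hna hβ hz hzT hC hTK
  obtain ⟨t₁, ht₁T, ht₁, ht₁z⟩ := h.two_invol hna hz hzT hC
  set D := twoPoint K β with hD
  have hDne : ∃ d ∈ D, d ≠ 1 := by
    refine D.bot_or_exists_ne_one.resolve_left fun e => ht₁z ?_
    have h1 := h.card_twoPoint hβ
    rw [← hD, e, Subgroup.card_bot] at h1
    exact congrArg Subtype.val ((Nat.card_eq_one_iff_unique.1 h1.symm).1.elim
      (⟨t₁, ht₁, hTK ht₁T⟩ : {i : G // orderOf i = 2 ∧ i ∈ K}) ⟨z, hz, hTK hzT⟩)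
  -- the centraliser in `K` of a nontrivial element of a two point stabiliser
  have hcK : ∀ γ : G ⧸ K, γ ≠ QuotientGroup.mk 1 → ∀ d ∈ twoPoint K γ, d ≠ 1 →
      ∀ x ∈ K, Commute x d → x ∈ twoPoint K γ := by
    intro γ hγ d hd hd1 x hx hxd
    obtain ⟨e, he, c, hc, rfl⟩ := h.exists_mul hγ (hTK hzT) hz hx
    rw [hC] at hc
    have hcd : Commute c d := by
      have := (show Commute e d from h.comm hγ he hd).inv_left.mul_left hxd
      rwa [inv_mul_cancel_left] at this
    have : c = 1 := by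
      by_contra hc1
      exact hd1 (h.cit.eq_one_of_commute (odd_orderOf_of_mem (odd_twoPoint h.se hγ) hd)
        (exists_two_pow_of_mem T.isPGroup' hc) hc1 hcd.symm)
    rw [this, mul_one]
    exact he
  obtain ⟨d₀, hd₀, hd₀1⟩ := hDne
  -- the fixed points of a nontrivial element of `D` are the two points
  have hfix : ∀ d ∈ D, d ≠ 1 → ∀ γ : G ⧸ K, d • γ = γ → γ = QuotientGroup.mk 1 ∨ γ = β := by
    intro d hd hd1
    obtain ⟨hd0, hdβ⟩ := mem_twoPoint.1 hd
    set Φ := {γ : G ⧸ K // d • γ = γ} with hΦ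
    set C := centralizer ({d} : Set G) with hCdef
    letI : MulAction C Φ :=
      { smul := fun c γ => ⟨(c : G) • γ.1, by
          rw [← mul_smul, ← mem_centralizer_singleton_iff.1 c.2, mul_smul, γ.2]⟩
        one_smul := fun γ => Subtype.ext (one_smul G γ.1)
        mul_smul := fun c c' γ => Subtype.ext (mul_smul (c : G) c' γ.1) }
    have hsub : ∀ γ : G ⧸ K, γ ≠ QuotientGroup.mk 1 → d • γ = γ → twoPoint K γ = D := by
      intro γ hγ hdγ
      have hdγ' : d ∈ twoPoint K γ := mem_twoPoint.2 ⟨hd0, hdγ⟩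
      have hle : twoPoint K γ ≤ D := fun x hx => hcK β hβ d hd hd1 x hx.1 (h.comm hγ hx hdγ')
      exact CfsgLib.Solvable.eq_of_le_of_card_le hle
        (by rw [h.card_twoPoint hγ, hD, h.card_twoPoint hβ])
    -- stabilisers in `C`
    have hstab : ∀ γ : Φ, Nat.card (stabilizer C γ) = Nat.card D := by
      intro γ
      refine Nat.card_congr ⟨fun c => ⟨(c.1 : G), ?_⟩,
        fun x => ⟨⟨x.1, mem_centralizer_singleton_iff.2 (h.comm hβ x.2 hd)⟩, ?_⟩,
        fun c => Subtype.ext (Subtype.ext rfl), fun x => Subtype.ext rfl⟩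
      · have hc : (c.1 : G) • γ.1 = γ.1 := congrArg Subtype.val c.2
        have hcd : Commute (c.1 : G) d := mem_centralizer_singleton_iff.1 c.1.2
        refine hcK β hβ d hd hd1 _ ?_ hcd
        by_cases hγ : γ.1 = QuotientGroup.mk 1
        · rw [hγ] at hc
          exact smul_base_iff.1 hc
        · obtain ⟨g, hg⟩ := QuotientGroup.mk_surjective γ.1
          have hg1 : g • (QuotientGroup.mk 1 : G ⧸ K) = γ.1 := by
            rw [MulAction.Quotient.smul_mk, smul_eq_mul, mul_one, hg]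
          have hne : g⁻¹ • (QuotientGroup.mk 1 : G ⧸ K) ≠ QuotientGroup.mk 1 := fun e => hγ (by
            rw [← hg1]
            conv_lhs => rw [← e]
            rw [smul_inv_smul])
          have h1 := hcK _ hne (g⁻¹ * d * g) (mem_twoPoint.2
            ⟨by rw [mul_smul, mul_smul, hg1, γ.2, ← hg1, inv_smul_smul],
              by rw [mul_smul, mul_smul, smul_inv_smul, hd0]⟩)
            (fun e => hd1 (by simpa [mul_assoc] using congrArg (fun v => g * v * g⁻¹) e))
            (g⁻¹ * c.1 * g) (smul_base_iff.1 (by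
              rw [mul_smul, mul_smul, hg1, hc, ← hg1, inv_smul_smul]))
            (by simpa using hcd.map (MulAut.conj g⁻¹).toMonoidHom)
          have h2 := (mem_twoPoint.1 h1).2
          rw [mul_smul, mul_smul, smul_inv_smul] at h2
          exact smul_base_iff.1 (MulAction.injective g⁻¹ h2)
      · refine Subtype.ext ?_
        show (x : G) • γ.1 = γ.1
        by_cases hγ : γ.1 = QuotientGroup.mk 1
        · rw [hγ]
          exact smul_base_iff.2 x.2.1
        · exact (mem_twoPoint.1 ((hsub γ.1 hγ γ.2).symm ▸ x.2)).2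
    -- the involutions inverting `d`
    obtain ⟨w, hw, hwβ⟩ := se_swap_exists h.se hβ.symm
    have hwd : w * d * w⁻¹ = d⁻¹ := h.invert_base hβ hw hwβ hd
    have hCfpf : ∀ c ∈ C, ∀ i : G, orderOf i = 2 → Commute c i → c = 1 := by
      intro c hc i hi hci
      have hcodd : Odd (orderOf c) := by
        by_contra hcon
        obtain ⟨s, hs, hs2⟩ := exists_invol_mem (H := zpowers c) (by
          rw [Nat.card_zpowers]; exact Nat.not_odd_iff_even.1 hcon)
        obtain ⟨j, rfl⟩ := hs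
        exact hd1 (h.cit.eq_one_of_commute_invol (odd_orderOf_of_mem (odd_twoPoint h.se hβ) hd) hs2
          (Commute.zpow_right (mem_centralizer_singleton_iff.1 hc).symm j))
      exact h.cit.eq_one_of_commute_invol hcodd hi hci
    have hwC : ∀ c ∈ C, w * c * w⁻¹ = c⁻¹ := by
      refine inverts_of_fpf' hw (fun c hc => ?_) fun c hc e =>
        hCfpf c hc w hw (mul_inv_eq_iff_eq_mul.1 e).symm
      rw [hCdef, mem_centralizer_singleton_iff] at hc ⊢
      have hc' : Commute (w * c * w⁻¹) (w * d * w⁻¹) := by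
        simpa using (show Commute c d from hc).map (MulAut.conj w).toMonoidHom
      rw [hwd] at hc'
      simpa using hc'.inv_right.eq
    let e1 : C ≃ {i : G // orderOf i = 2 ∧ i * d * i⁻¹ = d⁻¹} :=
      { toFun := fun c => ⟨c.1 * w, by
          refine invol_of_mul_self ?_ (fun e => ?_)
          · calc c.1 * w * (c.1 * w) = c.1 * (w * c.1 * w⁻¹) * (w * w) := by group
              _ = 1 := by rw [hwC _ c.2, invol_mul_self hw, mul_inv_cancel, one_mul]
          · have hwC' : w ∈ C := by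
              rw [← inv_mem_iff (H := C), show w⁻¹ = (c : G) from (eq_inv_of_mul_eq_one_left e).symm]
              exact c.2
            exact invol_ne_one hw (hCfpf w hwC' w hw (Commute.refl w)),
          by
            rw [show c.1 * w * d * (c.1 * w)⁻¹ = c.1 * (w * d * w⁻¹) * c.1⁻¹ by group, hwd,
              mul_inv_eq_iff_eq_mul]
            exact (Commute.inv_right (mem_centralizer_singleton_iff.1 c.2)).eq⟩
        invFun := fun i => ⟨i.1 * w, mem_centralizer_singleton_iff.2 (by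
          calc i.1 * w * d = i.1 * (w * d * w⁻¹) * w := by group
            _ = (i.1 * d * i.1⁻¹)⁻¹ * i.1 * w := by rw [hwd]; group
            _ = d * (i.1 * w) := by rw [i.2.2, inv_inv, mul_assoc])⟩
        left_inv := fun c => Subtype.ext (by
          show c.1 * w * w = c.1
          rw [mul_assoc, invol_mul_self hw, mul_one])
        right_inv := fun i => Subtype.ext (by
          show i.1 * w * w = i.1
          rw [mul_assoc, invol_mul_self hw, mul_one]) }
    let γ₀ : Φ := ⟨QuotientGroup.mk 1, hd0⟩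
    -- such an involution moves the base point to a fixed point of `d`
    have hmove : ∀ i : G, orderOf i = 2 → i * d * i⁻¹ = d⁻¹ →
        i • (QuotientGroup.mk 1 : G ⧸ K) ≠ QuotientGroup.mk 1 := by
      intro i hi hid e
      have hiK := smul_base_iff.1 e
      have hiT : i ∈ (T : Subgroup G) := by
        obtain ⟨e', h1, -, hes⟩ := se_stab_transitive h.se hβ.symm hz hi
          (smul_base_iff.2 (hTK hzT)) e
        exact hes ▸ hnorm _ (smul_base_iff.1 h1) _ hzT
      have hmem : d * i * d⁻¹ * i⁻¹ ∈ (T : Subgroup G) :=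
        mul_mem (hnorm d hd.1 i hiT) (inv_mem hiT)
      have e2 : d * i * d⁻¹ * i⁻¹ = d * d := by
        rw [show d * i * d⁻¹ * i⁻¹ = d * (i * d * i⁻¹)⁻¹ by group, hid, inv_inv]
      rw [e2] at hmem
      have hodd := odd_orderOf_of_mem (odd_twoPoint h.se hβ) hd
      exact hd1 (eq_one_of_sq_of_odd (eq_one_of_mem_of_odd T.isPGroup' hmem
        (Odd.of_dvd_nat hodd (by rw [← pow_two]; exact orderOf_pow_dvd 2))) hodd)
    have hmoveΦ : ∀ i : G, orderOf i = 2 → i * d * i⁻¹ = d⁻¹ →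
        d • i • (QuotientGroup.mk 1 : G ⧸ K) = i • (QuotientGroup.mk 1 : G ⧸ K) := by
      intro i hi hid
      have e : d * i = i * d⁻¹ := by
        calc d * i = (i * d * i⁻¹)⁻¹ * i := by rw [hid, inv_inv]
          _ = i * d⁻¹ := by group
      rw [← mul_smul, e, mul_smul, inv_smul_eq_iff.2 hd0.symm]
    have hswap : ∀ γ : G ⧸ K, γ ≠ QuotientGroup.mk 1 → d • γ = γ → ∀ i : G, orderOf i = 2 →
        i • (QuotientGroup.mk 1 : G ⧸ K) = γ → i * d * i⁻¹ = d⁻¹ :=
      fun γ hγ hdγ i hi hiγ => h.invert hγ.symm hi hiγ hd0 hdγ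
    classical
    haveI : Fintype Φ := Fintype.ofFinite _
    haveI : Fintype (G ⧸ K) := Fintype.ofFinite _
    have hcount : Nat.card C = (Nat.card Φ - 1) * Nat.card D := by
      let e2 : {i : G // orderOf i = 2 ∧ i * d * i⁻¹ = d⁻¹} ≃
          Σ γ : {γ : Φ // γ ≠ γ₀}, {i : G // orderOf i = 2 ∧ i • (QuotientGroup.mk 1 : G ⧸ K) = γ.1.1} :=
        { toFun := fun i => ⟨⟨⟨i.1 • QuotientGroup.mk 1, hmoveΦ i.1 i.2.1 i.2.2⟩,
            fun e => hmove i.1 i.2.1 i.2.2 (congrArg Subtype.val e)⟩, ⟨i.1, i.2.1, rfl⟩⟩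
          invFun := fun p => ⟨p.2.1, p.2.2.1, hswap p.1.1.1
            (fun e => p.1.2 (Subtype.ext e)) p.1.1.2 p.2.1 p.2.2.1 p.2.2.2⟩
          left_inv := fun i => rfl
          right_inv := fun p => by
            obtain ⟨⟨⟨γ, h1⟩, h2⟩, i, hi, hiγ⟩ := p
            change i • (QuotientGroup.mk 1 : G ⧸ K) = γ at hiγ
            subst hiγ
            rfl }
      rw [Nat.card_congr (e1.trans e2), Nat.card_sigma,
        Finset.sum_congr rfl (fun γ _ => (se_card_swap h.se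
          (fun e => γ.2 (Subtype.ext e.symm))).trans (h.card_twoPoint hβ).symm)]
      rw [Finset.sum_const, smul_eq_mul, Finset.card_univ, Fintype.card_subtype_compl,
        Fintype.card_subtype_eq, Nat.card_eq_fintype_card (α := Φ)]
    have horb : ∀ γ : Φ, Nat.card (orbit C γ) = Nat.card Φ - 1 := by
      intro γ
      have h1 : Nat.card (orbit C γ) * Nat.card (stabilizer C γ) = Nat.card C := by
        rw [Nat.card_coe_set_eq, ← MulAction.index_stabilizer]
        exact Subgroup.index_mul_card _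
      rw [hstab, hcount] at h1
      exact Nat.eq_of_mul_eq_mul_right Nat.card_pos h1
    have hdvd : (Nat.card Φ - 1) ∣ Nat.card Φ := by
      haveI : Fintype (Quotient (MulAction.orbitRel C Φ)) := Fintype.ofFinite _
      obtain ⟨r, hr⟩ : ∃ r, Nat.card Φ - 1 = r := ⟨_, rfl⟩
      rw [hr] at horb ⊢
      rw [Nat.card_congr (MulAction.selfEquivSigmaOrbits C Φ), Nat.card_sigma]
      exact Finset.dvd_sum fun ω _ => (horb _).symm ▸ dvd_rfl
    have h2 : 2 ≤ Nat.card Φ := by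
      have : Nontrivial Φ := ⟨⟨γ₀, ⟨β, hdβ⟩, fun e => hβ (congrArg Subtype.val e).symm⟩⟩
      exact Finite.one_lt_card
    have hΦ2 : Nat.card Φ = 2 := by
      have h3 := Nat.le_of_dvd one_pos
        ((Nat.dvd_add_right (dvd_refl (Nat.card Φ - 1))).1 (by
          rwa [Nat.sub_add_cancel (by omega : 1 ≤ Nat.card Φ)]))
      omega
    intro γ hγ
    rw [or_iff_not_imp_left]
    intro hne
    by_contra hne'
    have h3 : ({⟨QuotientGroup.mk 1, hd0⟩, ⟨β, hdβ⟩, ⟨γ, hγ⟩} : Finset Φ).card = 3 := by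
      rw [Finset.card_insert_of_notMem ?_, Finset.card_pair ?_]
      · exact fun e => hne' (congrArg Subtype.val e).symm
      · rw [Finset.mem_insert, Finset.mem_singleton]
        rintro (e | e)
        · exact hβ (congrArg Subtype.val e).symm
        · exact hne (congrArg Subtype.val e).symm
    have := Finset.card_le_univ ({⟨QuotientGroup.mk 1, hd0⟩, ⟨β, hdβ⟩, ⟨γ, hγ⟩} : Finset Φ)
    rw [← Nat.card_eq_fintype_card] at this
    omega
  suffices htr : ∀ γ : G ⧸ K, γ ≠ QuotientGroup.mk 1 → ∃ n ∈ (T : Subgroup G), n • β = γ by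
    refine ⟨isZassenhaus_of h.se.1 hβ (fun γ hγ => ?_)
      (fun g hg hgβ hg1 => hfix g (mem_twoPoint.2 ⟨smul_base_iff.2 hg, hgβ⟩) hg1)
      ⟨d₀, hd₀.1, hd₀1, (mem_twoPoint.1 hd₀).2⟩, T, β, hβ, hTK, hnorm, fun c e hc he => ?_,
      odd_twoPoint h.se hβ⟩
    · obtain ⟨n, hn, hne⟩ := htr γ hγ
      exact ⟨n, hTK hn, hne⟩
    obtain ⟨n₁, hn₁, rfl⟩ := htr c hc
    obtain ⟨n₂, hn₂, rfl⟩ := htr e he
    refine ⟨⟨n₂ * n₁⁻¹, mul_mem hn₂ (inv_mem hn₁)⟩, by
      show (n₂ * n₁⁻¹) • n₁ • β = n₂ • β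
      rw [mul_smul, inv_smul_smul], fun u hu => Subtype.ext ?_⟩
    have hu' : (u : G) • n₁ • β = n₂ • β := hu
    have hmem : n₂⁻¹ * (u : G) * n₁ ∈ (T : Subgroup G) := mul_mem (mul_mem (inv_mem hn₂) u.2) hn₁
    have h1 : n₂⁻¹ * (u : G) * n₁ ∈ D :=
      mem_twoPoint.2 ⟨smul_base_iff.2 (hTK hmem), by rw [mul_smul, mul_smul, hu', inv_smul_smul]⟩
    have h2 := eq_one_of_mem_of_odd T.isPGroup' hmem (odd_orderOf_of_mem (odd_twoPoint h.se hβ) h1)
    show (u : G) = n₂ * n₁⁻¹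
    calc (u : G) = n₂ * (n₂⁻¹ * (u : G) * n₁) * n₁⁻¹ := by group
      _ = n₂ * n₁⁻¹ := by rw [h2, mul_one]
  intro γ hγ
  -- transitivity: the complements of `T` in `K` are conjugate
  have hsup : ∀ γ' : G ⧸ K, γ' ≠ QuotientGroup.mk 1 → (T : Subgroup G) ⊔ twoPoint K γ' = K := by
    intro γ' hγ'
    refine le_antisymm (sup_le hTK inf_le_left) fun k hk => ?_
    obtain ⟨e, he, c, hc, rfl⟩ := h.exists_mul hγ' (hTK hzT) hz hk
    rw [hC] at hc
    exact mul_mem (mem_sup_right he) (mem_sup_left hc)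
  have hnz : ∀ γ' : G ⧸ K, twoPoint K γ' ≤ normalizer ((T : Subgroup G) : Set G) := fun γ' x hx =>
    mem_normalizer_fintype fun t ht => hnorm x hx.1 t ht
  have hcop : ∀ γ' : G ⧸ K, γ' ≠ QuotientGroup.mk 1 →
      (Nat.card (twoPoint K γ')).Coprime (Nat.card (T : Subgroup G)) := by
    intro γ' hγ'
    obtain ⟨n, hn⟩ := T.isPGroup'.exists_card_eq
    rw [hn]
    exact (Nat.coprime_two_right.2 (odd_twoPoint h.se hγ')).pow_right n
  have hsolD : Group.IsSolvable D := Group.isSolvable_of_comm fun x y => Subtype.ext (h.comm hβ x.2 y.2)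
  obtain ⟨n, hn, hmap⟩ := CfsgLib.Coprime.exists_conj_eq_of_coprime (hnz β) (hnz γ)
    ((hsup β hβ).trans (hsup γ hγ).symm) (hcop β hβ) (hcop γ hγ) (Or.inl hsolD)
  have hmem : n * d₀ * n⁻¹ ∈ twoPoint K γ := by
    rw [hmap]
    exact ⟨d₀, hd₀, rfl⟩
  have h2 := (mem_twoPoint.1 hmem).2
  have h3 : d₀ • n⁻¹ • γ = n⁻¹ • γ := by
    rw [mul_smul, mul_smul] at h2
    exact (eq_inv_smul_iff.2 h2)
  rcases hfix d₀ hd₀ hd₀1 _ h3 with e | e
  · exact absurd (by
      rw [inv_smul_eq_iff] at e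
      exact e.trans (smul_base_iff.2 (hTK hn))) hγ
  · exact ⟨n, hn, (inv_smul_eq_iff.1 e).symm⟩

theorem isZassenhaus [IsSimpleGroup G] (hna : ∃ a b : G, a * b ≠ b * a) :
    Cfsg.IsZassenhausGroup G (G ⧸ K) :=
  (h.exists_kernel hna).1

end SEHyp

/-- The strongly embedded case of the classification. -/
theorem of_stronglyEmbedded [IsSimpleGroup G] (hna : ∃ a b : G, a * b ≠ b * a) (hc : IsCIT G)
    (hK : Cfsg.IsStronglyEmbedded K) :
    (∃ (F : Type) (_ : Field F) (_ : Fintype F),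
        Nonempty (G ≃* Matrix.ProjectiveSpecialLinearGroup (Fin 2) F)) ∨
      (Cfsg.IsSuzuki G ∧ Cfsg.Lie.IsoSuzuki G) := by
  classical
  obtain ⟨hZ, T, β, hβ, hTK, hnorm, hreg, hodd⟩ := (⟨hc, hK⟩ : SEHyp K).exists_kernel hna
  haveI := Fintype.ofFinite (G ⧸ K)
  set α : G ⧸ K := QuotientGroup.mk 1
  have hTle : (T : Subgroup G) ≤ stabilizer G α := fun t ht => smul_base_iff.2 (hTK ht)
  have hTn : ∀ g ∈ stabilizer G α, ∀ u ∈ (T : Subgroup G), g * u * g⁻¹ ∈ (T : Subgroup G) :=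
    fun g hg => hnorm g (smul_base_iff.1 hg)
  have hodd' : Odd (Nat.card ↥(stabilizer G α ⊓ stabilizer G β)) := by
    convert hodd using 3
    ext g
    simp [twoPoint, α, mem_stabilizer_iff, smul_base_iff]
  by_cases hab : ∀ u v : (T : Subgroup G), u * v = v * u
  · left
    have hTab : IsMulCommutative (T : Subgroup G) := ⟨⟨hab⟩⟩
    have hTn' : ((T : Subgroup G).subgroupOf (stabilizer G α)).Normal := ⟨fun u hu g => by
      rw [Subgroup.mem_subgroupOf] at hu ⊢
      exact hTn g g.2 u hu⟩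
    refine CfsgLib.Chev.ZassSimple.psl_of_large hZ hβ.symm hodd' ?_
    rcases CfsgLib.Perm.ZassenhausClass.classify hZ hβ.symm (T : Subgroup G) hTle hTn' hTab hreg with
      ⟨e, -, -⟩ | ⟨e, -⟩
    · omega
    · omega
  · push Not at hab
    exact Or.inr ⟨(CfsgLib.Chev.ZassSimple.suzuki_of_kernel hZ hβ.symm (T : Subgroup G) hTle hTn hreg
      T.isPGroup' hab).1, CfsgLib.Suzuki.Ident.isoSuzuki_of_kernel hZ hβ.symm (T : Subgroup G) hTle hTn
      hreg T.isPGroup' hab⟩

end CfsgLib.Invol.CIT
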