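import Cfsg.Agent.Lib.Invol.CIT.SpreadBase
import Cfsg.Agent.Lib.Invol.CIT.Strong
import Cfsg.Agent.Lib.Perm.ZassenhausClassify
import Cfsg.Agent.Lib.Transfer.Frobenius
import Cfsg.Agent.S0727

/-!
# A quadratic offender gives `SL₂(q)`

The conjugates of `U = C_V(A)` form a spread with `q + 1` members, `A` is regular on the members
other than `U`, the two-member stabilisers have odd order and no nontrivial element fixes three.
-/

set_option autoImplicit false

namespace CfsgLib.Invol.CIT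

open Subgroup MulAction
open CfsgLib.Recog.EPPOSeven (twoPoint mem_twoPoint smul_base_iff)

variable {X : Type*} [Group X] [Finite X] {V : Type*} [CommGroup V] [Finite V]
  {ρ : X →* MulAut V} {A : Subgroup X}

namespace Offender

variable (h : Offender ρ A)
include h

/-- The base point. -/
local notation "base" => (QuotientGroup.mk 1 : X ⧸ normalizer (A : Set X))

theorem fix_self {a : X} (ha : a ∈ A) : a • base = base :=
  smul_base_iff.2 (le_normalizer ha)

theorem eq_base {a : X} (ha : a ∈ A) (ha1 : a ≠ 1) {γ : X ⧸ normalizer (A : Set X)}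
    (hγ : a • γ = γ) : γ = base := by
  obtain ⟨g, rfl⟩ := QuotientGroup.mk_surjective γ
  have hN : g⁻¹ * a * g ∈ normalizer (A : Set X) := (fix_coset_iff a g).1 hγ
  have hmem : ∀ b ∈ A, g⁻¹ * a * g * b * (g⁻¹ * a * g)⁻¹ ∈ A := fun b hb =>
    (mem_normalizer_iff.1 hN b).1 hb
  have hmem' : ∀ b ∈ A, (g⁻¹ * a * g)⁻¹ * b * ((g⁻¹ * a * g)⁻¹)⁻¹ ∈ A := fun b hb =>
    (mem_normalizer_iff.1 (inv_mem hN) b).1 hb
  obtain ⟨u₀, hu₀, hu₀1⟩ := (fixedIn ρ (A : Set X)).bot_or_exists_ne_one.resolve_left fun e => by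
    have := h.one_lt_fixed
    rw [e, Subgroup.card_bot] at this
    exact lt_irrefl _ this
  set c := g⁻¹ * a * g with hc
  have hcc : c * c = 1 := by
    rw [hc, show g⁻¹ * a * g * (g⁻¹ * a * g) = g⁻¹ * (a * a) * g by group, h.sq a ha]
    group
  have hcu : ∀ u ∈ fixedIn ρ (A : Set X), ρ c u ∈ fixedIn ρ (A : Set X) := by
    intro u hu
    have := h.mem_normalizer_of (g := c⁻¹) hmem' hu
    rwa [inv_inv] at this
  obtain ⟨u, hu, hu1, hcu'⟩ : ∃ u ∈ fixedIn ρ (A : Set X), u ≠ 1 ∧ ρ c u = u := by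
    by_cases e : ρ c u₀ * u₀ = 1
    · exact ⟨u₀, hu₀, hu₀1, h.eq_of_mul_eq_one e⟩
    · refine ⟨_, (fixedIn ρ (A : Set X)).mul_mem (hcu u₀ hu₀) hu₀, e, ?_⟩
      rw [map_mul (ρ c), ← act_mul, hcc, act_one, mul_comm]
  have hv : ρ a (ρ g u) = ρ g u := by
    conv_rhs => rw [← hcu', ← act_mul]
    rw [← act_mul, hc, show g * (g⁻¹ * a * g) = a * g by group]
  have hv1 : ρ g u ≠ 1 := fun e => hu1 ((ρ g).injective (e.trans (map_one (ρ g)).symm))
  have := h.meet (g := g) hv1 (h.mem_of_fixed ha ha1 hu hv) (by rw [act_inv_self]; exact hu)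
  rw [QuotientGroup.eq, mul_one]
  exact inv_mem this

theorem inj_orbit {γ : X ⧸ normalizer (A : Set X)} (hγ : γ ≠ base) :
    Function.Injective fun a : A => (a : X) • γ := by
  intro a b e
  have e' : ((b : X)⁻¹ * a) • γ = γ := by
    rw [mul_smul]
    exact inv_smul_eq_iff.2 e
  by_contra hne
  exact hγ (h.eq_base (mul_mem (inv_mem b.2) a.2)
    (fun e1 => hne (Subtype.ext (inv_mul_eq_one.1 e1).symm)) e')

theorem inj_orbit' {γ : X ⧸ normalizer (A : Set X)} (hγ : γ ≠ base) {a b : X} (ha : a ∈ A)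
    (hb : b ∈ A) (e : a • γ = b • γ) : a = b :=
  congrArg Subtype.val (h.inj_orbit hγ (a₁ := ⟨a, ha⟩) (a₂ := ⟨b, hb⟩) e)

theorem card_points_le : Nat.card (X ⧸ normalizer (A : Set X)) ≤ Nat.card A + 1 := by
  classical
  set U := fixedIn ρ (A : Set X) with hU
  have hcard : Nat.card {u : U // u ≠ 1} = Nat.card U - 1 := by
    haveI := Fintype.ofFinite U
    rw [Nat.card_eq_fintype_card, Fintype.card_subtype_compl, Fintype.card_subtype_eq,
      ← Nat.card_eq_fintype_card]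
  have hcardV : Nat.card {v : V // v ≠ 1} = Nat.card V - 1 := by
    haveI := Fintype.ofFinite V
    rw [Nat.card_eq_fintype_card, Fintype.card_subtype_compl, Fintype.card_subtype_eq,
      ← Nat.card_eq_fintype_card]
  have hinj : Nat.card ((X ⧸ normalizer (A : Set X)) × {u : U // u ≠ 1}) ≤ Nat.card {v : V // v ≠ 1} := by
    refine Nat.card_le_card_of_injective (fun p => ⟨ρ p.1.out (p.2.1 : V), fun e => p.2.2 ?_⟩) ?_
    · exact Subtype.ext ((ρ p.1.out).injective (e.trans (map_one (ρ p.1.out)).symm))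
    · rintro ⟨γ, ⟨u, hu⟩, hu1⟩ ⟨δ, ⟨w, hw⟩, hw1⟩ e
      have e' : ρ γ.out u = ρ δ.out w := congrArg Subtype.val e
      have hm := h.meet (g := γ.out⁻¹ * δ.out) (v := u) (fun e1 => hu1 (Subtype.ext e1)) hu (by
        rw [mul_inv_rev, inv_inv, act_mul, e', act_inv_self]
        exact hw)
      obtain rfl : γ = δ := by
        rw [← QuotientGroup.out_eq' γ, ← QuotientGroup.out_eq' δ, QuotientGroup.eq]
        exact hm
      obtain rfl : u = w := (ρ γ.out).injective e'
      rfl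
  rw [Nat.card_prod, hcard, hcardV, h.card_V, ← hU] at hinj
  have hU2 := h.one_lt_fixed
  rw [← hU] at hU2
  rw [h.card_A.1, ← hU]
  obtain ⟨q, hq⟩ : ∃ q, Nat.card U = q + 2 := ⟨Nat.card U - 2, by omega⟩
  rw [hq] at hinj ⊢
  rw [show (q + 2) * (q + 2) - 1 = (q + 3) * (q + 1) by
    rw [show (q + 2) * (q + 2) = (q + 3) * (q + 1) + 1 by ring, Nat.add_sub_cancel],
    show q + 2 - 1 = q + 1 from rfl] at hinj
  exact Nat.le_of_mul_le_mul_right hinj (Nat.succ_pos q)

theorem exists_ne_base : ∃ γ : X ⧸ normalizer (A : Set X), γ ≠ base := by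
  by_contra! hall
  obtain ⟨a, ha, ha1⟩ := A.bot_or_exists_ne_one.resolve_left h.ne
  have hn : A.Normal := normalizer_eq_top_iff.1 (eq_top_iff.2 fun g _ => by
    have := hall (QuotientGroup.mk g)
    rwa [QuotientGroup.eq, mul_one, inv_mem_iff] at this)
  have hp : IsPGroup 2 A := fun a => ⟨1, Subtype.ext (by
    show ((a : A) : X) ^ 2 ^ 1 = 1
    rw [pow_one, pow_two, h.sq a a.2])⟩
  have hle := CfsgLib.Solvable.le_pCore hn hp
  rw [h.core] at hle
  exact ha1 (mem_bot.1 (hle ha))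

theorem orbit_eq {γ : X ⧸ normalizer (A : Set X)} (hγ : γ ≠ base) :
    ∀ δ : X ⧸ normalizer (A : Set X), δ ≠ base → ∃ a ∈ A, a • γ = δ := by
  classical
  haveI := Fintype.ofFinite (X ⧸ normalizer (A : Set X))
  let f : A → {δ : X ⧸ normalizer (A : Set X) // δ ≠ base} := fun a => ⟨(a : X) • γ, fun e => hγ (by
    rw [eq_inv_smul_iff.2 e, h.fix_self (inv_mem a.2)])⟩
  have hf : Function.Injective f := fun a b e => h.inj_orbit hγ (congrArg Subtype.val e)
  have hb : Function.Bijective f := hf.bijective_of_nat_card_le (by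
    have h1 := h.card_points_le
    rw [Nat.card_eq_fintype_card, Fintype.card_subtype_compl, Fintype.card_subtype_eq,
      ← Nat.card_eq_fintype_card]
    omega)
  intro δ hδ
  obtain ⟨a, ha⟩ := hb.2 ⟨δ, hδ⟩
  exact ⟨a, a.2, congrArg Subtype.val ha⟩

theorem card_points : Nat.card (X ⧸ normalizer (A : Set X)) = Nat.card A + 1 := by
  classical
  haveI := Fintype.ofFinite (X ⧸ normalizer (A : Set X))
  obtain ⟨γ, hγ⟩ := h.exists_ne_base
  refine le_antisymm h.card_points_le ?_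
  have := Nat.card_le_card_of_injective (fun a : A => (⟨(a : X) • γ, fun e => hγ (by
    rw [eq_inv_smul_iff.2 e, h.fix_self (inv_mem a.2)])⟩ : {δ : X ⧸ normalizer (A : Set X) // δ ≠ base}))
    fun a b e => h.inj_orbit hγ (congrArg Subtype.val e)
  rw [Nat.card_eq_fintype_card (α := {δ : X ⧸ normalizer (A : Set X) // δ ≠ base}),
    Fintype.card_subtype_compl, Fintype.card_subtype_eq, ← Nat.card_eq_fintype_card] at this
  have hpos : 0 < Nat.card (X ⧸ normalizer (A : Set X)) := Nat.card_pos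
  omega

theorem card_A_even : 2 ∣ Nat.card A := by
  obtain ⟨a, ha, ha1⟩ := A.bot_or_exists_ne_one.resolve_left h.ne
  rw [← h.invol ha ha1]
  exact Subgroup.orderOf_dvd_natCard _ ha

/-- Given three distinct points fixed by `d`, some element commuting with `d` fixes the first and
moves the second to the third. -/
theorem exists_comm {d : X} {x y z : X ⧸ normalizer (A : Set X)} (hyx : y ≠ x) (hzx : z ≠ x)
    (hx : d • x = x) (hy : d • y = y) (hz : d • z = z) :
    ∃ c : X, Commute c d ∧ c • x = x ∧ c • y = z := by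
  obtain ⟨g, rfl⟩ := QuotientGroup.mk_surjective x
  have hg : g • base = (g : X ⧸ normalizer (A : Set X)) := by
    rw [MulAction.Quotient.smul_mk, smul_eq_mul, mul_one]
  have hne : ∀ y : X ⧸ normalizer (A : Set X), y ≠ (g : X ⧸ normalizer (A : Set X)) → g⁻¹ • y ≠ base := by
    intro y hy e
    exact hy (by rw [← hg, ← e, smul_inv_smul])
  obtain ⟨a, ha, hay⟩ := h.orbit_eq (hne y hyx) (g⁻¹ • z) (hne z hzx)
  have key : ∀ p : X ⧸ normalizer (A : Set X), d • p = p → (g⁻¹ * d * g) • g⁻¹ • p = g⁻¹ • p := by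
    intro p hp
    rw [mul_smul, mul_smul, smul_inv_smul, hp]
  have hN : g⁻¹ * d * g ∈ normalizer (A : Set X) := (fix_coset_iff d g).1 hx
  have e2 : g⁻¹ * d * g * a * (g⁻¹ * d * g)⁻¹ = a := by
    have hmem := (mem_normalizer_iff.1 hN a).1 ha
    exact h.inj_orbit' (hne y hyx) hmem ha (by
      show (g⁻¹ * d * g * a * (g⁻¹ * d * g)⁻¹) • g⁻¹ • y = a • g⁻¹ • y
      rw [mul_smul _ (g⁻¹ * d * g)⁻¹, inv_smul_eq_iff.2 (key y hy).symm, mul_smul, hay, key z hz])
  refine ⟨g * a * g⁻¹, ?_, ?_, ?_⟩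
  · show g * a * g⁻¹ * d = d * (g * a * g⁻¹)
    calc g * a * g⁻¹ * d = g * (a * (g⁻¹ * d * g)) * g⁻¹ := by group
      _ = g * ((g⁻¹ * d * g * a * (g⁻¹ * d * g)⁻¹) * (g⁻¹ * d * g)) * g⁻¹ := by rw [e2]
      _ = d * (g * a * g⁻¹) := by group
  · rw [mul_smul, mul_smul, ← hg, inv_smul_smul, h.fix_self ha]
  · rw [mul_smul, mul_smul, hay, smul_inv_smul]

theorem odd_twoPoint {β : X ⧸ normalizer (A : Set X)} (hβ : β ≠ base) :
    Odd (Nat.card (twoPoint (normalizer (A : Set X)) β)) := by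
  haveI : Fact (Nat.Prime 2) := ⟨Nat.prime_two⟩
  refine Nat.not_even_iff_odd.1 fun hev => ?_
  obtain ⟨d, hdD, hd⟩ := exists_invol_mem hev
  obtain ⟨hd0, hdβ⟩ := mem_twoPoint.1 hdD
  -- `d` centralises a nontrivial element of `A`
  obtain ⟨a₀, ha₀, ha₀1⟩ := A.bot_or_exists_ne_one.resolve_left h.ne
  obtain ⟨a, ha, ha1, had⟩ : ∃ a ∈ A, a ≠ 1 ∧ Commute a d := by
    have hmem : d * a₀ * d⁻¹ ∈ A := (mem_normalizer_iff.1 hdD.1 a₀).1 ha₀
    by_cases e : d * a₀ * d⁻¹ * a₀ = 1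
    · refine ⟨a₀, ha₀, ha₀1, ?_⟩
      have e' : d * a₀ * d⁻¹ = a₀ := by
        rw [eq_inv_of_mul_eq_one_left e, inv_eq_of_mul_eq_one_left (h.sq a₀ ha₀)]
      exact (mul_inv_eq_iff_eq_mul.1 e').symm
    · refine ⟨_, mul_mem hmem ha₀, e, ?_⟩
      have hdd : d * (d * a₀ * d⁻¹) * d⁻¹ = a₀ := by
        rw [show d * (d * a₀ * d⁻¹) * d⁻¹ = (d * d) * a₀ * (d * d)⁻¹ by group, invol_mul_self hd]
        group
      have e' : d * (d * a₀ * d⁻¹ * a₀) * d⁻¹ = d * a₀ * d⁻¹ * a₀ := by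
        calc d * (d * a₀ * d⁻¹ * a₀) * d⁻¹ = (d * (d * a₀ * d⁻¹) * d⁻¹) * (d * a₀ * d⁻¹) := by group
          _ = a₀ * (d * a₀ * d⁻¹) := by rw [hdd]
          _ = _ := (h.comm hmem ha₀).symm
      exact (mul_inv_eq_iff_eq_mul.1 e').symm
  set Φ := {γ : X ⧸ normalizer (A : Set X) // d • γ = γ} with hΦ
  set C := centralizer ({d} : Set X) with hC
  letI : MulAction C Φ :=
    { smul := fun c γ => ⟨(c : X) • γ.1, by
        rw [← mul_smul, ← mem_centralizer_singleton_iff.1 c.2, mul_smul, γ.2]⟩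
      one_smul := fun γ => Subtype.ext (one_smul X γ.1)
      mul_smul := fun c c' γ => Subtype.ext (mul_smul (c : X) c' γ.1) }
  have hβ' : a • β ≠ base := fun e => hβ (by rw [eq_inv_smul_iff.2 e, h.fix_self (inv_mem ha)])
  have hβne : a • β ≠ β := fun e => hβ (h.eq_base ha ha1 e)
  have hdβ' : d • a • β = a • β := by rw [← mul_smul, ← had.eq, mul_smul, hdβ]
  have horb : ∀ γ : Φ, γ ∈ orbit C (⟨base, hd0⟩ : Φ) := by
    obtain ⟨c, hc, -, hcb⟩ := h.exists_comm (y := base) (z := a • β) (Ne.symm hβ) hβne hdβ hd0 hdβ'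
    intro γ
    by_cases hγ : γ.1 = base
    · exact ⟨1, Subtype.ext (by show (1 : X) • base = γ.1; rw [one_smul, hγ])⟩
    · obtain ⟨c', hc', -, hc'b⟩ := h.exists_comm (y := a • β) (z := γ.1) hβ' hγ hd0 hdβ' γ.2
      refine ⟨⟨c' * c, mem_centralizer_singleton_iff.2 (hc'.mul_left hc).eq⟩, Subtype.ext ?_⟩
      show (c' * c) • base = γ.1
      rw [mul_smul, hcb, hc'b]
  have hcardΦ : Nat.card Φ ∣ Nat.card C := by
    haveI : IsPretransitive C Φ := ⟨fun x y => by
      obtain ⟨c, hc⟩ := horb x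
      obtain ⟨c', hc'⟩ := horb y
      exact ⟨c' * c⁻¹, by rw [← hc, ← hc']; simp only [mul_smul, inv_smul_smul]⟩⟩
    rw [← MulAction.index_stabilizer_of_transitive C (⟨base, hd0⟩ : Φ)]
    exact Subgroup.index_dvd_card _
  -- the fixed points of `d` other than the base are an orbit of `C_A(d)`
  let B := {b : A // Commute (b : X) d}
  have hB : Nat.card Φ = Nat.card B + 1 := by
    classical
    haveI := Fintype.ofFinite Φ
    let f : B → {γ : Φ // γ ≠ ⟨base, hd0⟩} := fun b => ⟨⟨(b.1 : X) • β, by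
        rw [← mul_smul, ← b.2.eq, mul_smul, hdβ]⟩, fun e => hβ (by
        rw [eq_inv_smul_iff.2 (congrArg Subtype.val e), h.fix_self (inv_mem b.1.2)])⟩
    have hf : Function.Bijective f := by
      refine ⟨fun b b' e => Subtype.ext (h.inj_orbit hβ (congrArg (fun p => p.1.1) e)), ?_⟩
      rintro ⟨⟨γ, hγd⟩, hγ⟩
      have hγ' : γ ≠ base := fun e => hγ (Subtype.ext e)
      obtain ⟨b, hb, hbγ⟩ := h.orbit_eq hβ γ hγ'
      have hmem := (mem_normalizer_iff.1 hdD.1 b).1 hb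
      have e2 : d * b * d⁻¹ = b := h.inj_orbit' hβ hmem hb (by
        show (d * b * d⁻¹) • β = b • β
        rw [mul_smul, mul_smul, inv_smul_eq_iff.2 hdβ.symm, hbγ, hγd])
      exact ⟨⟨⟨b, hb⟩, (mul_inv_eq_iff_eq_mul.1 e2).symm⟩, Subtype.ext (Subtype.ext hbγ)⟩
    rw [Nat.card_congr (Equiv.ofBijective f hf), Nat.card_eq_fintype_card (α := {γ : Φ // γ ≠ ⟨base, hd0⟩}),
      Fintype.card_subtype_compl, Fintype.card_subtype_eq, ← Nat.card_eq_fintype_card]
    have : 0 < Nat.card Φ := by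
      haveI : Nonempty Φ := ⟨⟨base, hd0⟩⟩
      exact Nat.card_pos
    omega
  have hBeven : 2 ∣ Nat.card B := by
    let S : Subgroup X := A ⊓ C
    have e : Nat.card B = Nat.card S := Nat.card_congr
      ⟨fun b => ⟨b.1, b.1.2, mem_centralizer_singleton_iff.2 b.2.eq⟩,
        fun s => ⟨⟨s.1, s.2.1⟩, mem_centralizer_singleton_iff.1 s.2.2⟩,
        fun b => rfl, fun s => rfl⟩
    rw [e, ← h.invol ha ha1]
    exact Subgroup.orderOf_dvd_natCard _ ⟨ha, mem_centralizer_singleton_iff.2 had.eq⟩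
  obtain ⟨k, hk⟩ := (h.cit d hd).exists_card_eq
  rw [hC, hk] at hcardΦ
  obtain ⟨i, -, hi⟩ := (Nat.dvd_prime_pow Nat.prime_two).1 hcardΦ
  obtain ⟨c, hc⟩ := hBeven
  rcases i with _ | i
  · rw [pow_zero] at hi
    have : 0 < Nat.card B := by
      haveI : Nonempty B := ⟨⟨1, Commute.one_left d⟩⟩
      exact Nat.card_pos
    omega
  · rw [pow_succ] at hi
    omega

theorem three_fix {β γ : X ⧸ normalizer (A : Set X)} (hβ : β ≠ base) (hγ : γ ≠ base) (hγβ : γ ≠ β)
    {g : X} (h1 : g • base = base) (h2 : g • β = β) (h3 : g • γ = γ) : g = 1 := by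
  obtain ⟨a, ha, haγ⟩ := h.orbit_eq hβ γ hγ
  have hmem := (mem_normalizer_iff.1 (smul_base_iff.1 h1) a).1 ha
  have e2 : g * a * g⁻¹ = a := h.inj_orbit' hβ hmem ha (by
    show (g * a * g⁻¹) • β = a • β
    rw [mul_smul, mul_smul, inv_smul_eq_iff.2 h2.symm, haγ, h3])
  have ha1 : a ≠ 1 := fun e => hγβ (by rw [← haγ, e, one_smul])
  exact h.cit.eq_one_of_commute_invol
    (odd_orderOf_of_mem (h.odd_twoPoint hβ) (mem_twoPoint.2 ⟨h1, h2⟩)) (h.invol ha ha1)
    (mul_inv_eq_iff_eq_mul.1 e2)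

/-- The stabiliser of a point is `A` extended by a two-point stabiliser. -/
theorem exists_mul_twoPoint {β : X ⧸ normalizer (A : Set X)} (hβ : β ≠ base) {g : X}
    (hg : g ∈ normalizer (A : Set X)) :
    ∃ a ∈ A, ∃ d ∈ twoPoint (normalizer (A : Set X)) β, g = a * d := by
  have hne : g • β ≠ base := fun e => hβ (by
    rw [eq_inv_smul_iff.2 e]
    exact smul_base_iff.2 (inv_mem hg))
  obtain ⟨a, ha, hag⟩ := h.orbit_eq hβ _ hne
  refine ⟨a, ha, a⁻¹ * g, ⟨(normalizer (A : Set X)).mul_mem ((normalizer (A : Set X)).inv_mem (le_normalizer ha)) hg, ?_⟩, (mul_inv_cancel_left a g).symm⟩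
  show (a⁻¹ * g) • β = β
  rw [mul_smul, ← hag, inv_smul_smul]

theorem card_normalizer {β : X ⧸ normalizer (A : Set X)} (hβ : β ≠ base) :
    Nat.card (normalizer (A : Set X)) =
      Nat.card A * Nat.card (twoPoint (normalizer (A : Set X)) β) := by
  rw [← Nat.card_prod]
  refine (Nat.card_congr (Equiv.ofBijective
    (fun p : A × twoPoint (normalizer (A : Set X)) β =>
      (⟨p.1 * p.2, mul_mem (le_normalizer p.1.2) p.2.2.1⟩ : normalizer (A : Set X))) ⟨?_, ?_⟩)).symm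
  · rintro ⟨a, d⟩ ⟨a', d'⟩ e
    have e' : (a : X) * d = a' * d' := congrArg Subtype.val e
    have : a = a' := by
      refine h.inj_orbit hβ ?_
      show (a : X) • β = (a' : X) • β
      calc (a : X) • β = ((a : X) * d) • β := by rw [mul_smul, (mem_twoPoint.1 d.2).2]
        _ = (a' : X) • β := by rw [e', mul_smul, (mem_twoPoint.1 d'.2).2]
    subst this
    obtain rfl : d = d' := Subtype.ext (mul_left_cancel e')
    rfl
  · rintro ⟨g, hg⟩
    obtain ⟨a, ha, d, hd, rfl⟩ := h.exists_mul_twoPoint hβ hg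
    exact ⟨(⟨a, ha⟩, ⟨d, hd⟩), rfl⟩

theorem faithful {g : X} (hg : ∀ γ : X ⧸ normalizer (A : Set X), g • γ = γ) : g = 1 := by
  obtain ⟨β, hβ⟩ := h.exists_ne_base
  obtain ⟨a, ha, ha1⟩ := A.bot_or_exists_ne_one.resolve_left h.ne
  refine h.three_fix hβ (γ := a • β) (fun e => hβ ?_) (fun e => hβ (h.eq_base ha ha1 e))
    (hg _) (hg _) (hg _)
  rw [eq_inv_smul_iff.2 e, h.fix_self (inv_mem ha)]

theorem exists_twoPoint_ne_one (hq : 2 < Nat.card A) {β : X ⧸ normalizer (A : Set X)} (hβ : β ≠ base) :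
    ∃ d ∈ twoPoint (normalizer (A : Set X)) β, d ≠ 1 := by
  haveI : Fact (Nat.Prime 2) := ⟨Nat.prime_two⟩
  refine (twoPoint (normalizer (A : Set X)) β).bot_or_exists_ne_one.resolve_left fun e => ?_
  have hN : normalizer (A : Set X) = A := by
    refine (CfsgLib.Solvable.eq_of_le_of_card_le le_normalizer ?_).symm
    rw [h.card_normalizer hβ, e, Subgroup.card_bot, mul_one]
  have hAp : IsPGroup 2 A := fun a => ⟨1, Subtype.ext (by
    show ((a : A) : X) ^ 2 ^ 1 = 1
    rw [pow_one, pow_two, h.sq a a.2])⟩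
  obtain ⟨P, hP⟩ := hAp.exists_le_sylow
  have hPA : (P : Subgroup X) = A := by
    refine le_antisymm ?_ hP
    have hidx : A.index = Nat.card A + 1 := by
      rw [← h.card_points, Subgroup.index, hN]
    have h1 := Subgroup.relIndex_mul_index hP
    rw [hidx] at h1
    obtain ⟨k, hk⟩ := P.isPGroup'.exists_card_eq
    have hd : A.relIndex (P : Subgroup X) ∣ 2 ^ k := hk ▸ Subgroup.relIndex_dvd_card A (P : Subgroup X)
    obtain ⟨i, -, hi⟩ := (Nat.dvd_prime_pow Nat.prime_two).1 hd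
    obtain ⟨c, hc⟩ := h.card_A_even
    rcases i with _ | i
    · exact Subgroup.relIndex_eq_one.1 (by rw [hi, pow_zero])
    · rw [hi, pow_succ] at h1
      have : 2 ∣ Nat.card A + 1 := ⟨2 ^ i * (P : Subgroup X).index, by rw [← h1]; ring⟩
      omega
  have hnc := CfsgLib.Transfer.hasNormalPComplement_of_normalizer_le_centralizer P (by
    rw [hPA, hN]
    intro a ha
    exact mem_centralizer_iff.2 fun b hb => h.comm hb ha)
  obtain ⟨P', N, hNn, hc'⟩ := hnc
  have h2 := hc'.card_mul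
  have h3 : Nat.card X = (Nat.card A + 1) * Nat.card A := by
    rw [← Subgroup.card_mul_index A, ← h.card_points, Subgroup.index, hN, mul_comm]
  have h5 : Nat.card (P' : Subgroup X) = Nat.card A := by
    rw [Sylow.card_eq_multiplicity, ← hPA, Sylow.card_eq_multiplicity]
  rw [h3, h5] at h2
  have h6 : Nat.card N = Nat.card A + 1 := Nat.eq_of_mul_eq_mul_right Nat.card_pos h2
  have hodd : Odd (Nat.card N) := by
    obtain ⟨c, hc⟩ := h.card_A_even
    rw [h6, hc]
    exact ⟨c, rfl⟩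
  have hNne : N ≠ ⊥ := by
    intro e'
    rw [e', Subgroup.card_bot] at h6
    omega
  obtain ⟨a, ha, ha1⟩ := A.bot_or_exists_ne_one.resolve_left h.ne
  obtain ⟨b, hb, hb1, hba⟩ : ∃ b ∈ A, b ≠ 1 ∧ b ≠ a := by
    by_contra! hall
    have hsub : (A : Set X) ⊆ {1, a} := fun b hb => by
      by_cases hb1 : b = 1
      · exact Or.inl hb1
      · exact Or.inr (hall b hb hb1)
    have := Set.ncard_le_ncard hsub (Set.toFinite _)
    rw [Set.ncard_pair ha1.symm, ← Nat.card_coe_set_eq] at this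
    exact absurd hq (not_lt.2 this)
  exact hba (h.cit.invol_eq_of_odd_normal (N := N) hNne hodd (h.invol hb hb1) (h.invol ha ha1)
    (h.comm hb ha))

end Offender

end CfsgLib.Invol.CIT
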